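import Cfsg.Agent.GraphTwist.Roots

/-!
# Faithfulness of the folded action from an equivariant projection of the roots
-/

set_option autoImplicit false

namespace CfsgLib.GraphTwist

open Cfsg.Lie CfsgLib.Chevalley

namespace Cfg

variable {D : ChevalleyDatum} (T : Cfg D)

/-- `P` is an equivariant map of the roots onto a set of `n'` points moved by the table `R'`. -/
def chkProj (R' : Weyl.RootTable) (n' : ℕ) (P : List ℕ) : Bool :=
  decide (P.length = D.nroots) &&
    (List.range D.nroots).all (fun r => decide (P.getD r 0 < n') &&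
      (List.range T.m).all fun o => decide (P.getD (T.wO o r) 0 = Weyl.rstep R' o (P.getD r 0))) &&
    (List.range n').all fun v => (List.range D.nroots).any fun r => decide (P.getD r 0 = v)

end Cfg

namespace Setup

variable {D : ChevalleyDatum} (τ : Setup D)

theorem faithful_of_proj {n' : ℕ} (ρ : τ.cfg.M.Group →* Equiv.Perm (Fin n'))
    (hρ : Function.Injective ρ) (R' : Weyl.RootTable)
    (hsimple : ∀ (o : Fin τ.cfg.m) (v : Fin n'),
      (ρ (τ.cfg.M.simple o) v : ℕ) = Weyl.rstep R' o v)
    {P : List ℕ} (hP : τ.cfg.chkProj R' n' P = true) : τ.Faithful := by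
  simp only [Cfg.chkProj, Bool.and_eq_true, decide_eq_true_eq, List.all_eq_true, List.mem_range,
    List.any_eq_true] at hP
  obtain ⟨⟨-, hP1⟩, hP2⟩ := hP
  have hlt : ∀ r : Root D, P.getD r 0 < n' := fun r => (hP1 r r.2).1
  have key : ∀ (w : τ.cfg.M.Group) (r : Root D),
      P.getD (τ.θ w r : Root D) 0 = ρ w ⟨P.getD r 0, hlt r⟩ := by
    intro w
    induction w using τ.cfg.M.toCoxeterSystem.simple_induction_left with
    | one => intro r; simp
    | mul_simple_left w o ih =>
      intro r
      rw [CoxeterMatrix.toCoxeterSystem_simple, map_mul, map_mul, τ.θ_simple,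
        Equiv.Perm.mul_apply, Equiv.Perm.mul_apply, τ.wR_val, (hP1 _ (τ.θ w r).2).2 o o.2, ih r,
        hsimple]
  intro v w h
  refine hρ (Equiv.ext fun x => ?_)
  obtain ⟨r, hr, e⟩ := hP2 x x.2
  have e' : (⟨P.getD (⟨r, hr⟩ : Root D) 0, hlt _⟩ : Fin n') = x := Fin.ext e
  apply Fin.ext
  rw [← e', ← key v, ← key w, h]

end Setup

end CfsgLib.GraphTwist
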