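import Cfsg.Agent.Weyl.Poincare

/-!
# Weighted Poincaré polynomials of finite Weyl groups

For a weight `c` on the roots constant on the orbits, `∑_w q ^ (weight of the inversion set of w)`
is the product over the levels of the chain of the generating functions of the representatives.
-/

set_option autoImplicit false

namespace CfsgLib.GraphTwist

open Cfsg.Lie CfsgLib.Weyl

variable {D : ChevalleyDatum} {C : Cert D.rank} {M : CoxeterMatrix (Fin D.rank)} {R : RootTable}

/-- The weight of the inversion set. -/
def wlen (h : RootGood C M R) (c : ℕ → ℕ) (w : M.Group) : ℕ := ∑ r ∈ h.invSet w, c r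

/-- The weight is constant on the orbits. -/
def chkInv (D : ChevalleyDatum) (R : RootTable) (c : ℕ → ℕ) : Bool :=
  (List.range D.rank).all fun i => (List.range D.nroots).all fun r =>
    decide (c (rstep R i r) = c r)

/-- The weight of the inversion set of a word, read in the table. -/
def wordWt (D : ChevalleyDatum) (R : RootTable) (c : ℕ → ℕ) (w : List ℕ) : ℕ :=
  (((List.range D.nroots).filter fun r => R.mask.testBit r && !R.mask.testBit (rwalk R w r)).map
    c).sum

/-- The generating function of the weights of one level. -/
def wPoly (D : ChevalleyDatum) (R : RootTable) (c : ℕ → ℕ) (L : Level) : List ℕ :=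
  countList ((List.range L.T.length).map fun r => wordWt D R c (L.reps.getD r []))

variable (h : RootGood C M R) (c : ℕ → ℕ)

theorem weight_rootPerm (hc : chkInv D R c = true) (w : M.Group) (r : Fin D.nroots) :
    c (h.rootPerm w r : Fin D.nroots) = c r := by
  simp only [chkInv, List.all_eq_true, List.mem_range, decide_eq_true_eq] at hc
  induction w using M.toCoxeterSystem.simple_induction_left generalizing r with
  | one => simp
  | mul_simple_left w i ih =>
    rw [map_mul, Equiv.Perm.mul_apply, CoxeterMatrix.toCoxeterSystem_simple,
      h.rootPerm_simple_step, hc i i.2 _ (h.rootPerm w r).2, ih]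

theorem wlen_mul (hc : chkInv D R c = true) (u g : M.Group)
    (hl : M.toCoxeterSystem.length (u * g) =
      M.toCoxeterSystem.length u + M.toCoxeterSystem.length g) :
    wlen h c (u * g) = wlen h c u + wlen h c g := by
  simp only [h.length_eq_card_invSet] at hl
  set T := (h.invSet u).image (h.rootPerm g).symm with hT
  have hcard : T.card = (h.invSet u).card :=
    Finset.card_image_of_injective _ (h.rootPerm g).symm.injective
  have hsub : h.invSet (u * g) ⊆ h.invSet g ∪ T := by
    intro r hr
    rw [h.mem_invSet, map_mul, Equiv.Perm.mul_apply] at hr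
    rw [Finset.mem_union]
    by_cases hp : PosIdx (h.rootPerm g r)
    · exact Or.inr (Finset.mem_image.2 ⟨_, h.mem_invSet.2 ⟨hp, hr.2⟩, Equiv.symm_apply_apply _ r⟩)
    · exact Or.inl (h.mem_invSet.2 ⟨hr.1, hp⟩)
  have hle := Finset.card_union_le (h.invSet g) T
  have heq : h.invSet (u * g) = h.invSet g ∪ T :=
    Finset.eq_of_subset_of_card_le hsub (by omega)
  have hd : Disjoint (h.invSet g) T :=
    Finset.card_union_eq_card_add_card.1 (by rw [← heq]; omega)
  rw [wlen, wlen, wlen, heq, Finset.sum_union hd, hT,
    Finset.sum_image fun a _ b _ e => (h.rootPerm g).symm.injective e, add_comm]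
  congr 1
  refine Finset.sum_congr rfl fun x _ => ?_
  conv_rhs => rw [← Equiv.apply_symm_apply (h.rootPerm g) x, weight_rootPerm h c hc]

theorem wlen_one : wlen h c 1 = 0 := by
  simp [wlen, RootGood.invSet]

theorem wlen_word (w : List ℕ) (hw : ∀ j ∈ w, j < D.rank) :
    wlen h c (wordProd (simpleNat M) w) = wordWt D R c w := by
  rw [wlen, RootGood.invSet, Finset.sum_filter, wordWt,
    ← List.sum_toFinset _ (List.nodup_range.filter _), List.toFinset_filter, List.toFinset_range,
    Finset.sum_filter, Finset.sum_range]
  refine Finset.sum_congr rfl fun r _ => if_congr ?_ rfl rfl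
  have hwk := h.rootPerm_wordProd w hw r
  rw [Bool.and_eq_true, Bool.not_eq_true', ← Bool.not_eq_true, ← hwk, h.mask_iff r.2,
    h.mask_iff (h.rootPerm (wordProd (simpleNat M) w) r).2]
  rfl

variable {S : Type*} [CommSemiring S]

theorem sum_wlen_aux [Fintype M.Group] (hc : chkInv D R c = true) (q : S) :
    ∀ (Ls : List Level) (base : List ℕ),
    chainOk C M base Ls = true → chainRootOk D R base Ls = true → (∀ j ∈ base, j < D.rank) →
    ∀ [DecidablePred (· ∈ genSub (simpleNat M) base)],
    ∑ w : M.Group, q ^ wlen h c w =
      (Ls.map fun L => evalList q (wPoly D R c L)).prod *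
        ∑ g ∈ Finset.univ.filter (· ∈ genSub (simpleNat M) base), q ^ wlen h c g := by
  intro Ls
  induction Ls with
  | nil =>
    intro base hco _ _ _
    simp only [chainOk, List.all_eq_true, List.mem_range, List.contains_iff_mem] at hco
    rw [List.map_nil, List.prod_nil, one_mul, Finset.filter_true_of_mem]
    simp [genSub_all M hco]
  | cons L Ls ih =>
    intro base hco hr hb _
    classical
    simp only [chainOk, Bool.and_eq_true] at hco
    simp only [chainRootOk, Bool.and_eq_true] at hr
    obtain ⟨hT, hnode, hinj, -⟩ := Cert.Good.level_facts hco.1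
    have hb' : ∀ j ∈ base ++ [L.node], j < D.rank := by
      intro j hj
      rcases List.mem_append.mp hj with h' | h'
      · exact hb j h'
      · rw [List.mem_singleton.mp h']; exact hnode
    have hlt : ∀ i < L.T.length, ∀ j ∈ L.reps.getD i [], j < D.rank := by
      intro i hi j hj
      simp only [checkTable, Bool.and_eq_true, List.all_eq_true, List.contains_iff_mem,
        List.mem_range] at hT
      exact hb' j ((hT.1.2 i hi).1.1 j hj)
    rw [ih _ hco.2 hr.2 hb', List.map_cons, List.prod_cons, mul_comm (evalList q (wPoly D R c L)),
      mul_assoc]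
    congr 1
    rw [wPoly, evalList_countList, List.map_map,
      show ((List.range L.T.length).map
          ((q ^ ·) ∘ fun r => wordWt D R c (L.reps.getD r []))).sum =
        ∑ i : Fin L.T.length, q ^ wordWt D R c (L.reps.getD i []) by
        rw [← List.sum_ofFn, List.ofFn_eq_map, ← List.map_coe_finRange_eq_range, List.map_map]
        rfl,
      Finset.sum_mul_sum, ← Finset.sum_product']
    symm
    refine Finset.sum_bij (fun p _ => wordProd (simpleNat M) (L.reps.getD p.1 []) * p.2)
      ?_ ?_ ?_ ?_
    · intro p hp
      simp only [Finset.mem_product, Finset.mem_filter, Finset.mem_univ, true_and] at hp ⊢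
      exact mul_mem (rep_mem hT p.1.2) (genSub_base_le hT hp)
    · intro p hp p' hp' he
      simp only [Finset.mem_product, Finset.mem_filter, Finset.mem_univ, true_and] at hp hp'
      have h1 := congrArg (fun g => h.good.repFun g (toVec D.rank (L.pts.getD 0 []))) he
      simp only [map_mul] at h1
      change h.good.repFun _ (h.good.repFun p.2 _) =
        h.good.repFun _ (h.good.repFun p'.2 _) at h1
      rw [base_fix h.good.repFun (fun r => toVec D.rank (L.pts.getD r []))
          (h.good.level_hfix hco.1 hb) hp,
        base_fix h.good.repFun (fun r => toVec D.rank (L.pts.getD r []))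
          (h.good.level_hfix hco.1 hb) hp',
        rep_apply hT h.good.repFun (fun r => toVec D.rank (L.pts.getD r []))
          (h.good.level_hP hco.1 hb) p.1.2,
        rep_apply hT h.good.repFun (fun r => toVec D.rank (L.pts.getD r []))
          (h.good.level_hP hco.1 hb) p'.1.2] at h1
      have h2 : p.1 = p'.1 := Fin.ext (hinj _ p.1.2 _ p'.1.2 h1)
      rw [h2] at he
      exact Prod.ext h2 (mul_left_cancel he)
    · intro g hg
      simp only [Finset.mem_filter, Finset.mem_univ, true_and] at hg
      obtain ⟨i, hi, hgi⟩ := exists_row (simpleNat_mul_self M) (wordProd_relWords M) hT hg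
      exact ⟨(⟨i, hi⟩, (wordProd (simpleNat M) (L.reps.getD i []))⁻¹ * g),
        by simpa using QuotientGroup.eq.mp hgi.symm, mul_inv_cancel_left _ _⟩
    · intro p hp
      simp only [Finset.mem_product, Finset.mem_filter, Finset.mem_univ, true_and] at hp
      rw [wlen_mul h c hc _ _ (h.length_mul_rep hr.1 (hlt _ p.1.2) p.1.2 hp),
        wlen_word h c _ (hlt _ p.1.2), pow_add]

/-- The weighted Poincaré polynomial. -/
theorem sum_pow_wlen [Fintype M.Group] (hc : chkInv D R c = true) (q : S) :
    ∑ w : M.Group, q ^ wlen h c w = (C.levels.map fun L => evalList q (wPoly D R c L)).prod := by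
  classical
  rw [sum_wlen_aux h c hc q C.levels [] h.good.chain h.levels (by simp)]
  convert mul_one _
  rw [Finset.sum_eq_single 1] <;> simp [genSub, wlen_one]

/-- The weighted Poincaré polynomial against a target. -/
theorem sum_pow_wlen_mul [Fintype M.Group] (hc : chkInv D R c = true) (q : S) (X : List ℕ)
    (Y : List (List ℕ))
    (hd : prodList (X :: C.levels.map (wPoly D R c)) = prodList Y) :
    evalList q X * ∑ w : M.Group, q ^ wlen h c w = (Y.map (evalList q)).prod := by
  rw [sum_pow_wlen h c hc q]
  have := congrArg (evalList q) hd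
  simpa [evalList_prodList, List.map_map, Function.comp_def] using this

end CfsgLib.GraphTwist
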