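import Cfsg.Agent.GraphTwist.BN
import Cfsg.Agent.GraphTwist.Faithful
import Cfsg.Agent.GraphTwist.WeightSum
import Cfsg.Agent.Chevalley.BruhatUnique

/-!
# The order of a twisted group

Every element of the twisted group is `b n v` with `b` in its Borel subgroup, `n` a chosen
representative of an element `w` of the folded group and `v` a fixed point in `U_w`, uniquely; the
fixed points in `U_w` correspond to admissible parameters on the orbits of roots made negative.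
-/

set_option autoImplicit false

namespace CfsgLib.GraphTwist

open Cfsg.Lie CfsgLib.Chevalley CfsgLib.Twisted
open scoped MatrixGroups

namespace Setup

variable {D : ChevalleyDatum} (τ : Setup D)

/-- The positive roots made negative by an element of the folded group. -/
def invR (w : τ.cfg.M.Group) : Set (Root D) :=
  {r | half D ≤ (r : ℕ) ∧ (τ.θ w r : ℕ) < half D}

/-- Their number. -/
noncomputable def wt (w : τ.cfg.M.Group) : ℕ := Nat.card ↥(τ.invR w)

theorem θ_comm (w : τ.cfg.M.Group) (r : Root D) : τ.θ w (τ.σR r) = τ.σR (τ.θ w r) := by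
  induction w using τ.cfg.M.toCoxeterSystem.simple_induction_left generalizing r with
  | one => simp
  | mul_simple_left w o ih =>
    rw [map_mul, Equiv.Perm.mul_apply, Equiv.Perm.mul_apply, CoxeterMatrix.toCoxeterSystem_simple,
      τ.θ_simple, ih]
    exact ((⟨RingEquiv.refl ℚ, fun _ => Function.iterate_id _ ▸ rfl⟩ : FieldTwist τ ℚ)).monBy_comm
      (FieldTwist.monBy_nO _ o) (FieldTwist.nO_mem_fix _ o) _

theorem invR_σR (w : τ.cfg.M.Group) {r : Root D} (hr : r ∈ τ.invR w) : τ.σR r ∈ τ.invR w := by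
  refine ⟨(τ.σR_pos r).2 hr.1, ?_⟩
  rw [τ.θ_comm]
  have := τ.σR_pos (τ.θ w r)
  have := hr.2
  omega

theorem invR_orb (w : τ.cfg.M.Group) {r a : Root D} (ha : a ∈ τ.orb r) :
    a ∈ τ.invR w ↔ r ∈ τ.invR w := by
  have key : ∀ {r a : Root D}, a ∈ τ.orb r → r ∈ τ.invR w → a ∈ τ.invR w := by
    intro r a ha hr
    obtain ⟨j, rfl⟩ := τ.mem_orb_iff.1 ha
    clear ha
    induction j with
    | zero => exact hr
    | succ j ih => rw [pow_succ', Equiv.Perm.mul_apply]; exact τ.invR_σR w ih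
  exact ⟨fun h => key (τ.orb_disjoint ha (τ.self_mem_orb a)) h, key ha⟩

end Setup

namespace FieldTwist

variable {D : ChevalleyDatum} {τ : Setup D} {K : Type*} [Field K] (Φ : FieldTwist τ K)

/-- The coordinates of a product of orbit root elements. -/
noncomputable def coord (x : Fin τ.norb → K) (r : Root D) : K :=
  open Classical in
  if h : τ.cfg.orbPos r < τ.norb then
    Φ.tw ((τ.orb (τ.rep ⟨_, h⟩)).idxOf r) (τ.rep ⟨_, h⟩) (x ⟨_, h⟩)
  else 0

theorem coord_orb (x : Fin τ.norb → K) (i : Fin τ.norb) {j : ℕ} (hj : j < τ.osize (τ.rep i)) :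
    Φ.coord x ((τ.σR ^ j) (τ.rep i)) = Φ.tw j (τ.rep i) (x i) := by
  have hm : (τ.σR ^ j) (τ.rep i) ∈ τ.orb (τ.rep i) := τ.mem_orb_iff.2 ⟨j, rfl⟩
  have hp := τ.orbPos_eq hm
  have hlt : τ.cfg.orbPos ((τ.σR ^ j) (τ.rep i) : Root D) < τ.norb := hp ▸ i.2
  rw [coord, dif_pos hlt, show (⟨_, hlt⟩ : Fin τ.norb) = i from Fin.ext hp]
  congr 1
  have hlen : j < (τ.orb (τ.rep i)).length := by simpa [Setup.orb] using hj
  rw [show (τ.σR ^ j) (τ.rep i) = (τ.orb (τ.rep i))[j] by simp [Setup.orb]]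
  exact (τ.orb_nodup _).idxOf_getElem j hlen

theorem coord_rep (x : Fin τ.norb → K) (i : Fin τ.norb) : Φ.coord x (τ.rep i) = x i :=
  Φ.coord_orb x i (j := 0) (τ.osize_pos _)

theorem oX_rep (x : Fin τ.norb → K) (i : Fin τ.norb) :
    Φ.oX (τ.rep i) (x i) = τ.orbMul (τ.rep i) (Φ.coord x) := by
  rw [oX, Setup.orbMul, Setup.orb, List.map_map]
  refine congrArg List.prod (List.map_congr_left fun j hj => ?_)
  rw [Function.comp_apply, Ψ_pow_X, Φ.coord_orb x i (List.mem_range.1 hj)]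

/-- An element of `U` from its parameters. -/
noncomputable def uProd (x : Fin τ.norb → K) : GL D.Idx K := τ.tailMul 0 (Φ.coord x)

theorem factor_eq_oX (x : Fin τ.norb → K) (j : ℕ) :
    τ.factor (Φ.coord x) j = if h : j < τ.norb then Φ.oX (τ.rep ⟨j, h⟩) (x ⟨j, h⟩) else 1 := by
  rw [Setup.factor]
  split
  · rw [oX_rep]
  · rfl

theorem uProd_mem {x : Fin τ.norb → K} (hx : ∀ i, Φ.Adm (τ.rep i) (x i)) :
    Φ.uProd x ∈ Φ.U1 := by
  refine Subgroup.mem_inf.2 ⟨τ.uT_zero (K := K) ▸ τ.tailMul_mem 0 _, ?_⟩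
  refine Subgroup.list_prod_mem _ fun g hg => ?_
  obtain ⟨j, -, rfl⟩ := List.mem_map.1 hg
  rw [factor_eq_oX]
  split
  · exact Φ.oX_mem_fix (hx _)
  · exact one_mem _

variable [Finite K]

theorem uProd_injective {x y : Fin τ.norb → K} (h : Φ.uProd x = Φ.uProd y) : x = y :=
  funext fun i => by
    rw [← Φ.coord_rep x i, ← Φ.coord_rep y i, τ.tailMul_injective h (τ.rep_pos i)]

theorem sum_osize : ∑ i : Fin τ.norb, τ.osize (τ.rep i) = half D := by
  have := (List.isPerm_iff.1 τ.valid.posPerm).length_eq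
  rw [List.length_flatMap, List.length_range'] at this
  rw [← this, ← Fin.sum_univ_getElem (τ.cfg.reps.map _)]
  refine Fintype.sum_equiv (finCongr (List.length_map _).symm) _ _ fun i => ?_
  simp [Setup.osize, Setup.rep, Cfg.orbN]
  rfl

theorem exists_uProd {q : ℕ} (hfix : Nat.card {x : K // Φ.f x = x} = q)
    (hK : Nat.card K = q ^ τ.cfg.k) {g : GL D.Idx K} (hg : g ∈ Φ.U1) :
    ∃ x, (∀ i, Φ.Adm (τ.rep i) (x i)) ∧ Φ.uProd x = g := by
  classical
  let F := ∀ i : Fin τ.norb, {t : K // Φ.Adm (τ.rep i) t}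
  let φ : F → ↥Φ.U1 := fun x => ⟨Φ.uProd fun i => (x i).1, Φ.uProd_mem fun i => (x i).2⟩
  have hinj : Function.Injective φ := fun x y e => funext fun i =>
    Subtype.ext (congrFun (Φ.uProd_injective (congrArg Subtype.val e)) i)
  have hc : Nat.card ↥Φ.U1 = Nat.card F := by
    rw [Φ.natCard_u1 hfix hK, Nat.card_pi,
      Finset.prod_congr rfl fun i _ => Φ.natCard_adm hfix hK (τ.rep i),
      Finset.prod_pow_eq_pow_sum, sum_osize]
  obtain ⟨x, hx⟩ := (hinj.bijective_of_nat_card_le hc.le).2 ⟨g, hg⟩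
  exact ⟨_, fun i => (x i).2, congrArg Subtype.val hx⟩

theorem uProd_mem_iff (w : τ.cfg.M.Group)
    (hcard : Nat.card ↥(rootGen τ.good.good K (τ.invR w)) = Nat.card K ^ τ.wt w)
    (x : Fin τ.norb → K) :
    Φ.uProd x ∈ rootGen τ.good.good K (τ.invR w) ↔ ∀ i, τ.rep i ∉ τ.invR w → x i = 0 := by
  classical
  constructor
  · intro h i hi
    let ext0 : (↥(τ.invR w) → K) → Root D → K := fun v r => if h : r ∈ τ.invR w then v ⟨r, h⟩ else 0
    have hmem : ∀ v, τ.tailMul 0 (ext0 v) ∈ rootGen τ.good.good K (τ.invR w) := by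
      intro v
      refine Subgroup.list_prod_mem _ fun g hg => ?_
      obtain ⟨j, -, rfl⟩ := List.mem_map.1 hg
      rw [Setup.factor]
      split
      · refine Subgroup.list_prod_mem _ fun y hy => ?_
        obtain ⟨a, -, rfl⟩ := List.mem_map.1 hy
        by_cases ha : a ∈ τ.invR w
        · exact X_mem_rootGen _ ha _
        · rw [show ext0 v a = 0 from dif_neg ha, X_zero]; exact one_mem _
      · exact one_mem _
    let φ : (↥(τ.invR w) → K) → ↥(rootGen τ.good.good K (τ.invR w)) := fun v => ⟨_, hmem v⟩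
    have hinj : Function.Injective φ := fun v v' e => funext fun r => by
      have := τ.tailMul_injective (congrArg Subtype.val e) r.2.1
      simpa [ext0, r.2] using this
    have hc : Nat.card ↥(rootGen τ.good.good K (τ.invR w)) = Nat.card (↥(τ.invR w) → K) := by
      rw [hcard, Nat.card_fun, Setup.wt]
    obtain ⟨v, hv⟩ := (hinj.bijective_of_nat_card_le hc.le).2 ⟨_, h⟩
    have e := τ.tailMul_injective (congrArg Subtype.val hv) (τ.rep_pos i)
    rw [Φ.coord_rep] at e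
    rw [← e]
    exact dif_neg hi
  · intro hx
    refine Subgroup.list_prod_mem _ fun g hg => ?_
    obtain ⟨j, -, rfl⟩ := List.mem_map.1 hg
    rw [factor_eq_oX]
    split
    · next hj =>
      by_cases hr : τ.rep ⟨j, hj⟩ ∈ τ.invR w
      · exact rootGen_mono _ (fun a ha => (τ.invR_orb w ha).2 hr) (Φ.oX_mem_rootGen _ _)
      · rw [hx _ hr, oX_zero]; exact one_mem _
    · exact one_mem _

theorem wt_eq_sum (w : τ.cfg.M.Group) [DecidablePred (· ∈ τ.invR w)] :
    τ.wt w = ∑ i : Fin τ.norb, if τ.rep i ∈ τ.invR w then τ.osize (τ.rep i) else 0 := by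
  classical
  rw [Setup.wt, Nat.card_eq_fintype_card, ← Set.toFinset_card,
    Finset.card_eq_sum_card_fiberwise (f := fun r : Root D => τ.cfg.orbPos r)
      (t := Finset.range τ.norb)
      (fun r hr => Finset.mem_range.2 (τ.exists_orbPos (Set.mem_toFinset.1 hr).1).1),
    Finset.sum_range]
  refine Finset.sum_congr rfl fun i _ => ?_
  split
  · next h =>
    have e : (τ.invR w).toFinset.filter (fun r : Root D => τ.cfg.orbPos r = i) =
        (τ.orb (τ.rep i)).toFinset := by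
      ext r
      simp only [Finset.mem_filter, Set.mem_toFinset, List.mem_toFinset]
      exact ⟨fun hr => τ.mem_orb_rep_iff.2 ⟨hr.1.1, hr.2⟩,
        fun hr => ⟨(τ.invR_orb w hr).2 h, τ.orbPos_eq hr⟩⟩
    rw [e, List.toFinset_card_of_nodup (τ.orb_nodup _), Setup.orb, List.length_map,
      List.length_range]
  · next h =>
    rw [Finset.card_eq_zero, Finset.filter_eq_empty_iff]
    intro r hr hp
    have hr' := Set.mem_toFinset.1 hr
    exact h ((τ.invR_orb w (τ.mem_orb_rep_iff.2 ⟨hr'.1, hp⟩)).1 hr')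

theorem natCard_inv_fix {q : ℕ} (hfix : Nat.card {x : K // Φ.f x = x} = q)
    (hK : Nat.card K = q ^ τ.cfg.k) (w : τ.cfg.M.Group)
    (hcard : Nat.card ↥(rootGen τ.good.good K (τ.invR w)) = Nat.card K ^ τ.wt w) :
    Nat.card ↥(rootGen τ.good.good K (τ.invR w) ⊓ Φ.fix) = q ^ τ.wt w := by
  classical
  let F := ∀ i : Fin τ.norb, {t : K // Φ.Adm (τ.rep i) t ∧ (τ.rep i ∉ τ.invR w → t = 0)}
  let φ : F → ↥(rootGen τ.good.good K (τ.invR w) ⊓ Φ.fix) := fun x =>
    ⟨Φ.uProd fun i => (x i).1,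
      Subgroup.mem_inf.2 ⟨(Φ.uProd_mem_iff w hcard _).2 fun i => (x i).2.2,
        (Subgroup.mem_inf.1 (Φ.uProd_mem fun i => (x i).2.1)).2⟩⟩
  have hpos : rootGen τ.good.good K (τ.invR w) ≤ D.posUnipotent K := by
    rw [posUnipotent_eq_rootGen τ.good.good]
    exact rootGen_mono _ fun r hr => hr.1
  have hbij : Function.Bijective φ := by
    refine ⟨fun x y e => funext fun i =>
      Subtype.ext (congrFun (Φ.uProd_injective (congrArg Subtype.val e)) i), ?_⟩
    rintro ⟨g, hg⟩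
    obtain ⟨x, hx, rfl⟩ := Φ.exists_uProd hfix hK
      (Subgroup.mem_inf.2 ⟨hpos (Subgroup.mem_inf.1 hg).1, (Subgroup.mem_inf.1 hg).2⟩)
    exact ⟨fun i => ⟨x i, hx i, (Φ.uProd_mem_iff w hcard x).1 (Subgroup.mem_inf.1 hg).1 i⟩, rfl⟩
  rw [← Nat.card_eq_of_bijective φ hbij, Nat.card_pi, wt_eq_sum, ← Finset.prod_pow_eq_pow_sum]
  refine Finset.prod_congr rfl fun i _ => ?_
  split
  · next h =>
    rw [← Φ.natCard_adm hfix hK (τ.rep i)]
    exact Nat.card_congr (Equiv.subtypeEquivRight fun t => ⟨fun a => a.1, fun a => ⟨a, fun b => absurd h b⟩⟩)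
  · next h =>
    rw [pow_zero, Nat.card_eq_one_iff_exists]
    exact ⟨⟨0, Φ.adm_zero _, fun _ => rfl⟩, fun t => Subtype.ext (t.2.2 h)⟩

/-- The order of the twisted group. -/
theorem natCard_tG (hθ : τ.Faithful) [Fintype τ.cfg.M.Group] {q : ℕ}
    (hfix : Nat.card {x : K // Φ.f x = x} = q) (hK : Nat.card K = q ^ τ.cfg.k) :
    Nat.card ↥Φ.tG = q ^ half D * Nat.card Φ.H₀ * ∑ w : τ.cfg.M.Group, q ^ τ.wt w := by
  classical
  have hW := τ.good
  have hR := τ.rootGood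
  choose nM hnM using Φ.weyl_surjective hθ
  have hπ : ∀ w, MonBy τ.good (nM w : GL D.Idx K) (τ.θ w) := fun w => by
    conv_rhs => rw [← hnM w]
    exact Φ.monBy_weyl hθ (nM w)
  let amb : τ.cfg.M.Group → τ.W.Group := fun w =>
    weylHom τ.good τ.rootGood (⟨(nM w : GL D.Idx K), Φ.M₀_le_monomial (nM w).2⟩ :
      ↥(D.monomialSubgroup K))
  have hamb : ∀ w, τ.rootGood.rootPerm (amb w) = τ.θ w := fun w =>
    (monBy_weylHom τ.good τ.rootGood _).unique (hπ w)
  have ambInj : Function.Injective amb := fun v w e => hθ (by rw [← hamb, ← hamb, e])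
  have hinv : ∀ w, uW τ.good τ.rootGood K (amb w) = rootGen τ.good.good K (τ.invR w) := by
    intro w
    rw [uW, invRoots, hamb]
    rfl
  have hcard : ∀ w, Nat.card ↥(rootGen τ.good.good K (τ.invR w)) = Nat.card K ^ τ.wt w := by
    intro w
    rw [← hinv, natCard_uW τ.good τ.rootGood, τ.rootGood.length_eq_card_invSet, Setup.wt,
      Nat.card_eq_fintype_card (α := ↥(τ.invR w)), ← Set.toFinset_card]
    congr 2
    ext r
    rw [Set.mem_toFinset, τ.rootGood.mem_invSet, posIdx_iff τ.good.good τ.rootGood,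
      posIdx_iff τ.good.good τ.rootGood, hamb, not_le]
    rfl
  let k : τ.cfg.M.Group → GL D.Idx K := fun w =>
    (nM w : GL D.Idx K) * (nW τ.good τ.rootGood K (amb w))⁻¹
  have hk : ∀ w, k w ∈ D.borelSubgroup K := fun w => diag_le_borel D (by
    obtain ⟨d, hd, e⟩ := exists_eq_nW_mul (F := K) τ.good τ.rootGood
      (⟨(nM w : GL D.Idx K), Φ.M₀_le_monomial (nM w).2⟩ : ↥(D.monomialSubgroup K))
    show (nM w : GL D.Idx K) * (nW τ.good τ.rootGood K (amb w))⁻¹ ∈ _
    rw [show (nM w : GL D.Idx K) = nW τ.good τ.rootGood K (amb w) * d from e]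
    exact (Subgroup.mem_normalizer_iff.1
      (monomial_le_normalizer τ.good (nW_mem τ.good τ.rootGood _)) d).1 hd)
  have hkn : ∀ w, k w * nW τ.good τ.rootGood K (amb w) = nM w := fun w =>
    inv_mul_cancel_right _ _
  have hVpos : ∀ w, rootGen τ.good.good K (τ.invR w) ≤ D.posUnipotent K := fun w =>
    hinv w ▸ uW_le_pos τ.good τ.rootGood _
  have hB : Nat.card ↥Φ.B1 = q ^ half D * Nat.card Φ.H₀ := by
    rw [← Φ.natCard_u1 hfix hK, ← Nat.card_prod]
    refine (Nat.card_eq_of_bijective (fun p : ↥Φ.U1 × ↥Φ.H₀ =>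
      (⟨p.1 * p.2, mul_mem (Subgroup.mem_sup_left p.1.2) (Subgroup.mem_sup_right p.2.2)⟩ :
        ↥Φ.B1)) ⟨?_, ?_⟩).symm
    · rintro ⟨⟨u, hu⟩, ⟨h, hh⟩⟩ ⟨⟨u', hu'⟩, ⟨h', hh'⟩⟩ e
      have e' : u * h = u' * h' := congrArg Subtype.val e
      have e2 : u'⁻¹ * u = h' * h⁻¹ := by
        rw [eq_mul_inv_iff_mul_eq, mul_assoc, e', inv_mul_cancel_left]
      have h1 : u'⁻¹ * u ∈ D.posUnipotent K ⊓ D.diagonalSubgroup K :=
        Subgroup.mem_inf.2 ⟨mul_mem (inv_mem (Subgroup.mem_inf.1 hu').1) (Subgroup.mem_inf.1 hu).1,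
          e2 ▸ mul_mem (Φ.H₀_le_diag hh') (inv_mem (Φ.H₀_le_diag hh))⟩
      rw [pos_inf_diag τ.good, Subgroup.mem_bot, inv_mul_eq_one] at h1
      subst h1
      obtain rfl := mul_left_cancel e'
      rfl
    · rintro ⟨b, hb⟩
      obtain ⟨u, hu, h, hh, rfl⟩ := Φ.mem_B1_iff.1 hb
      exact ⟨(⟨u, hu⟩, ⟨h, hh⟩), rfl⟩
  rw [Finset.sum_congr rfl fun w _ => (Φ.natCard_inv_fix hfix hK w (hcard w)).symm,
    ← Nat.card_sigma, ← hB, ← Nat.card_prod]
  let φ : ↥Φ.B1 × (Σ w, ↥(rootGen τ.good.good K (τ.invR w) ⊓ Φ.fix)) → ↥Φ.tG := fun p =>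
    ⟨(p.1 : GL D.Idx K) * (nM p.2.1 : GL D.Idx K) * (p.2.2 : GL D.Idx K),
      mul_mem (mul_mem (Φ.B1_le_tG p.1.2) (Φ.M₀_le_tG (nM p.2.1).2))
        (Φ.U1_le_tG (Subgroup.mem_inf.2 ⟨hVpos _ (Subgroup.mem_inf.1 p.2.2.2).1,
          (Subgroup.mem_inf.1 p.2.2.2).2⟩))⟩
  refine (Nat.card_eq_of_bijective φ ⟨?_, ?_⟩).symm
  · rintro ⟨⟨b, hb⟩, ⟨w, ⟨v, hv⟩⟩⟩ ⟨⟨b', hb'⟩, ⟨w', ⟨v', hv'⟩⟩⟩ e
    have e' : b * nM w * v = b' * nM w' * v' := congrArg Subtype.val e
    rw [← hkn w, ← hkn w'] at e'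
    simp only [← mul_assoc] at e'
    have hbk := mul_mem (Φ.B1_le_borel hb) (hk w)
    have hbk' := mul_mem (Φ.B1_le_borel hb') (hk w')
    have hc : b * k w * nW τ.good τ.rootGood K (amb w) * v ∈
        cell τ.good τ.rootGood K (amb w) :=
      ⟨_, hbk, _, pos_le_borel D (hVpos _ (Subgroup.mem_inf.1 hv).1), rfl⟩
    have hc' : b' * k w' * nW τ.good τ.rootGood K (amb w') * v' ∈
        cell τ.good τ.rootGood K (amb w') :=
      ⟨_, hbk', _, pos_le_borel D (hVpos _ (Subgroup.mem_inf.1 hv').1), rfl⟩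
    rw [← e'] at hc'
    obtain rfl : w = w' := ambInj (cell_eq_of_mem τ.good τ.rootGood hc hc')
    obtain ⟨e1, rfl⟩ := form_unique τ.good τ.rootGood hbk hbk'
      (by rw [hinv w]; exact (Subgroup.mem_inf.1 hv).1)
      (by rw [hinv w]; exact (Subgroup.mem_inf.1 hv').1) e'
    obtain rfl := mul_right_cancel e1
    rfl
  · rintro ⟨g, hg⟩
    obtain ⟨u, hu, m, hm, v, hv, rfl⟩ := Φ.exists_decomp hg
    obtain ⟨w, hwm⟩ : ∃ w, MonBy τ.good m (τ.θ w) := Φ.exists_θ hm
    have hh : m * (nM w : GL D.Idx K)⁻¹ ∈ Φ.H₀ := by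
      refine Φ.mem_H₀_of_monBy_one hθ (mul_mem hm (inv_mem (nM w).2)) ?_
      simpa using hwm.mul (hπ w).inv
    have hc : u * m * v ∈ cell τ.good τ.rootGood K (amb w) :=
      ⟨u * (m * (nM w : GL D.Idx K)⁻¹) * k w, mul_mem (mul_mem
        (pos_le_borel D (Subgroup.mem_inf.1 hu).1) (diag_le_borel D (Φ.H₀_le_diag hh))) (hk w), v,
        pos_le_borel D (Subgroup.mem_inf.1 hv).1, by
          rw [mul_assoc (u * _) (k w), hkn]
          group⟩
    obtain ⟨b₀, hb₀, v₀, hv₀, e⟩ := exists_form τ.good τ.rootGood (amb w) hc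
    set b := b₀ * (k w)⁻¹ with hbdef
    have hb : b ∈ D.borelSubgroup K := mul_mem hb₀ (inv_mem (hk w))
    have e2 : b * nM w * v₀ = u * m * v := by
      rw [← e, hbdef, ← hkn w]; group
    rw [hinv] at hv₀
    have hΨb : Φ.Ψ b ∈ D.borelSubgroup K := by
      obtain ⟨u₀, hu₀, d, hd, eb⟩ := (mem_borel_iff τ.good).1 hb
      rw [← eb, map_mul]
      refine mul_mem (pos_le_borel D ?_) (diag_le_borel D ?_)
      · rw [posUnipotent_eq_rootGen τ.good.good] at hu₀ ⊢
        exact Φ.Ψ_mem_rootGen (S := posSet D) (fun r hr => (τ.σR_pos r).2 hr) hu₀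
      · rw [diagonalSubgroup_eq_range τ.good] at hd ⊢
        obtain ⟨c, rfl⟩ := hd
        exact ⟨Φ.T c, (Φ.Ψ_torC c).symm⟩
    have hΨv : Φ.Ψ v₀ ∈ rootGen τ.good.good K (τ.invR w) :=
      Φ.Ψ_mem_rootGen (fun r hr => τ.invR_σR w hr) hv₀
    have hfixg : Φ.Ψ (b * nM w * v₀) = b * nM w * v₀ := by
      rw [e2]; exact Φ.mem_fix.1 (Φ.tG_le_fix hg)
    rw [map_mul, map_mul, Φ.mem_fix.1 (Φ.M₀_le_fix (nM w).2), ← hkn w] at hfixg
    simp only [← mul_assoc] at hfixg
    obtain ⟨f1, f2⟩ := form_unique τ.good τ.rootGood (mul_mem hΨb (hk w)) (mul_mem hb (hk w))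
      (by rw [hinv w]; exact hΨv) (by rw [hinv w]; exact hv₀) hfixg
    have hv₁ : v₀ ∈ Φ.U1 := Subgroup.mem_inf.2 ⟨hVpos w hv₀, Φ.mem_fix.2 f2⟩
    have hbtG : b ∈ Φ.tG := by
      rw [show b = (u * m * v) * v₀⁻¹ * (nM w : GL D.Idx K)⁻¹ by rw [← e2]; group]
      exact mul_mem (mul_mem hg (inv_mem (Φ.U1_le_tG hv₁)))
        (inv_mem (Φ.M₀_le_tG (nM w).2))
    have hb1 : b ∈ Φ.B1 := Φ.borel_inf_tG hθ ▸ Subgroup.mem_inf.2 ⟨hb, hbtG⟩
    exact ⟨(⟨b, hb1⟩, ⟨w, ⟨v₀, Subgroup.mem_inf.2 ⟨hv₀, Φ.mem_fix.2 f2⟩⟩⟩), Subtype.ext e2⟩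

end FieldTwist

/-- The fibre sizes of a projection of the roots. -/
def fibre (D : ChevalleyDatum) (P : List ℕ) (v : ℕ) : ℕ :=
  ((List.range D.nroots).filter fun r => P.getD r 0 == v).length

/-- The projection keeps positivity. -/
def chkSign (D : ChevalleyDatum) (R' : Weyl.RootTable) (P : List ℕ) : Bool :=
  (List.range D.nroots).all fun r => decide (half D ≤ r ↔ R'.mask.testBit (P.getD r 0) = true)

namespace Setup

variable {D : ChevalleyDatum} (τ : Setup D)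

theorem wt_eq_wlen {D' : ChevalleyDatum} (e : D'.rank = τ.cfg.m) {C' : Weyl.Cert D'.rank}
    {M' : CoxeterMatrix (Fin D'.rank)} {R' : Weyl.RootTable} (h' : Weyl.RootGood C' M' R')
    (ψ : τ.cfg.M.Group →* M'.Group)
    (hψ : ∀ o : Fin τ.cfg.m, ψ (τ.cfg.M.simple o) = M'.simple (Fin.cast e.symm o))
    {P : List ℕ} (hP : τ.cfg.chkProj R' D'.nroots P = true) (hs : chkSign D R' P = true)
    (w : τ.cfg.M.Group) : τ.wt w = wlen h' (fibre D P) (ψ w) := by
  classical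
  simp only [Cfg.chkProj, Bool.and_eq_true, decide_eq_true_eq, List.all_eq_true, List.mem_range,
    List.any_eq_true] at hP
  obtain ⟨⟨-, hP1⟩, -⟩ := hP
  simp only [chkSign, List.all_eq_true, List.mem_range, decide_eq_true_eq] at hs
  let π : Root D → Fin D'.nroots := fun r => ⟨P.getD r 0, (hP1 r r.2).1⟩
  have hπ : ∀ (w : τ.cfg.M.Group) (r : Root D),
      π (τ.θ w r) = h'.rootPerm (ψ w) (π r) := by
    intro w
    induction w using τ.cfg.M.toCoxeterSystem.simple_induction_left with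
    | one => intro r; simp
    | mul_simple_left w o ih =>
      intro r
      rw [CoxeterMatrix.toCoxeterSystem_simple, map_mul, map_mul, map_mul, τ.θ_simple,
        Equiv.Perm.mul_apply, Equiv.Perm.mul_apply, ← ih r, hψ]
      apply Fin.ext
      rw [h'.rootPerm_simple_step]
      show P.getD (τ.wR o (τ.θ w r) : Root D) 0 = _
      rw [τ.wR_val, (hP1 _ (τ.θ w r).2).2 o o.2]
      rfl
  have hpos : ∀ r : Root D, half D ≤ (r : ℕ) ↔ Weyl.PosIdx (π r) := fun r => by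
    rw [hs r r.2]
    exact h'.mask_iff (π r).2
  rw [Setup.wt, Nat.card_eq_fintype_card, ← Set.toFinset_card,
    Finset.card_eq_sum_card_fiberwise (f := π) (t := h'.invSet (ψ w)) (fun r hr => ?_), wlen]
  · refine Finset.sum_congr rfl fun v hv => ?_
    obtain ⟨hv1, hv2⟩ := h'.mem_invSet.1 hv
    rw [fibre, ← List.toFinset_card_of_nodup (List.nodup_range.filter _)]
    refine Finset.card_bij (fun r _ => (r : ℕ)) (fun r hr => ?_) (fun a _ b _ => Fin.ext)
      (fun b hb => ?_)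
    · simp only [Finset.mem_filter] at hr
      simp only [List.mem_toFinset, List.mem_filter, List.mem_range, beq_iff_eq]
      exact ⟨r.2, congrArg Fin.val hr.2⟩
    · simp only [List.mem_toFinset, List.mem_filter, List.mem_range, beq_iff_eq] at hb
      have hπb : π ⟨b, hb.1⟩ = v := Fin.ext hb.2
      refine ⟨⟨b, hb.1⟩, Finset.mem_filter.2 ⟨Set.mem_toFinset.2 ⟨?_, ?_⟩, hπb⟩, rfl⟩
      · rw [hpos, hπb]; exact hv1
      · rw [← not_le, hpos, hπ, hπb]; exact hv2
  · obtain ⟨h1, h2⟩ := Set.mem_toFinset.1 hr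
    refine h'.mem_invSet.2 ⟨(hpos r).1 h1, ?_⟩
    rw [← hπ, ← hpos, not_le]
    exact h2

end Setup

end CfsgLib.GraphTwist
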