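import Cfsg.Agent.GraphTwist.FamilyD4
import Cfsg.Agent.GraphTwist.Count

/-!
# The order of `³D₄(q)`
-/

set_option autoImplicit false

namespace CfsgLib.GraphTwist

open Cfsg.Lie CfsgLib.Chevalley
open scoped MatrixGroups

/-- The projection of the roots of `D₄` onto those of `G₂`. -/
def projD4 : List ℕ :=
  [0, 1, 2, 2, 3, 4, 2, 3, 3, 5, 4, 4, 7, 7, 6, 8, 8, 9, 7, 8, 9, 9, 10, 11]

theorem sum_wt_D4 [hF : Fintype setupD4.cfg.M.Group] (q : ℕ) :
    (q ^ 2 + q + 1) * ∑ w : setupD4.cfg.M.Group, q ^ setupD4.wt w =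
      (q + 1) * (∑ i ∈ Finset.range 6, q ^ i) * (q ^ 8 + q ^ 4 + 1) := by
  have h := @sum_pow_wlen_mul chevG2 _ _ _ Weyl.rootG2_good (fibre chevD4 projD4) ℕ _ hF (by decide +kernel) q [1, 1, 1]
    [List.replicate 2 1, List.replicate 6 1, [1, 0, 0, 0, 1, 0, 0, 0, 1]] (by decide +kernel)
  have hw : ∀ w : setupD4.cfg.M.Group, setupD4.wt w =
      wlen Weyl.rootG2_good (fibre chevD4 projD4) w := fun w =>
    setupD4.wt_eq_wlen (D' := chevG2) rfl Weyl.rootG2_good (MonoidHom.id _) (fun o => rfl)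
      (by decide +kernel) (by decide +kernel) w
  simp only [hw]
  refine (Eq.trans ?_ h).trans ?_
  · congr 1
    simp [Weyl.evalList]
    ring
  · have e : Weyl.evalList q ([1, 0, 0, 0, 1, 0, 0, 0, 1] : List ℕ) = q ^ 8 + q ^ 4 + 1 := by
      simp [Weyl.evalList]
      ring
    simp only [List.map_cons, List.map_nil, List.prod_cons, List.prod_nil,
      Weyl.evalList_replicate_one, e, mul_one, Finset.sum_range_succ, Finset.sum_range_zero]
    ring

variable {K : Type*} [Field K]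

/-- `|³D₄(q)| = q¹² (q² - 1)(q⁶ - 1)(q⁸ + q⁴ + 1)`. -/
theorem natCard_twistedD4 [Fintype K] {q : ℕ} (hq : IsPrimePow q) (hK : Fintype.card K = q ^ 3) :
    Nat.card ↥(twistedD4 K q) = q ^ 12 * (q ^ 2 - 1) * (q ^ 6 - 1) * (q ^ 8 + q ^ 4 + 1) := by
  obtain ⟨Φ, e, -, hfix, hK', -⟩ := twistedD4_eq_tG hq hK
  haveI : Finite setupD4.cfg.M.Group := Weyl.rootG2_good.finite_group
  letI := Fintype.ofFinite setupD4.cfg.M.Group
  rw [e, Φ.natCard_tG setupD4_faithful hfix hK', natCard_H₀_D4 Φ hfix hK']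
  have hs := sum_wt_D4 q
  have h2 := geom_sum_mul_of_one_le hq.one_lt.le 2
  have h6 := geom_sum_mul_of_one_le hq.one_lt.le 6
  rw [show half chevD4 = 12 from rfl, ← h2, ← h6]
  calc q ^ 12 * ((q - 1) ^ 2 * (q ^ 2 + q + 1)) * ∑ w, q ^ setupD4.wt w
      = q ^ 12 * (q - 1) ^ 2 * ((q ^ 2 + q + 1) * ∑ w, q ^ setupD4.wt w) := by ring
    _ = _ := by
      rw [hs, show ∑ i ∈ Finset.range 2, q ^ i = q + 1 by simp [Finset.sum_range_succ]; ring]
      ring

end CfsgLib.GraphTwist
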