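import Cfsg.Agent.GraphTwist.TorusCard

/-!
# Perfectness and simplicity of the twisted group

An orbit of several nodes is handled by the torus; a fixed node by one instance of the commutator
formula for two fixed roots.
-/

set_option autoImplicit false

namespace CfsgLib.GraphTwist

open Cfsg.Lie CfsgLib.Chevalley CfsgLib.Twisted
open scoped MatrixGroups commutatorElement

namespace Cfg

variable {D : ChevalleyDatum} (T : Cfg D)

/-- A pair of fixed roots giving the fixed node `o` by a one-term formula. -/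
def certOk (o : ℕ) (p : ℕ × ℕ) : Bool :=
  decide (p.1 < D.nroots) && decide (p.2 < D.nroots) && decide (T.S.σf p.1 = p.1) &&
    decide (T.S.σf p.2 = p.2) && decide (p.2 ≠ p.1) && decide (p.2 ≠ opp D p.1) &&
    match D.commTerms p.1 p.2 with
    | [(k, c, a, b)] => decide (k = T.sp o) && decide (a = 1) && decide (b = 1) && decide (c * c = 1)
    | _ => false

/-- Every fixed node has a certificate. -/
def chkCert (L : List (ℕ × ℕ)) : Bool :=
  (List.range T.m).all fun o => decide (T.S.σf (T.sp o) ≠ T.sp o) || L.any (T.certOk o)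

theorem certOk_spec {o : ℕ} {p : ℕ × ℕ} (h : T.certOk o p = true) :
    p.1 < D.nroots ∧ p.2 < D.nroots ∧ T.S.σf p.1 = p.1 ∧ T.S.σf p.2 = p.2 ∧ p.2 ≠ p.1 ∧
      p.2 ≠ opp D p.1 ∧ ∃ c : ℤ, c * c = 1 ∧ D.commTerms p.1 p.2 = [(T.sp o, c, 1, 1)] := by
  simp only [certOk, Bool.and_eq_true, decide_eq_true_eq, and_assoc] at h
  obtain ⟨h1, h2, h3, h4, h5, h6, h7⟩ := h
  refine ⟨h1, h2, h3, h4, h5, h6, ?_⟩
  split at h7
  · rename_i k c a b heq
    simp only [Bool.and_eq_true, decide_eq_true_eq, and_assoc] at h7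
    obtain ⟨rfl, rfl, rfl, hc⟩ := h7
    exact ⟨c, hc, heq⟩
  · simp at h7

end Cfg

namespace FieldTwist

variable {D : ChevalleyDatum} {τ : Setup D} {K : Type*} [Field K] (Φ : FieldTwist τ K)

theorem exists_sq_ne_one [Finite K] (h : 4 ≤ Nat.card K) : ∃ b : Kˣ, (b : K) ^ 2 ≠ 1 := by
  classical
  letI := Fintype.ofFinite K
  by_contra hall
  push Not at hall
  have hsub : (Finset.univ : Finset K) ⊆ {0, 1, -1} := by
    intro x _
    by_cases hx : x = 0
    · simp [hx]
    · have := hall (Units.mk0 x hx)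
      rcases mul_self_eq_one_iff.1 (show x * x = 1 by rw [← sq]; exact this) with e | e <;> simp [e]
  have := (Finset.card_le_card hsub).trans Finset.card_le_three
  rw [Finset.card_univ, ← Nat.card_eq_fintype_card] at this
  omega

variable [Finite K] (hθ : τ.Faithful)
include hθ

theorem X_fixed_mem {r : Root D} (hr : τ.σR r = r) {t : K} (ht : Φ.f t = t) :
    X τ.good.good r t ∈ Φ.tG := by
  have hfix : X τ.good.good r t ∈ Φ.fix := Φ.mem_fix.2 (Φ.Ψ_X_fixed hr ht)
  by_cases hpos : half D ≤ (r : ℕ)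
  · exact Φ.U1_le_tG (Subgroup.mem_inf.2 ⟨X_mem_pos τ.good.good hpos t, hfix⟩)
  obtain ⟨g, hg, hgπ⟩ := Φ.exists_n₀ hθ
  obtain ⟨c, hc⟩ := hgπ.conj_X r
  have h1 : g * X τ.good.good r t * g⁻¹ ∈ Φ.U1 := by
    refine Subgroup.mem_inf.2 ⟨?_, mul_mem (mul_mem (Φ.M₀_le_fix hg) hfix) (inv_mem (Φ.M₀_le_fix hg))⟩
    rw [hc]
    exact X_mem_pos _ (τ.θ_w₀_neg (show (r : ℕ) < half D by omega) hgπ) _
  have := mul_mem (mul_mem (inv_mem (Φ.M₀_le_tG hg)) (Φ.U1_le_tG h1)) (Φ.M₀_le_tG hg)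
  rwa [show g⁻¹ * (g * X τ.good.good r t * g⁻¹) * g = X τ.good.good r t by group] at this

theorem oX_mem_commutator {L : List (ℕ × ℕ)} (hL : τ.cfg.chkCert L = true)
    (h4 : 4 ≤ Nat.card K) (o : Fin τ.cfg.m) {x : K} (hx : Φ.Adm (τ.spR o) x) :
    Φ.oX (τ.spR o) x ∈ ⁅Φ.tG, Φ.tG⁆ := by
  by_cases hfix : τ.σR (τ.spR o) = τ.spR o
  · have hc := List.all_eq_true.1 hL o (List.mem_range.2 o.2)
    simp only [Bool.or_eq_true, decide_eq_true_eq, List.any_eq_true] at hc
    obtain ⟨⟨r', s'⟩, -, hp⟩ := hc.resolve_left (fun h => h (congrArg Fin.val hfix))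
    obtain ⟨hr, hs, hσr, hσs, hne, hne', c, hcc, hterms⟩ := τ.cfg.certOk_spec hp
    set r : Root D := ⟨r', hr⟩ with hr0
    set s : Root D := ⟨s', hs⟩ with hs0
    have hσR : τ.σR r = r := Fin.ext hσr
    have hσS : τ.σR s = s := Fin.ext hσs
    set t : K := -((c : K) * x) with ht
    have hft : Φ.f t = t := by rw [ht, map_neg, map_mul, map_intCast, hx hfix]
    have h1 := X_comm τ.good.toGoodComm r s (fun e => hne (congrArg Fin.val e))
      (fun e => hne' (by rw [show s' = ((s : Root D) : ℕ) from rfl, e, Setup.rev_val])) t (1 : K)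
    have h2 : commRhs τ.good.good r s t (1 : K) = Φ.oX (τ.spR o) x := by
      have hsp : τ.cfg.sp o < D.nroots := (τ.spR o).2
      rw [commRhs, show D.commTerms (r : ℕ) (s : ℕ) = [(τ.cfg.sp o, c, 1, 1)] from hterms, wordGL,
        oX, τ.osize_eq, if_pos hfix]
      simp only [List.map_cons, List.map_nil, List.prod_cons, List.prod_nil, mul_one, pow_one,
        dif_pos hsp, List.range_one, pow_zero, MulAut.one_apply]
      congr 1
      rw [ht, neg_neg, ← mul_assoc, ← Int.cast_mul, hcc, Int.cast_one, one_mul]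
    rw [← h2, show commRhs τ.good.good r s t (1 : K) =
        ⁅(X τ.good.good s (1 : K))⁻¹, (X τ.good.good r t)⁻¹⁆ by
      calc commRhs τ.good.good r s t (1 : K)
          = (X τ.good.good r t * X τ.good.good s 1)⁻¹ *
              (X τ.good.good r t * X τ.good.good s 1 * commRhs τ.good.good r s t (1 : K)) := by group
        _ = _ := by rw [← h1, commutatorElement_def]; group]
    exact Subgroup.commutator_mem_commutator (inv_mem (Φ.X_fixed_mem hθ hσS (map_one _)))
      (inv_mem (Φ.X_fixed_mem hθ hσR hft))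
  obtain ⟨b, hb⟩ := exists_sq_ne_one (K := K) h4
  have hadm : Φ.AdmU (τ.spR o) b := fun h => absurd h hfix
  have hcm := Φ.compC_mem hadm
  have hχ : ChevSimple.chi (Φ.compC o b) (τ.spR o) = b ^ (2 : ℤ) := by
    rw [ChevSimple.chi, Finset.prod_eq_single (τ.head o)]
    · rw [compC_head, show ((τ.spR o : Root D) : ℕ) = D.simple (τ.head o) from rfl,
        τ.good.good.cartan_simple_self (τ.head o).2]
    · intro i _ hne
      by_cases hi : i ∈ τ.nlist o
      · have hm : τ.head o ∈ τ.nlist o :=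
          List.mem_map.2 ⟨0, List.mem_range.2 (τ.osize_pos _), rfl⟩
        rw [(τ.nlist_pair hi hm hne).1, zpow_zero]
      · rw [Φ.compC_apply_of_notMem hi, one_zpow]
    · intro h
      exact absurd (Finset.mem_univ _) h
  set d : K := (b : K) ^ 2 - 1 with hd
  have hd0 : d ≠ 0 := sub_ne_zero.2 hb
  have hh : torC D (Φ.compC o b) ∈ Φ.tG := Φ.H₀_le_tG ⟨_, hcm, rfl⟩
  have e : ⁅torC D (Φ.compC o b), Φ.oX (τ.spR o) (x / d)⁆ = Φ.oX (τ.spR o) x := by
    rw [commutatorElement_def, Φ.torC_conj_oX hcm, oX_inv, oX_mul, hχ]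
    congr 1
    rw [show ((b ^ (2 : ℤ) : Kˣ) : K) = (b : K) ^ 2 by simp [zpow_ofNat]]
    field_simp
    rw [hd]
    ring
  rw [← e]
  exact Subgroup.commutator_mem_commutator hh (Φ.oX_mem_tG o fun h => absurd h hfix)

/-- The twisted group is perfect. -/
theorem commutator_eq_top {L : List (ℕ × ℕ)} (hL : τ.cfg.chkCert L = true)
    (h4 : 4 ≤ Nat.card K) : commutator ↥Φ.tG = ⊤ := by
  have key : Φ.tG ≤ ⁅Φ.tG, Φ.tG⁆ := by
    conv_lhs => rw [tG]
    rw [Subgroup.closure_le]
    rintro _ ⟨o, b, x, hx, rfl⟩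
    cases b
    · exact Φ.oX_mem_commutator hθ hL h4 o hx
    · obtain ⟨c, hc⟩ := Φ.conj_oX (Φ.monBy_nO o) (Φ.nO_mem_fix o) (sdR τ true o)
      obtain ⟨hadm, e⟩ := hc x hx
      have hpos : half D ≤ (τ.wR o (sdR τ true o) : ℕ) := by
        rw [show sdR τ true o = (τ.spR o).rev from rfl, (Φ.monBy_nO o).apply_rev,
          τ.wR_orb (τ.self_mem_orb _), Fin.rev_rev]
        exact τ.spR_pos o
      have hsp : τ.wR o (sdR τ true o) = τ.spR o := by
        rw [show sdR τ true o = (τ.spR o).rev from rfl, (Φ.monBy_nO o).apply_rev,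
          τ.wR_orb (τ.self_mem_orb _), Fin.rev_rev]
      rw [hsp] at hadm e
      have h1 := Φ.oX_mem_commutator hθ hL h4 o hadm
      rw [← e] at h1
      have hn : Φ.nO o ∈ Φ.tG := Φ.nO_mem_tG o
      have hnorm : (⁅Φ.tG, Φ.tG⁆).map (MulAut.conj (Φ.nO o)⁻¹).toMonoidHom ≤ ⁅Φ.tG, Φ.tG⁆ := by
        rw [Subgroup.map_commutator]
        refine Subgroup.commutator_mono ?_ ?_ <;>
        · rintro _ ⟨y, hy, rfl⟩
          exact mul_mem (mul_mem (inv_mem hn) hy) (inv_mem (inv_mem hn))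
      have h2 := hnorm ⟨_, h1, rfl⟩
      rwa [MulEquiv.coe_toMonoidHom, MulAut.conj_apply, inv_inv,
        show ∀ n z : GL D.Idx K, n⁻¹ * (n * z * n⁻¹) * n = z from fun n z => by group] at h2
  apply Subgroup.map_injective (f := Φ.tG.subtype) (Subgroup.subtype_injective _)
  rw [commutator_def, Subgroup.map_commutator, ← MonoidHom.range_eq_map, Subgroup.range_subtype]
  refine le_antisymm (Subgroup.commutator_le.2 fun a ha b hb => ?_) key
  rw [commutatorElement_def]
  exact mul_mem (mul_mem (mul_mem ha hb) (inv_mem ha)) (inv_mem hb)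

/-- The twisted group is simple and non-abelian. -/
theorem isSimple {L : List (ℕ × ℕ)} (hL : τ.cfg.chkCert L = true) (h4 : 4 ≤ Nat.card K) :
    IsSimpleGroup ↥Φ.tG ∧ ¬ IsMulCommutative ↥Φ.tG := by
  obtain ⟨P, hB, -, hS⟩ := Φ.exists_bnPair hθ
  have hperf := Φ.commutator_eq_top hθ hL h4
  let o : Fin τ.cfg.m := ⟨0, τ.valid.m_pos⟩
  have hne : Nontrivial ↥Φ.tG := by
    refine ⟨⟨Φ.oX (τ.spR o) 1, Φ.oX_mem_tG o (Φ.adm_one _)⟩, 1, fun h => ?_⟩
    refine one_ne_zero (Φ.oX_injective (τ.spR_pos o) ?_)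
    rw [oX_zero]
    exact congrArg Subtype.val h
  refine ⟨CfsgLib.BNPairs.isSimpleGroup_of_bnPair (Φ.irreducible hθ P hB hS) ?_ hperf
    (hB ▸ Φ.normalCore_eq_bot hθ), fun h => ?_⟩
  · rw [hB]
    exact Φ.isSolvable_B1 hθ
  · refine absurd hperf ?_
    have : commutator ↥Φ.tG = ⊥ := by
      rw [eq_bot_iff, commutator_def]
      refine Subgroup.commutator_le.2 fun a _ b _ => ?_
      rw [Subgroup.mem_bot, commutatorElement_eq_one_iff_mul_comm]
      exact h.is_comm.comm a b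
    rw [this]
    exact bot_ne_top

end FieldTwist

end CfsgLib.GraphTwist
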