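import Cfsg.Agent.GraphTwist.Perfect
import Cfsg.Agent.Chevalley.Commutator
import Cfsg.Prelude.Def_ChevWords

/-!
# The twisted group as a subgroup generated by words
-/

set_option autoImplicit false

namespace CfsgLib.GraphTwist

open Cfsg.Lie CfsgLib.Chevalley
open scoped MatrixGroups

namespace Cfg

variable {D : ChevalleyDatum} (T : Cfg D)

/-- The index of a fundamental root or of its negative. -/
def sdN (o : ℕ) (b : Bool) : ℕ := bif b then opp D (T.sp o) else T.sp o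

/-- The word of an orbit root element. -/
def word {K : Type*} (f : K → K) (r : ℕ) (t : K) : List (ℕ × K) :=
  (List.range (T.osize r)).map fun j => (T.S.σf^[j] r, f^[j] t)

end Cfg

namespace FieldTwist

variable {D : ChevalleyDatum} {τ : Setup D} {K : Type*} [Field K] (Φ : FieldTwist τ K)

theorem sdR_val (o : Fin τ.cfg.m) (b : Bool) : (sdR τ b o : ℕ) = τ.cfg.sdN o b := by
  cases b
  · rfl
  · exact Setup.rev_val _

theorem coe_oX_sdR (o : Fin τ.cfg.m) (b : Bool) (t : K) :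
    ((Φ.oX (sdR τ b o) t : GL D.Idx K) : Matrix D.Idx D.Idx K) =
      D.wordMat K (τ.cfg.word Φ.f (τ.cfg.sdN o b) t) := by
  rw [ChevalleyDatum.wordMat, Cfg.word, ← sdR_val, oX, List.map_map]
  have hc : ∀ L : List (GL D.Idx K),
      ((L.prod : GL D.Idx K) : Matrix D.Idx D.Idx K) = (L.map fun g : GL D.Idx K => (g : Matrix D.Idx D.Idx K)).prod :=
    fun L => map_list_prod (Units.coeHom _) L
  rw [hc, List.map_map]
  refine congrArg List.prod (List.map_congr_left fun j _ => ?_)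
  have htw : Φ.tw j (sdR τ b o) t = Φ.f^[j] t := by
    cases b
    · exact (Φ.tw_side j (τ.head o) t).1
    · exact (Φ.tw_side j (τ.head o) t).2
  simp only [Function.comp_apply]
  rw [Φ.Ψ_pow_X, htw, coe_X, ← τ.σR_pow_val, x_eq_xR τ.good.good]

theorem adm_sdR (o : Fin τ.cfg.m) (b : Bool) (t : K) :
    Φ.Adm (sdR τ b o) t ↔ (τ.cfg.osize (τ.cfg.sdN o b) = 1 → Φ.f t = t) := by
  have hk := τ.valid.two_le
  have h : τ.σR (sdR τ b o) = sdR τ b o ↔ τ.cfg.osize (τ.cfg.sdN o b) = 1 := by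
    rw [Fin.ext_iff, τ.σR_val, sdR_val, Cfg.osize]
    split_ifs with h
    · simp [h]
    · exact iff_of_false h (by omega)
  rw [Adm, h]

/-- The twisted group is generated by the words of its orbit root elements. -/
theorem tG_eq_genSubgroup {S : Set (List (ℕ × K))}
    (h : ∀ w, w ∈ S ↔ ∃ o < τ.cfg.m, ∃ (b : Bool) (t : K),
      (τ.cfg.osize (τ.cfg.sdN o b) = 1 → Φ.f t = t) ∧ τ.cfg.word Φ.f (τ.cfg.sdN o b) t = w) :
    Φ.tG = D.genSubgroup K S := by
  rw [tG, ChevalleyDatum.genSubgroup]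
  congr 1
  ext g
  constructor
  · rintro ⟨o, b, t, ht, rfl⟩
    exact ⟨_, (h _).2 ⟨o, o.2, b, t, (Φ.adm_sdR o b t).1 ht, rfl⟩, Φ.coe_oX_sdR o b t⟩
  · rintro ⟨w, hw, e⟩
    obtain ⟨o, ho, b, t, ht, rfl⟩ := (h w).1 hw
    exact ⟨⟨o, ho⟩, b, t, (Φ.adm_sdR ⟨o, ho⟩ b t).2 ht,
      Units.ext ((Φ.coe_oX_sdR ⟨o, ho⟩ b t).trans e.symm)⟩

end FieldTwist

end CfsgLib.GraphTwist
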