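import Cfsg.Agent.GraphTwist.DataD4
import Cfsg.Agent.GraphTwist.Words

/-!
# `³D₄(q)` as the twisted group of triality
-/

set_option autoImplicit false

namespace CfsgLib.GraphTwist

open Cfsg.Lie CfsgLib.Chevalley
open scoped MatrixGroups

theorem cfgD4_orbits :
    cfgD4.sdN 0 false = d4p1 ∧ cfgD4.sdN 0 true = d4m1 ∧ cfgD4.sdN 1 false = d4p2 ∧
    cfgD4.sdN 1 true = d4m2 ∧
    cfgD4.osize d4p1 = 3 ∧ cfgD4.osize d4m1 = 3 ∧ cfgD4.osize d4p2 = 1 ∧ cfgD4.osize d4m2 = 1 ∧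
    cfgD4.S.σf d4p1 = d4p3 ∧ cfgD4.S.σf d4p3 = d4p4 ∧ cfgD4.S.σf d4m1 = d4m3 ∧
    cfgD4.S.σf d4m3 = d4m4 := by
  decide +kernel

variable {K : Type*} [Field K]

theorem wordD4_cases (f : K → K) (t : K) :
    cfgD4.word f d4p1 t = [(d4p1, t), (d4p3, f t), (d4p4, f (f t))] ∧
    cfgD4.word f d4m1 t = [(d4m1, t), (d4m3, f t), (d4m4, f (f t))] ∧
    cfgD4.word f d4p2 t = [(d4p2, t)] ∧ cfgD4.word f d4m2 t = [(d4m2, t)] := by
  obtain ⟨-, -, -, -, h1, h2, h3, h4, h5, h6, h7, h8⟩ := cfgD4_orbits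
  simp [Cfg.word, h1, h2, h3, h4, h5, h6, h7, h8, List.range_succ, Function.iterate_succ_apply']

theorem twistedD4_eq_tG [Fintype K] {q : ℕ} (hq : IsPrimePow q) (hK : Fintype.card K = q ^ 3) :
    ∃ Φ : FieldTwist setupD4 K, twistedD4 K q = Φ.tG ∧ (∀ x, Φ.f x = x ^ q) ∧
      Nat.card {x : K // Φ.f x = x} = q ∧ Nat.card K = q ^ setupD4.cfg.k ∧ 4 ≤ Nat.card K := by
  obtain ⟨f, hf, hper, hfix⟩ := exists_frobenius hq (k := 3) (by norm_num) hK
  refine ⟨⟨f, hper⟩, ?_, hf, hfix, (Nat.card_eq_fintype_card).trans hK, ?_⟩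
  · symm
    apply FieldTwist.tG_eq_genSubgroup
    obtain ⟨a1, a2, a3, a4, h1, h2, h3, h4, -, -, -, -⟩ := cfgD4_orbits
    have hff : ∀ t : K, f (f t) = t ^ q ^ 2 := fun t => by rw [hf, hf, ← pow_mul, sq]
    intro w
    show _ ↔ ∃ o < 2, ∃ (b : Bool) (t : K), (cfgD4.osize (cfgD4.sdN o b) = 1 → f t = t) ∧
      cfgD4.word f (cfgD4.sdN o b) t = w
    constructor
    · rintro (⟨t, ht, r, hr, rfl⟩ | ⟨t, rs, hrs, rfl⟩)
      · simp only [List.mem_cons, List.not_mem_nil, or_false] at hr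
        rcases hr with rfl | rfl
        · exact ⟨1, by omega, false, t, fun _ => (hf t).trans ht,
            by rw [a3, (wordD4_cases (⇑f) t).2.2.1]⟩
        · exact ⟨1, by omega, true, t, fun _ => (hf t).trans ht,
            by rw [a4, (wordD4_cases (⇑f) t).2.2.2]⟩
      · simp only [List.mem_cons, List.not_mem_nil, or_false] at hrs
        rcases hrs with rfl | rfl
        · refine ⟨0, by omega, false, t, fun h => ?_, ?_⟩
          · rw [a1, h1] at h; omega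
          · rw [a1, (wordD4_cases (⇑f) t).1, hff, hf]
        · refine ⟨0, by omega, true, t, fun h => ?_, ?_⟩
          · rw [a2, h2] at h; omega
          · rw [a2, (wordD4_cases (⇑f) t).2.1, hff, hf]
    · rintro ⟨o, ho, b, t, ht, rfl⟩
      interval_cases o <;> cases b
      · rw [a1, (wordD4_cases (⇑f) t).1, hff, hf]
        exact Or.inr ⟨t, (d4p1, d4p3, d4p4), by simp, rfl⟩
      · rw [a2, (wordD4_cases (⇑f) t).2.1, hff, hf]
        exact Or.inr ⟨t, (d4m1, d4m3, d4m4), by simp, rfl⟩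
      · rw [a3] at ht ⊢
        rw [(wordD4_cases (⇑f) t).2.2.1]
        exact Or.inl ⟨t, (hf t).symm.trans (ht h3), d4p2, by simp, rfl⟩
      · rw [a4] at ht ⊢
        rw [(wordD4_cases (⇑f) t).2.2.2]
        exact Or.inl ⟨t, (hf t).symm.trans (ht h4), d4m2, by simp, rfl⟩
  · rw [Nat.card_eq_fintype_card, hK]
    calc 4 ≤ 2 ^ 3 := by norm_num
      _ ≤ q ^ 3 := Nat.pow_le_pow_left hq.two_le 3

/-- A node of `D₄`. -/
abbrev nodeD4 (i : Fin 4) : Fin chevD4.rank := i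

/-- The Cartan matrix, read through the fundamental roots. -/
def cartanD4 : Fin 4 → Fin 4 → ℤ := ![![2, -1, 0, 0], ![-1, 2, -1, -1], ![0, -1, 2, 0], ![0, -1, 0, 2]]

theorem cartanD4_eq :
    (∀ i k, chevD4.cartan (nodeD4 k) (pRoot setupD4.good (nodeD4 i)) = cartanD4 i k) ∧
    setupD4.πR (nodeD4 0) = nodeD4 2 ∧ setupD4.πR (nodeD4 1) = nodeD4 1 ∧
    setupD4.πR (nodeD4 2) = nodeD4 3 ∧ setupD4.πR (nodeD4 3) = nodeD4 0 := by
  decide +kernel

theorem chiD4 (c : Fin chevD4.rank → Kˣ) (i : Fin 4) :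
    ChevSimple.chi c (pRoot setupD4.good (nodeD4 i)) =
      c (nodeD4 0) ^ cartanD4 i 0 * c (nodeD4 1) ^ cartanD4 i 1 * c (nodeD4 2) ^ cartanD4 i 2 *
        c (nodeD4 3) ^ cartanD4 i 3 := by
  simp only [← cartanD4_eq.1]
  exact Fin.prod_univ_four (fun k : Fin 4 =>
    c (nodeD4 k) ^ chevD4.cartan (nodeD4 k) (pRoot setupD4.good (nodeD4 i)))

/-- The fixed torus of `³D₄` acts faithfully. -/
theorem kerD4_card [Finite K] (Φ : FieldTwist setupD4 K) :
    Nat.card {c : Fin chevD4.rank → Kˣ //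
      c ∈ Φ.fixC ∧ ∀ i, ChevSimple.chi c (pRoot setupD4.good i) = 1} = 1 := by
  have hone : (1 : Fin chevD4.rank → Kˣ) ∈ Φ.fixC ∧
      ∀ i, ChevSimple.chi (1 : Fin chevD4.rank → Kˣ) (pRoot setupD4.good i) = 1 :=
    ⟨one_mem _, fun i => by simp [ChevSimple.chi]⟩
  refine Nat.card_eq_one_iff_exists.2 ⟨⟨1, hone⟩, fun ⟨c, hc, hchi⟩ => Subtype.ext ?_⟩
  obtain ⟨hcart, p0, p1, p2, p3⟩ := cartanD4_eq
  have hfix := Φ.mem_fixC.1 hc
  have g0 := congrArg Units.val (hfix (nodeD4 0))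
  have g2 := congrArg Units.val (hfix (nodeD4 2))
  rw [p0, Φ.coe_fU] at g0
  rw [p2, Φ.coe_fU] at g2
  have e : ∀ i : Fin 4, _ = _ := fun i => congrArg Units.val ((chiD4 c i).symm.trans (hchi (nodeD4 i)))
  have e0 := e 0
  have e1 := e 1
  have e2 := e 2
  have e3 := e 3
  simp only [cartanD4, Matrix.cons_val, Units.val_mul, Units.val_one, zpow_zero, one_mul, mul_one,
    Units.val_zpow_eq_zpow_val, zpow_neg, zpow_one, zpow_ofNat, pow_zero, pow_one,
    Units.val_pow_eq_pow_val, Units.val_inv_eq_inv_val] at e0 e1 e2 e3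
  have na := (c (nodeD4 0)).ne_zero
  have nb := (c (nodeD4 1)).ne_zero
  have nc := (c (nodeD4 2)).ne_zero
  have nd := (c (nodeD4 3)).ne_zero
  generalize hA : ((c (nodeD4 0) : Kˣ) : K) = a at e0 e1 e2 e3 g0 g2 na nb nc nd
  generalize hB : ((c (nodeD4 1) : Kˣ) : K) = b at e0 e1 e2 e3 g0 g2 na nb nc nd
  generalize hC : ((c (nodeD4 2) : Kˣ) : K) = u at e0 e1 e2 e3 g0 g2 na nb nc nd
  generalize hD : ((c (nodeD4 3) : Kˣ) : K) = v at e0 e1 e2 e3 g0 g2 na nb nc nd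
  field_simp at e0 e1 e2 e3
  have hab : b = a ^ 2 := by linear_combination -e0
  have hu : u ^ 2 = a ^ 2 := by linear_combination e2 - e0
  have hv : v ^ 2 = a ^ 2 := by linear_combination e3 - e0
  have ha2 : a ^ 2 = 1 := by
    have h8 : a ^ 6 * a ^ 2 = a ^ 6 * 1 := by
      calc a ^ 6 * a ^ 2 = (b ^ 2) ^ 2 := by rw [hab]; ring
        _ = (a * u * v) ^ 2 := by rw [e1]
        _ = a ^ 2 * u ^ 2 * v ^ 2 := by ring
        _ = a ^ 6 * 1 := by rw [hu, hv]; ring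
    exact mul_left_cancel₀ (pow_ne_zero 6 na) h8
  have hfa : Φ.f a = a := by
    rcases sq_eq_one_iff.1 ha2 with h | h <;> simp [h, map_neg]
  have hua : u = a := by rw [g0, hfa]
  have hva : v = a := by rw [g2, hua, hfa]
  have hb : b = 1 := by rw [hab, ha2]
  have ha : a = 1 := by
    have : a * a ^ 2 = 1 := by rw [hb, hua, hva] at e1; linear_combination -e1
    rwa [ha2, mul_one] at this
  funext i
  apply Units.ext
  obtain ⟨i, rfl⟩ : ∃ j, nodeD4 j = i := ⟨i, rfl⟩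
  fin_cases i
  · exact hA.trans ha
  · exact hB.trans hb
  · exact hC.trans (hua.trans ha)
  · exact hD.trans (hva.trans ha)

/-- The order of the fixed torus of `³D₄`. -/
theorem natCard_H₀_D4 [Finite K] {q : ℕ} (Φ : FieldTwist setupD4 K)
    (hfix : Nat.card {x : K // Φ.f x = x} = q) (hK : Nat.card K = q ^ setupD4.cfg.k) :
    Nat.card Φ.H₀ = (q - 1) ^ 2 * (q ^ 2 + q + 1) := by
  have h := Φ.natCard_H₀ hfix hK
  rw [kerD4_card, mul_one] at h
  rw [h]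
  have ho : ∀ o : Fin 2, setupD4.osize (setupD4.spR o) = (![3, 1] : Fin 2 → ℕ) o := by
    decide +kernel
  refine (Fin.prod_univ_two fun o : Fin 2 => q ^ setupD4.osize (setupD4.spR o) - 1).trans ?_
  rw [ho, ho]
  show (q ^ 3 - 1) * (q ^ 1 - 1) = _
  rcases q with _ | r
  · simp
  rw [show (r + 1) ^ 3 - 1 = r * ((r + 1) ^ 2 + (r + 1) + 1) from Nat.sub_eq_of_eq_add (by ring),
    pow_one, Nat.add_sub_cancel]
  ring

end CfsgLib.GraphTwist
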