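import Cfsg.Agent.GraphTwist.FamilyE6
import Cfsg.Agent.GraphTwist.Count

/-!
# The order of `²E₆(q)`
-/

set_option autoImplicit false

namespace CfsgLib.GraphTwist

open Cfsg.Lie CfsgLib.Chevalley
open scoped MatrixGroups

/-- The projection of the roots of `E₆` onto those of `F₄`. -/
def projE6 : List ℕ :=
  [0, 1, 2, 3, 7, 3, 4, 8, 5, 9, 11, 6, 10, 12, 13, 14, 7, 8, 15, 9, 16, 18, 11, 18, 21, 23, 10,
    17, 19, 20, 12, 19, 22, 13, 20, 14, 33, 27, 34, 25, 28, 35, 27, 28, 30, 37, 24, 26, 29, 36,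
    29, 31, 38, 32, 39, 40, 33, 34, 35, 37, 41, 36, 38, 42, 39, 43, 44, 40, 44, 45, 46, 47]

theorem sum_wt_E6 [hF : Fintype setupE6.cfg.M.Group] (q : ℕ) :
    (q + 1) ^ 2 * ∑ w : setupE6.cfg.M.Group, q ^ setupE6.wt w =
      (∑ i ∈ Finset.range 2, q ^ i) * (∑ i ∈ Finset.range 6, q ^ i) *
        (∑ i ∈ Finset.range 8, q ^ i) * (∑ i ∈ Finset.range 12, q ^ i) * (q ^ 5 + 1) *
        (q ^ 9 + 1) := by
  have h := @sum_pow_wlen_mul chevF4 _ _ _ Weyl.rootF4_good (fibre chevE6 projE6) ℕ _ hF (by decide +kernel) q [1, 2, 1]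
    [List.replicate 2 1, List.replicate 6 1, List.replicate 8 1, List.replicate 12 1,
      List.replicate 1 1 ++ List.replicate 4 0 ++ [1], List.replicate 1 1 ++ List.replicate 8 0 ++ [1]]
    (by decide +kernel)
  have hw : ∀ w : setupE6.cfg.M.Group, setupE6.wt w =
      wlen Weyl.rootF4_good (fibre chevE6 projE6) w := fun w =>
    setupE6.wt_eq_wlen (D' := chevF4) rfl Weyl.rootF4_good (MonoidHom.id _) (fun o => rfl)
      (by decide +kernel) (by decide +kernel) w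
  simp only [hw]
  refine (Eq.trans ?_ h).trans ?_
  · congr 1
    simp [Weyl.evalList]
    ring
  · have e5 : Weyl.evalList q (List.replicate 1 1 ++ List.replicate 4 0 ++ [1]) = q ^ 5 + 1 := by
      simp [Weyl.evalList, List.replicate]
      ring
    have e9 : Weyl.evalList q (List.replicate 1 1 ++ List.replicate 8 0 ++ [1]) = q ^ 9 + 1 := by
      simp [Weyl.evalList, List.replicate]
      ring
    simp only [List.map_cons, List.map_nil, List.prod_cons, List.prod_nil, e5, e9,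
      Weyl.evalList_replicate_one, mul_one, mul_assoc]

variable {K : Type*} [Field K]

/-- `(3, q + 1) |²E₆(q)| = q³⁶ (q² - 1)(q⁵ + 1)(q⁶ - 1)(q⁸ - 1)(q⁹ + 1)(q¹² - 1)`. -/
theorem natCard_twistedE6 [Fintype K] {q : ℕ} (hq : IsPrimePow q) (hK : Fintype.card K = q ^ 2) :
    Nat.gcd 3 (q + 1) * Nat.card ↥(twistedE6 K q) =
      q ^ 36 * (q ^ 2 - 1) * (q ^ 5 + 1) * (q ^ 6 - 1) * (q ^ 8 - 1) * (q ^ 9 + 1) *
        (q ^ 12 - 1) := by
  obtain ⟨Φ, e, hf, hfix, hK', -⟩ := twistedE6_eq_tG hq hK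
  haveI : Finite setupE6.cfg.M.Group := Weyl.rootF4_good.finite_group
  letI := Fintype.ofFinite setupE6.cfg.M.Group
  rw [e, Φ.natCard_tG setupE6_faithful hfix hK', show half chevE6 = 36 from rfl]
  have hd := natCard_H₀_E6 Φ hf hfix hK
  rw [← geom_sum_mul_of_one_le hq.one_lt.le 2, ← geom_sum_mul_of_one_le hq.one_lt.le 6,
    ← geom_sum_mul_of_one_le hq.one_lt.le 8, ← geom_sum_mul_of_one_le hq.one_lt.le 12]
  calc Nat.gcd 3 (q + 1) * (q ^ 36 * Nat.card ↥Φ.H₀ * ∑ w, q ^ setupE6.wt w)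
      = q ^ 36 * (Nat.gcd 3 (q + 1) * Nat.card ↥Φ.H₀) * ∑ w, q ^ setupE6.wt w := by ring
    _ = q ^ 36 * (q - 1) ^ 4 * ((q + 1) ^ 2 * ∑ w, q ^ setupE6.wt w) := by rw [hd]; ring
    _ = _ := by rw [sum_wt_E6]; ring

end CfsgLib.GraphTwist
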