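import Cfsg.Agent.GraphTwist.TorusCard

/-!
# The field automorphism `t ↦ t ^ q` of the field with `q ^ k` elements
-/

set_option autoImplicit false

namespace CfsgLib.GraphTwist

/-- The map `t ↦ t ^ q` of a field with `q ^ k` elements: its period and its fixed points. -/
theorem exists_frobenius {K : Type*} [Field K] [Fintype K] {q k : ℕ} (hq : IsPrimePow q)
    (hk : k ≠ 0) (hK : Fintype.card K = q ^ k) :
    ∃ f : K ≃+* K, (∀ x, f x = x ^ q) ∧ (∀ x, f^[k] x = x) ∧
      Nat.card {x : K // f x = x} = q := by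
  classical
  obtain ⟨p, n, hp, hn, rfl⟩ := hq
  obtain ⟨p', hchar⟩ := CharP.exists K
  obtain ⟨m, hp', hm⟩ := FiniteField.card K p'
  have hpp : p' = p := by
    have h1 : p ∣ p' ^ (m : ℕ) := by
      rw [← hm, hK]
      exact dvd_pow (dvd_pow_self p hn.ne') hk
    exact ((Nat.prime_dvd_prime_iff_eq hp.nat_prime hp').1 (hp.nat_prime.dvd_of_dvd_pow h1)).symm
  subst hpp
  haveI : Fact p'.Prime := ⟨hp'⟩
  let f : K ≃+* K := RingEquiv.ofBijective (iterateFrobenius K p' n)
    ⟨(iterateFrobenius K p' n).injective,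
      Finite.injective_iff_surjective.1 (iterateFrobenius K p' n).injective⟩
  have hf : ∀ x, f x = x ^ (p' ^ n) := fun x => iterateFrobenius_def p' n x
  have hit : ∀ (j : ℕ) (x : K), f^[j] x = x ^ ((p' ^ n) ^ j) := by
    intro j
    induction j with
    | zero => simp
    | succ j ih =>
      intro x
      rw [Function.iterate_succ_apply', ih, hf, ← pow_mul, ← pow_succ]
  refine ⟨f, hf, fun x => by rw [hit, ← hK, FiniteField.pow_card], ?_⟩
  set q := p' ^ n with hq
  have hq1 : 1 ≤ q := Nat.one_le_pow _ _ hp'.pos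
  have hdvd : q - 1 ∣ q ^ k - 1 := by
    simpa using Nat.sub_dvd_pow_sub_pow q 1 k
  let e : {x : {x : K // f x = x} // x ≠ ⟨0, map_zero _⟩} ≃
      (powMonoidHom (q - 1) : Kˣ →* Kˣ).ker :=
    { toFun := fun x => ⟨Units.mk0 x.1.1 fun e => x.2 (Subtype.ext e), by
        apply Units.ext
        apply mul_left_cancel₀ (a := x.1.1) (fun e => x.2 (Subtype.ext e))
        have h1 : x.1.1 * x.1.1 ^ (q - 1) = x.1.1 ^ q := by
          rw [← pow_succ', Nat.sub_add_cancel hq1]
        simpa [h1] using (hf x.1.1).symm.trans x.1.2⟩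
      invFun := fun a => ⟨⟨(a.1 : K), by
          have h1 := congrArg Units.val a.2
          simp only [powMonoidHom_apply, Units.val_pow_eq_pow_val, Units.val_one] at h1
          have h2 : (a.1 : K) ^ (q - 1 + 1) = a.1 := by rw [pow_succ, h1, one_mul]
          rwa [Nat.sub_add_cancel hq1, ← hf] at h2⟩,
        fun e => a.1.ne_zero (congrArg Subtype.val e)⟩
      left_inv := fun x => rfl
      right_inv := fun a => Subtype.ext (Units.ext rfl) }
  have h1 := Nat.card_congr e
  rw [IsCyclic.card_powMonoidHom_ker, Nat.card_units, Nat.card_eq_fintype_card (α := K), hK,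
    Nat.gcd_eq_right hdvd, Nat.card_eq_fintype_card, Fintype.card_subtype_compl,
    Fintype.card_subtype_eq] at h1
  have h0 : 0 < Fintype.card {x : K // f x = x} := Fintype.card_pos_iff.2 ⟨⟨0, map_zero _⟩⟩
  rw [Nat.card_eq_fintype_card]
  omega

end CfsgLib.GraphTwist
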