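import Cfsg.Agent.GraphTwist.Perfect
import Cfsg.Agent.GraphTwist.Faithful
import Cfsg.Agent.GraphTwist.Field
import Cfsg.Agent.Twisted.GraphSym
import Cfsg.Agent.Chevalley.WeylData
import Cfsg.Agent.Weyl.RootE6
import Cfsg.Agent.Weyl.RootF4
import Cfsg.Prelude.Def_LieTwisted

/-!
# The twist of `E₆`
-/

set_option autoImplicit false

namespace CfsgLib.GraphTwist

open Cfsg.Lie CfsgLib.Chevalley

set_option maxHeartbeats 2000000

/-- The data of the twist. -/
def cfgE6 : Cfg chevE6 where
  S := Twisted.graphE6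
  R := Weyl.reflTableE6
  k := 2
  m := 4
  nodes := [[0, 5], [2, 4], [3], [1]]
  reps := [36, 37, 39, 46, 38, 40, 47, 41, 44, 48, 45, 49, 51, 52, 53, 60, 54, 63, 55, 65, 66, 69,
    70, 71]
  M := CoxeterMatrix.F₄
  w0 := [0, 1, 0, 2, 1, 0, 2, 1, 2, 3, 2, 1, 0, 2, 1, 2, 3, 2, 1, 0, 2, 1, 2, 3]

theorem cfgE6_valid : cfgE6.Valid where
  ok := Twisted.graphE6_ok
  two_le := by decide +kernel
  delta := by decide +kernel
  len := by decide +kernel
  m_pos := by decide +kernel
  root := by decide +kernel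
  node := by decide +kernel
  nodup := by decide +kernel
  orbit := by decide +kernel
  posPerm := by decide +kernel
  step := by decide +kernel
  descend := by decide +kernel
  refl := by decide +kernel
  braid := by decide +kernel
  long := by decide +kernel
  joined := by decide +kernel

/-- The twist with its frames. -/
def setupE6 : Setup chevE6 where
  C := Weyl.certE6
  W := CoxeterMatrix.E₆
  cfg := cfgE6
  good := goodWeyl_of_mem (by simp)
  rootGood := Weyl.rootE6_good
  valid := cfgE6_valid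

theorem setupE6_faithful : setupE6.Faithful :=
  setupE6.faithful_of_proj Weyl.rootF4_good.rootPerm Weyl.rootF4_good.rootPerm_injective
    Weyl.reflTableF4 (fun o v => Weyl.rootF4_good.rootPerm_simple_step o v)
    (P := [0, 1, 2, 3, 7, 3, 4, 8, 5, 9, 11, 6, 10, 12, 13, 14, 7, 8, 15, 9, 16, 18, 11, 18, 21,
      23, 10, 17, 19, 20, 12, 19, 22, 13, 20, 14, 33, 27, 34, 25, 28, 35, 27, 28, 30, 37, 24, 26,
      29, 36, 29, 31, 38, 32, 39, 40, 33, 34, 35, 37, 41, 36, 38, 42, 39, 43, 44, 40, 44, 45, 46,
      47])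
    (by decide +kernel)

theorem setupE6_cert : setupE6.cfg.chkCert [(2, 70), (1, 71)] = true := by decide +kernel

end CfsgLib.GraphTwist
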