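import Cfsg.Agent.GraphTwist.Bruhat
import Cfsg.Agent.ChevSimple.Basic
import Cfsg.Agent.BNPairs.Simplicity
import Cfsg.Prelude.Def_LieExceptional

/-!
# The (B, N)-pair of the twisted group, its irreducibility and the core of its Borel subgroup
-/

set_option autoImplicit false

namespace CfsgLib.GraphTwist

open Cfsg.Lie CfsgLib.Chevalley CfsgLib.Twisted
open scoped MatrixGroups commutatorElement

namespace Setup

variable {D : ChevalleyDatum} (τ : Setup D)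

theorem wR_injective : Function.Injective τ.wR := by
  intro o o' e
  have h1 : τ.wR o' (τ.spR o) = (τ.spR o).rev := by rw [← e, τ.wR_orb (τ.self_mem_orb _)]
  rcases τ.wR_neg h1 with h2 | h2
  · exact τ.spR_orb_unique h2
  · have h3 := τ.orb_spR_pos h2
    have := τ.spR_pos o
    have := τ.good.good.two_half
    rw [Fin.val_rev] at h3
    omega

theorem joined (o : ℕ) (ho : o + 1 < τ.cfg.m) :
    τ.wR ⟨o, by omega⟩ * τ.wR ⟨o + 1, ho⟩ ≠ τ.wR ⟨o + 1, ho⟩ * τ.wR ⟨o, by omega⟩ := by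
  intro e
  have := List.all_eq_true.1 τ.valid.joined o (List.mem_range.2 (by omega))
  simp only [List.any_eq_true, List.mem_range, decide_eq_true_eq] at this
  obtain ⟨r, hr, hne⟩ := this
  apply hne
  have h2 := congrArg (fun p : Equiv.Perm (Root D) => ((p ⟨r, hr⟩ : Root D) : ℕ)) e
  simpa only [Equiv.Perm.mul_apply, wR_val] using h2

theorem θ_w₀_neg {r : Root D} (hr : (r : ℕ) < half D) {K : Type*} [Field K] {g : GL D.Idx K}
    (hg : MonBy τ.good g (τ.θ τ.w₀)) : half D ≤ (τ.θ τ.w₀ r : ℕ) := by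
  have h2 := τ.good.good.two_half
  have h := τ.θ_w₀ (r := r.rev) (by rw [Fin.val_rev]; omega)
  rw [hg.apply_rev, Fin.val_rev] at h
  have := (τ.θ τ.w₀ r).2
  omega

end Setup

namespace FieldTwist

variable {D : ChevalleyDatum} {τ : Setup D} {K : Type*} [Field K] (Φ : FieldTwist τ K)

/-- The orbit reflection as an element of the twisted group. -/
def nG1 (o : Fin τ.cfg.m) : ↥Φ.tG := ⟨Φ.nO o, Φ.nO_mem_tG o⟩

theorem torC_conj_oX {c : Fin D.rank → Kˣ} (hc : c ∈ Φ.fixC) (r : Root D) (t : K) :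
    torC D c * Φ.oX r t * (torC D c)⁻¹ = Φ.oX r ((ChevSimple.chi c r : K) * t) := by
  have hf : torC D c ∈ Φ.fix := Φ.H₀_le_fix ⟨c, hc, rfl⟩
  rw [oX, oX, ← MulAut.conj_apply, map_list_prod, List.map_map]
  refine congrArg List.prod (List.map_congr_left fun j _ => ?_)
  rw [Function.comp_apply, MulAut.conj_apply, ← ChevSimple.torC_conj_X τ.good.good, map_mul,
    map_mul, map_inv, Φ.pow_apply_fix hf]

variable [Finite K] (hθ : τ.Faithful)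
include hθ

theorem exists_n₀ : ∃ g ∈ Φ.M₀, MonBy τ.good g (τ.θ τ.w₀) := by
  obtain ⟨g, hg⟩ := Φ.weyl_surjective hθ τ.w₀
  exact ⟨g, g.2, hg ▸ Φ.monBy_weyl hθ g⟩

/-- The (B, N)-pair. -/
theorem exists_bnPair :
    ∃ P : Cfsg.BNPair ↥Φ.tG,
      P.B = (D.borelSubgroup K ⊓ Φ.tG).subgroupOf Φ.tG ∧
      P.N = (D.monomialSubgroup K ⊓ Φ.tG).subgroupOf Φ.tG ∧
      P.S = Set.range Φ.nG1 := by
  rw [Φ.borel_inf_tG hθ, Φ.monomial_inf_tG hθ]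
  refine ⟨{
    B := Φ.B1.subgroupOf Φ.tG
    N := Φ.M₀.subgroupOf Φ.tG
    S := Set.range Φ.nG1
    sup_eq_top := ?_
    conj_mem := ?_
    subset := ?_
    sq_mem := ?_
    inj := ?_
    closure_sup := ?_
    mul_mem_union := ?_
    conj_ne := ?_ }, rfl, rfl, rfl⟩
  · rw [← Subgroup.subgroupOf_sup Φ.B1_le_tG Φ.M₀_le_tG, Subgroup.subgroupOf_eq_top]
    intro g hg
    obtain ⟨u, hu, m, hm, v, hv, rfl⟩ := Φ.exists_decomp hg
    exact mul_mem (mul_mem (Subgroup.mem_sup_left (Subgroup.mem_sup_left hu))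
      (Subgroup.mem_sup_right hm)) (Subgroup.mem_sup_left (Subgroup.mem_sup_left hv))
  · rintro n hn t ht
    obtain ⟨htB, htN⟩ := Subgroup.mem_inf.1 ht
    exact (Subgroup.mem_sup_right : _ → ((n * t * n⁻¹ : ↥Φ.tG) : GL D.Idx K) ∈ Φ.B1)
      ((Subgroup.mem_normalizer_iff.1 (Φ.M₀_le_normalizer_H₀ hn) _).1
        (Φ.borel_inf_M₀ hθ (Φ.B1_le_borel htB) htN))
  · rintro _ ⟨o, rfl⟩
    exact Φ.nO_mem_M₀ o
  · rintro _ ⟨o, rfl⟩
    exact (Subgroup.mem_sup_right : _ → ((Φ.nG1 o * Φ.nG1 o : ↥Φ.tG) : GL D.Idx K) ∈ Φ.B1)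
      (Φ.nO_sq_mem o)
  · rintro _ ⟨a, rfl⟩ _ ⟨b, rfl⟩ hab
    have hm : (Φ.nO a)⁻¹ * Φ.nO b ∈ Φ.M₀ := mul_mem (inv_mem (Φ.nO_mem_M₀ a)) (Φ.nO_mem_M₀ b)
    have h1 := Φ.borel_inf_M₀ hθ (Φ.B1_le_borel hab) hm
    have h2 := ((Φ.monBy_nO a).inv.mul (Φ.monBy_nO b)).unique
      (monBy_diag τ.good (Φ.H₀_le_diag h1))
    rw [inv_mul_eq_one] at h2
    rw [τ.wR_injective h2]
  · apply Subgroup.map_injective (f := Φ.tG.subtype) (Subgroup.subtype_injective _)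
    rw [Subgroup.map_sup, MonoidHom.map_closure,
      Subgroup.map_inf _ _ _ (Subgroup.subtype_injective _)]
    simp only [Subgroup.subgroupOf_map_subtype]
    rw [inf_eq_left.2 Φ.M₀_le_tG, inf_eq_left.2 Φ.B1_le_tG,
      show Φ.B1 ⊓ Φ.M₀ = Φ.H₀ from le_antisymm
        (fun g hg => Φ.borel_inf_M₀ hθ (Φ.B1_le_borel hg.1) hg.2)
        (le_inf le_sup_right Φ.H₀_le_M₀), M₀, sup_comm, ← Set.range_comp]
    rfl
  · rintro _ ⟨o, rfl⟩ n hn b hb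
    obtain ⟨u, hu, h, hh, e⟩ := Φ.mem_B1_iff.1 hb
    have hn' : (n : GL D.Idx K) ∈ Φ.M₀ := hn
    have hval : ((Φ.nG1 o * b * n : ↥Φ.tG) : GL D.Idx K) =
        Φ.nO o * u * (h * (n : GL D.Idx K)) := by
      show Φ.nO o * (b : GL D.Idx K) * (n : GL D.Idx K) = _
      rw [show (b : GL D.Idx K) = u * h from e.symm]; group
    have key : ∀ (m : ↥Φ.tG) (g : ↥Φ.tG) (c c' : GL D.Idx K), c ∈ Φ.B1 → c' ∈ Φ.B1 →
        (g : GL D.Idx K) = c * m * c' → g ∈ DoubleCoset.doubleCoset m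
          ((Φ.B1.subgroupOf Φ.tG : Subgroup ↥Φ.tG) : Set ↥Φ.tG) (Φ.B1.subgroupOf Φ.tG) :=
      fun m g c c' hc hc' he => DoubleCoset.mem_doubleCoset.2
        ⟨⟨c, Φ.B1_le_tG hc⟩, hc, ⟨c', Φ.B1_le_tG hc'⟩, hc', Subtype.ext he⟩
    rcases Φ.nO_mul_U1_mul o hu (mul_mem (Φ.H₀_le_M₀ hh) hn') with
      ⟨u', hu', v, hv, e'⟩ | ⟨u', hu', k, hk, v, hv, e'⟩
    · refine Or.inl (key _ _ (u' * (Φ.nO o * h * (Φ.nO o)⁻¹)) v
        (mul_mem (Subgroup.mem_sup_left hu')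
          (Subgroup.mem_sup_right (Φ.conj_H₀ (Φ.monBy_nO o) (Φ.nO_mem_fix o) hh)))
        (Subgroup.mem_sup_left hv) ?_)
      rw [hval, e']
      show _ = u' * (Φ.nO o * h * (Φ.nO o)⁻¹) * (Φ.nO o * (n : GL D.Idx K)) * v
      group
    · refine Or.inr (key _ _ (u' * (k * h)) v
        (mul_mem (Subgroup.mem_sup_left hu') (Subgroup.mem_sup_right (mul_mem hk hh)))
        (Subgroup.mem_sup_left hv) ?_)
      rw [hval, e']
      group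
  · rintro _ ⟨o, rfl⟩ e
    let x : ↥Φ.tG := ⟨Φ.oX (τ.spR o) 1, Φ.oX_mem_tG o (Φ.adm_one _)⟩
    have hxB : x ∈ Φ.B1.subgroupOf Φ.tG := (Subgroup.mem_sup_left :
      _ → (x : GL D.Idx K) ∈ Φ.B1) ⟨Φ.oX_mem_pos (τ.spR_pos o) _, Φ.oX_mem_fix (Φ.adm_one _)⟩
    have h1 : Φ.nG1 o * x * Φ.nG1 o ∈ (Φ.B1.subgroupOf Φ.tG : Set ↥Φ.tG) := e ▸ ⟨x, hxB, rfl⟩
    have h2 : Φ.nO o * Φ.oX (τ.spR o) 1 * Φ.nO o * (Φ.nO o * Φ.nO o)⁻¹ ∈ D.borelSubgroup K :=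
      mul_mem (Φ.B1_le_borel h1) (inv_mem (diag_le_borel D (Φ.H₀_le_diag (Φ.nO_sq_mem o))))
    obtain ⟨c, hc⟩ := Φ.conj_oX (Φ.monBy_nO o) (Φ.nO_mem_fix o) (τ.spR o)
    obtain ⟨-, e1⟩ := hc 1 (Φ.adm_one _)
    rw [show Φ.nO o * Φ.oX (τ.spR o) 1 * Φ.nO o * (Φ.nO o * Φ.nO o)⁻¹ =
      Φ.nO o * Φ.oX (τ.spR o) 1 * (Φ.nO o)⁻¹ by group] at h2
    have h3 : Φ.nO o * Φ.oX (τ.spR o) 1 * (Φ.nO o)⁻¹ ∈ D.borelSubgroup K ⊓ D.negUnipotent K := by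
      refine Subgroup.mem_inf.2 ⟨h2, ?_⟩
      rw [e1]
      refine Φ.oX_mem_neg ?_ _
      rw [τ.wR_orb (τ.self_mem_orb _)]
      exact pRoot_rev_neg τ.good _
    rw [borel_inf_neg τ.good, Subgroup.mem_bot] at h3
    have h4 : Φ.oX (τ.spR o) (1 : K) = Φ.oX (τ.spR o) 0 := by
      rw [oX_zero]
      calc Φ.oX (τ.spR o) 1
          = (Φ.nO o)⁻¹ * (Φ.nO o * Φ.oX (τ.spR o) 1 * (Φ.nO o)⁻¹) * Φ.nO o := by group
        _ = 1 := by rw [h3]; group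
    exact one_ne_zero (Φ.oX_injective (τ.spR_pos o) h4)

theorem irreducible (P : Cfsg.BNPair ↥Φ.tG)
    (hB : P.B = (D.borelSubgroup K ⊓ Φ.tG).subgroupOf Φ.tG) (hS : P.S = Set.range Φ.nG1) :
    P.Irreducible := by
  intro J hJS hJ hJc
  by_contra hcon
  push Not at hcon
  have hcomm : ∀ a b, Φ.nG1 a ∈ J → Φ.nG1 b ∉ J →
      τ.wR a * τ.wR b = τ.wR b * τ.wR a := by
    intro a b ha hb
    have h := hcon _ ha _ ⟨hS ▸ ⟨b, rfl⟩, hb⟩
    rw [hB, Subgroup.mem_subgroupOf, Subgroup.mem_inf] at h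
    have hm : Φ.nO a * Φ.nO b * (Φ.nO a)⁻¹ * (Φ.nO b)⁻¹ ∈ Φ.M₀ :=
      mul_mem (mul_mem (mul_mem (Φ.nO_mem_M₀ a) (Φ.nO_mem_M₀ b)) (inv_mem (Φ.nO_mem_M₀ a)))
        (inv_mem (Φ.nO_mem_M₀ b))
    have h1 := Φ.borel_inf_M₀ hθ (show Φ.nO a * Φ.nO b * (Φ.nO a)⁻¹ * (Φ.nO b)⁻¹ ∈
      D.borelSubgroup K from h.1) hm
    have h2 := ((((Φ.monBy_nO a).mul (Φ.monBy_nO b)).mul (Φ.monBy_nO a).inv).mul
      (Φ.monBy_nO b).inv).unique (monBy_diag τ.good (Φ.H₀_le_diag h1))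
    rwa [mul_inv_eq_one, mul_inv_eq_iff_eq_mul] at h2
  have hstep : ∀ o (ho : o + 1 < τ.cfg.m),
      Φ.nG1 ⟨o, by omega⟩ ∈ J ↔ Φ.nG1 ⟨o + 1, ho⟩ ∈ J := by
    intro o ho
    constructor
    · intro h
      by_contra hn
      exact τ.joined o ho (hcomm _ _ h hn)
    · intro h
      by_contra hn
      exact τ.joined o ho (hcomm _ _ h hn).symm
  have hall : ∀ o : Fin τ.cfg.m, Φ.nG1 o ∈ J ↔ Φ.nG1 ⟨0, τ.valid.m_pos⟩ ∈ J := by
    rintro ⟨o, ho⟩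
    induction o with
    | zero => exact Iff.rfl
    | succ o ih => exact (hstep o ho).symm.trans (ih (by omega))
  obtain ⟨s, hs⟩ := hJ
  obtain ⟨t, ht, htJ⟩ := hJc
  have hs' := hJS hs
  rw [hS] at hs' ht
  obtain ⟨a, rfl⟩ := hs'
  obtain ⟨b, rfl⟩ := ht
  exact htJ ((hall b).2 ((hall a).1 hs))

/-- The core of the Borel subgroup is trivial. -/
theorem normalCore_eq_bot :
    ((D.borelSubgroup K ⊓ Φ.tG).subgroupOf Φ.tG).normalCore = ⊥ := by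
  rw [Φ.borel_inf_tG hθ]
  set C := (Φ.B1.subgroupOf Φ.tG).normalCore with hC
  have hCB : ∀ x : ↥Φ.tG, x ∈ C → (x : GL D.Idx K) ∈ Φ.B1 := fun x hx =>
    Subgroup.normalCore_le (Φ.B1.subgroupOf Φ.tG) hx
  obtain ⟨g, hg, hgπ⟩ := Φ.exists_n₀ hθ
  have hdiag : ∀ x : ↥Φ.tG, x ∈ C → (x : GL D.Idx K) ∈ Φ.H₀ := by
    intro x hx
    obtain ⟨u, hu, h, hh, e⟩ := Φ.mem_B1_iff.1 (hCB x hx)
    have hy := hCB _ ((Subgroup.normalCore_normal _).conj_mem x hx ⟨g, Φ.M₀_le_tG hg⟩)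
    have hy' : g * u * g⁻¹ * (g * h * g⁻¹) ∈ Φ.B1 := by
      have : g * u * g⁻¹ * (g * h * g⁻¹) = g * (x : GL D.Idx K) * g⁻¹ := by rw [← e]; group
      rw [this]; exact hy
    have hgh : g * h * g⁻¹ ∈ Φ.B1 :=
      Subgroup.mem_sup_right (Φ.conj_H₀ hgπ (Φ.M₀_le_fix hg) hh)
    have h1 : g * u * g⁻¹ ∈ D.borelSubgroup K ⊓ D.negUnipotent K := by
      refine Subgroup.mem_inf.2 ⟨Φ.B1_le_borel ?_, ?_⟩
      · have := mul_mem hy' (inv_mem hgh)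
        rwa [mul_inv_cancel_right] at this
      · have hu' := (Subgroup.mem_inf.1 hu).1
        rw [posUnipotent_eq_rootGen τ.good.good] at hu'
        rw [negUnipotent_eq_rootGen τ.good.good]
        exact hgπ.conj_rootGen (fun r hr => τ.θ_w₀ hr) hu'
    rw [borel_inf_neg τ.good, Subgroup.mem_bot] at h1
    have : u = 1 := by
      calc u = g⁻¹ * (g * u * g⁻¹) * g := by group
        _ = 1 := by rw [h1]; group
    rw [← e, this, one_mul]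
    exact hh
  rw [Subgroup.eq_bot_iff_forall]
  intro x hx
  obtain ⟨c, hc, hcx⟩ := hdiag x hx
  have hcx' : torC D c = (x : GL D.Idx K) := hcx
  have hpos : ∀ r : Root D, half D ≤ (r : ℕ) → ChevSimple.chi c r = 1 := by
    intro r hr
    have hy : Φ.oX r (1 : K) ∈ Φ.U1 :=
      Subgroup.mem_inf.2 ⟨Φ.oX_mem_pos hr _, Φ.oX_mem_fix (Φ.adm_one _)⟩
    let y : ↥Φ.tG := ⟨Φ.oX r 1, Φ.U1_le_tG hy⟩
    have hz : x * y * x⁻¹ * y⁻¹ ∈ C := by
      rw [show x * y * x⁻¹ * y⁻¹ = x * (y * x⁻¹ * y⁻¹) by group]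
      exact mul_mem hx ((Subgroup.normalCore_normal _).conj_mem _ (inv_mem hx) y)
    have h1 : (x : GL D.Idx K) * Φ.oX r 1 * (x : GL D.Idx K)⁻¹ * (Φ.oX r 1)⁻¹ ∈
        D.posUnipotent K ⊓ D.diagonalSubgroup K :=
      Subgroup.mem_inf.2 ⟨mul_mem (Subgroup.mem_inf.1 (Φ.H₀_conj_U1 (hdiag x hx) hy)).1
        (inv_mem (Φ.oX_mem_pos hr 1)), Φ.H₀_le_diag (hdiag _ hz)⟩
    rw [pos_inf_diag τ.good, Subgroup.mem_bot, mul_inv_eq_one, ← hcx', Φ.torC_conj_oX hc,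
      mul_one] at h1
    exact Units.ext (Φ.oX_injective hr h1)
  apply Subtype.ext
  rw [← hcx', OneMemClass.coe_one]
  have hall : ∀ r : Root D, ChevSimple.chi c r = 1 := by
    intro r
    by_cases hr : half D ≤ (r : ℕ)
    · exact hpos r hr
    · have h2 := τ.good.good.two_half
      have h3 := hpos r.rev (by rw [Fin.val_rev]; omega)
      simp only [ChevSimple.chi, τ.good.good.cartan_rev, zpow_neg, Finset.prod_inv_distrib,
        inv_eq_one] at h3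
      exact h3
  rw [torC, show (fun s : Root D => ∏ k : Fin D.rank, c k ^ D.cartan k s) = fun _ => 1 from
    funext hall, tor_one]

theorem isSolvable_B1 : Group.IsSolvable ((D.borelSubgroup K ⊓ Φ.tG).subgroupOf Φ.tG) := by
  haveI := ChevSimple.isSolvable_borel (F := K) τ.good
  let f : ↥((D.borelSubgroup K ⊓ Φ.tG).subgroupOf Φ.tG) →* ↥(D.borelSubgroup K) :=
    { toFun := fun x => ⟨((x : ↥Φ.tG) : GL D.Idx K),
        (Subgroup.mem_inf.1 (Subgroup.mem_subgroupOf.1 x.2)).1⟩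
      map_one' := rfl
      map_mul' := fun _ _ => rfl }
  exact Group.isSolvable_of_isSolvable_injective (f := f) fun a b h =>
    Subtype.ext (Subtype.ext (congrArg (fun z : ↥(D.borelSubgroup K) => (z : GL D.Idx K)) h))

end FieldTwist

end CfsgLib.GraphTwist
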