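import Cfsg.Agent.GraphTwist.Group

/-!
# The Bruhat decomposition of the twisted group

`G¹ = U¹ N¹ U¹`, and hence `G¹ ∩ H`, `G¹ ∩ N`, `G¹ ∩ B` and `G¹ ∩ U` are what they should be.
-/

set_option autoImplicit false

namespace CfsgLib.GraphTwist

open Cfsg.Lie CfsgLib.Chevalley CfsgLib.Twisted
open scoped MatrixGroups

namespace Setup

variable {D : ChevalleyDatum} (τ : Setup D) {K : Type*} [Field K]

/-- The positive roots outside a fundamental orbit. -/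
def compl (o : Fin τ.cfg.m) : Set (Root D) := {r | half D ≤ (r : ℕ) ∧ r ∉ τ.orb (τ.spR o)}

theorem commRhs_mem_compl {r s : Root D} (hr : half D ≤ (r : ℕ)) (hs : half D ≤ (s : ℕ)) {i : ℕ}
    (hi : i ≤ τ.cfg.orbPos r) (o : Fin τ.cfg.m) (t u : K) :
    commRhs τ.good.good r s t u ∈ rootGen τ.good.good K (τ.tailSet (i + 1) ∩ τ.compl o) := by
  refine Subgroup.list_prod_mem _ fun x hx => ?_
  simp only [List.map_map, List.mem_map, Function.comp_apply] at hx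
  obtain ⟨c, hc, rfl⟩ := hx
  obtain ⟨h1, h2, h3, -, h5⟩ := τ.valid.step' τ.good.good r.2 hr s.2 hs c hc
  rw [dif_pos h1]
  exact X_mem_rootGen _ (S := τ.tailSet (i + 1) ∩ τ.compl o)
    ⟨⟨h2, show i + 1 ≤ τ.cfg.orbPos c.1 by omega⟩,
      ⟨h2, fun h => h5 o o.2 (τ.mem_orbN_iff.2 h)⟩⟩ _

theorem conj_mem_compl {s : Root D} (hs : half D ≤ (s : ℕ)) (v : K) (o : Fin τ.cfg.m)
    {g : GL D.Idx K} (hg : g ∈ rootGen τ.good.good K (τ.compl o)) :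
    X τ.good.good s v * g * (X τ.good.good s v)⁻¹ ∈ rootGen τ.good.good K (τ.compl o) := by
  suffices H : ∀ n i, τ.norb ≤ i + n →
      ∀ {g : GL D.Idx K}, g ∈ rootGen τ.good.good K (τ.tailSet i ∩ τ.compl o) →
      X τ.good.good s v * g * (X τ.good.good s v)⁻¹ ∈
        rootGen τ.good.good K (τ.tailSet i ∩ τ.compl o) by
    have e : τ.tailSet 0 ∩ τ.compl o = τ.compl o :=
      Set.inter_eq_right.2 fun r hr => ⟨hr.1, Nat.zero_le _⟩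
    have := H τ.norb 0 (by omega) (g := g) (by rw [e]; exact hg)
    rwa [e] at this
  intro n
  induction n with
  | zero =>
    intro i hi g hg
    have h0 := τ.uT_anti (K := K) (show τ.norb ≤ i by omega)
      (rootGen_mono _ Set.inter_subset_left hg)
    rw [τ.uT_norb, Subgroup.mem_bot] at h0
    simp [h0]
  | succ n ih =>
    intro i hi g hg
    refine (rootGen_le τ.good.good (K := (rootGen τ.good.good K (τ.tailSet i ∩ τ.compl o)).comap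
      (MulAut.conj (X τ.good.good s v)).toMonoidHom) fun r hr t => ?_) hg
    show X τ.good.good s v * X τ.good.good r t * (X τ.good.good s v)⁻¹ ∈
      rootGen τ.good.good K (τ.tailSet i ∩ τ.compl o)
    rcases eq_or_ne s r with rfl | hne
    · rw [X_mul, X_inv, X_mul, show v + t + -v = t by ring]
      exact X_mem_rootGen _ hr t
    have hne' : s ≠ r.rev := by
      intro e
      rw [e, Fin.val_rev] at hs
      have := τ.good.good.two_half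
      have := hr.1.1
      omega
    rw [X_comm τ.good.toGoodComm r s hne hne' t v,
      show ∀ p q W : GL D.Idx K, p * q * W * q⁻¹ = p * (q * W * q⁻¹) from fun p q W => by group]
    exact mul_mem (X_mem_rootGen _ hr t)
      (rootGen_mono _ (fun a (ha : a ∈ τ.tailSet (i + 1) ∩ τ.compl o) =>
        (⟨⟨ha.1.1, (Nat.le_succ i).trans ha.1.2⟩, ha.2⟩ : a ∈ τ.tailSet i ∩ τ.compl o))
        (ih (i + 1) (by omega) (τ.commRhs_mem_compl hr.1.1 hs hr.1.2 o t v)))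

theorem pos_le_normalizer_compl (o : Fin τ.cfg.m) :
    D.posUnipotent K ≤
      Subgroup.normalizer (rootGen τ.good.good K (τ.compl o) : Set (GL D.Idx K)) := by
  rw [posUnipotent_eq_rootGen τ.good.good]
  refine rootGen_le _ fun s hs v => Subgroup.mem_normalizer_iff.2 fun g =>
    ⟨τ.conj_mem_compl hs v o, fun h => ?_⟩
  have := τ.conj_mem_compl hs (-v) o h
  rwa [← X_inv, show ∀ q h : GL D.Idx K, q⁻¹ * (q * h * q⁻¹) * q⁻¹⁻¹ = h from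
    fun q h => by group] at this

theorem exists_split_compl (o : Fin τ.cfg.m) {g : GL D.Idx K} (hg : g ∈ D.posUnipotent K) :
    ∃ v ∈ rootGen τ.good.good K (τ.compl o),
      ∃ x ∈ rootGen τ.good.good K {a | a ∈ τ.orb (τ.spR o)}, g = v * x := by
  have hnorm : ∀ {a}, a ∈ rootGen τ.good.good K {a | a ∈ τ.orb (τ.spR o)} →
      a ∈ Subgroup.normalizer (rootGen τ.good.good K (τ.compl o) : Set (GL D.Idx K)) :=
    fun {a} ha => τ.pos_le_normalizer_compl o (by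
      rw [posUnipotent_eq_rootGen τ.good.good]
      exact rootGen_mono _ (fun b hb => τ.orb_spR_pos hb) ha)
  rw [posUnipotent_eq_rootGen τ.good.good] at hg
  induction hg using Subgroup.closure_induction with
  | mem x hx =>
    obtain ⟨r, hr, t, rfl⟩ := hx
    by_cases h : r ∈ τ.orb (τ.spR o)
    · exact ⟨1, one_mem _, _, X_mem_rootGen _ (S := {a | a ∈ τ.orb (τ.spR o)}) h t,
        (one_mul _).symm⟩
    · exact ⟨_, X_mem_rootGen _ (S := τ.compl o) ⟨hr, h⟩ t, 1, one_mem _, (mul_one _).symm⟩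
  | one => exact ⟨1, one_mem _, 1, one_mem _, (one_mul 1).symm⟩
  | mul a b _ _ ha hb =>
    obtain ⟨v, hv, x, hx, rfl⟩ := ha
    obtain ⟨v', hv', x', hx', rfl⟩ := hb
    exact ⟨v * (x * v' * x⁻¹), mul_mem hv ((Subgroup.mem_normalizer_iff.1 (hnorm hx) _).1 hv'),
      x * x', mul_mem hx hx', by group⟩
  | inv a _ ha =>
    obtain ⟨v, hv, x, hx, rfl⟩ := ha
    refine ⟨x⁻¹ * v⁻¹ * x, ?_, x⁻¹, inv_mem hx, by group⟩
    have := (Subgroup.mem_normalizer_iff.1 (hnorm (inv_mem hx)) _).1 (inv_mem hv)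
    rwa [inv_inv] at this

end Setup

namespace FieldTwist

variable {D : ChevalleyDatum} {τ : Setup D} {K : Type*} [Field K] (Φ : FieldTwist τ K)

theorem nO_conj_compl (o : Fin τ.cfg.m) {g : GL D.Idx K}
    (hg : g ∈ rootGen τ.good.good K (τ.compl o)) :
    Φ.nO o * g * (Φ.nO o)⁻¹ ∈ rootGen τ.good.good K (τ.compl o) :=
  (Φ.monBy_nO o).conj_rootGen (fun _ hr => τ.wR_pos hr.1 hr.2) hg

theorem exists_split_U1 [Finite K] (o : Fin τ.cfg.m) {g : GL D.Idx K} (hg : g ∈ Φ.U1) :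
    ∃ v ∈ rootGen τ.good.good K (τ.compl o) ⊓ Φ.fix, ∃ x, Φ.Adm (τ.spR o) x ∧
      g = v * Φ.oX (τ.spR o) x := by
  obtain ⟨v, hv, a, ha, rfl⟩ := τ.exists_split_compl o hg.1
  have hσ1 : ∀ r ∈ τ.compl o, τ.σR r ∈ τ.compl o := fun r hr =>
    ⟨(τ.σR_pos r).2 hr.1, fun h => hr.2 (by
      obtain ⟨b, hb, e⟩ := List.mem_map.1 ((τ.orb_map_σR _).mem_iff.2 h)
      rwa [← τ.σR.injective e])⟩
  have h1 := Φ.Ψ_mem_rootGen hσ1 hv
  have h2 := Φ.Ψ_mem_rootGen (S := {b | b ∈ τ.orb (τ.spR o)})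
    (fun r hr => (τ.orb_map_σR _).mem_iff.1 (List.mem_map_of_mem hr)) ha
  have hva : Φ.Ψ (v * a) = v * a := Φ.mem_fix.1 hg.2
  rw [map_mul] at hva
  have he : v⁻¹ * Φ.Ψ v = a * (Φ.Ψ a)⁻¹ := by
    calc v⁻¹ * Φ.Ψ v = v⁻¹ * (Φ.Ψ v * Φ.Ψ a) * (Φ.Ψ a)⁻¹ := by group
      _ = _ := by rw [hva]; group
  have h0 : v⁻¹ * Φ.Ψ v = 1 := by
    set z := v⁻¹ * Φ.Ψ v with hz
    have hzC : z ∈ rootGen τ.good.good K (τ.compl o) := mul_mem (inv_mem hv) h1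
    have hzO : z ∈ rootGen τ.good.good K {b | b ∈ τ.orb (τ.spR o)} :=
      he ▸ mul_mem ha (inv_mem h2)
    have hpos : Φ.nO o * z * (Φ.nO o)⁻¹ ∈ D.posUnipotent K := by
      rw [posUnipotent_eq_rootGen τ.good.good]
      exact rootGen_mono _ (fun r hr => hr.1) (Φ.nO_conj_compl o hzC)
    have hneg : Φ.nO o * z * (Φ.nO o)⁻¹ ∈ D.negUnipotent K := by
      rw [negUnipotent_eq_rootGen τ.good.good]
      refine (Φ.monBy_nO o).conj_rootGen (fun r hr => ?_) hzO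
      show (τ.wR o r : ℕ) < half D
      have := τ.orb_spR_pos hr
      have := τ.good.good.two_half
      rw [τ.wR_orb hr, Fin.val_rev]
      omega
    have h3 : Φ.nO o * z * (Φ.nO o)⁻¹ ∈ D.borelSubgroup K ⊓ D.negUnipotent K :=
      ⟨pos_le_borel D hpos, hneg⟩
    rw [borel_inf_neg τ.good, Subgroup.mem_bot] at h3
    calc z = (Φ.nO o)⁻¹ * (Φ.nO o * z * (Φ.nO o)⁻¹) * Φ.nO o := by group
      _ = 1 := by rw [h3]; group
  obtain ⟨x, hx, rfl⟩ := Φ.eq_oX (τ.spR_pos o) ha (Φ.mem_fix.2 (by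
    rw [h0] at he; exact (mul_inv_eq_one.1 he.symm).symm))
  exact ⟨v, ⟨hv, Φ.mem_fix.2 (inv_mul_eq_one.1 h0).symm⟩, x, hx, rfl⟩

theorem H₀_conj_U1 {h u : GL D.Idx K} (hh : h ∈ Φ.H₀) (hu : u ∈ Φ.U1) : h * u * h⁻¹ ∈ Φ.U1 :=
  Subgroup.mem_inf.2
  ⟨(Subgroup.mem_normalizer_iff.1 (diag_le_normalizer_pos τ.good (Φ.H₀_le_diag hh)) u).1 hu.1,
    mul_mem (mul_mem (Φ.H₀_le_fix hh) hu.2) (inv_mem (Φ.H₀_le_fix hh))⟩

/-- An orbit element moved through a monomial element. -/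
theorem exists_move {m : GL D.Idx K} (hm : m ∈ Φ.M₀) {π : Equiv.Perm (Root D)}
    (hπ : MonBy τ.good m⁻¹ π) {r : Root D} (hr : half D ≤ (π r : ℕ)) {x : K} (hx : Φ.Adm r x) :
    ∃ v ∈ Φ.U1, Φ.oX r x * m = m * v := by
  obtain ⟨c, hc⟩ := Φ.conj_oX hπ (inv_mem (Φ.M₀_le_fix hm)) r
  obtain ⟨hadm, e⟩ := hc x hx
  refine ⟨_, ⟨Φ.oX_mem_pos hr _, Φ.oX_mem_fix hadm⟩, ?_⟩
  rw [← e]
  group

/-- The step of the Bruhat decomposition. -/
theorem nO_mul_U1_mul [Finite K] (o : Fin τ.cfg.m) {u m : GL D.Idx K} (hu : u ∈ Φ.U1)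
    (hm : m ∈ Φ.M₀) :
    (∃ u' ∈ Φ.U1, ∃ v ∈ Φ.U1, Φ.nO o * u * m = u' * (Φ.nO o * m) * v) ∨
      ∃ u' ∈ Φ.U1, ∃ k ∈ Φ.H₀, ∃ v ∈ Φ.U1, Φ.nO o * u * m = u' * (k * m) * v := by
  obtain ⟨v, ⟨hv, hvf⟩, x, hx, rfl⟩ := Φ.exists_split_U1 o hu
  set n := Φ.nO o with hn
  have hv' : n * v * n⁻¹ ∈ Φ.U1 := by
    refine Subgroup.mem_inf.2 ⟨?_, mul_mem (mul_mem (Φ.nO_mem_fix o) hvf) (inv_mem (Φ.nO_mem_fix o))⟩
    rw [posUnipotent_eq_rootGen τ.good.good]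
    exact rootGen_mono _ (fun r hr => hr.1) (Φ.nO_conj_compl o hv)
  obtain ⟨w, hw⟩ := Φ.exists_θ hm
  by_cases hp : half D ≤ ((τ.θ w)⁻¹ (τ.spR o) : ℕ)
  · obtain ⟨z, hz, e⟩ := Φ.exists_move hm hw.inv hp hx
    refine Or.inl ⟨_, hv', z, hz, ?_⟩
    calc n * (v * Φ.oX (τ.spR o) x) * m = n * v * n⁻¹ * n * (Φ.oX (τ.spR o) x * m) := by group
      _ = _ := by rw [e]; group
  by_cases hx0 : x = 0
  · exact Or.inl ⟨_, hv', 1, one_mem _, by rw [hx0, oX_zero]; group⟩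
  refine Or.inr ?_
  set a := Units.mk0 x hx0 with ha
  have hadm : Φ.AdmU (τ.spR o) a := Φ.admU_iff.2 hx
  have hadmi : Φ.Adm (τ.spR o) ((a⁻¹ : Kˣ) : K) := Φ.admU_iff.1 (Φ.admU_inv hadm)
  set h := Φ.oH (τ.spR o) a with hh
  have hhH : h ∈ Φ.H₀ := Φ.oH_mem hadm
  set k := n * h * n with hk
  have hkH : k ∈ Φ.H₀ := by
    rw [hk, show n * h * n = n * h * n⁻¹ * (n * n) by group]
    exact mul_mem (Φ.conj_H₀ (Φ.monBy_nO o) (Φ.nO_mem_fix o) hhH) (Φ.nO_sq_mem o)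
  have hX : Φ.oX (τ.spR o) x =
      h * n * Φ.oX (τ.spR o) (-x) * Φ.oX (τ.spR o).rev ((a⁻¹ : Kˣ) : K) := by
    have e := Φ.oX_oY_oX o a
    rw [show h * n = Φ.oX (τ.spR o) x * Φ.oX (τ.spR o).rev (-((a⁻¹ : Kˣ) : K)) *
      Φ.oX (τ.spR o) x from e.symm, ← oX_inv, ← oX_inv]
    group
  have hneg : half D ≤ ((τ.θ w)⁻¹ (τ.spR o).rev : ℕ) := by
    rw [hw.inv.apply_rev, Fin.val_rev]
    have := τ.good.good.two_half
    have := ((τ.θ w)⁻¹ (τ.spR o)).2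
    omega
  obtain ⟨z, hz, e⟩ := Φ.exists_move hm hw.inv hneg (Φ.adm_rev.2 hadmi)
  have hX1 : Φ.oX (τ.spR o) (-x) ∈ Φ.U1 :=
    ⟨Φ.oX_mem_pos (τ.spR_pos o) _, Φ.oX_mem_fix hx.neg⟩
  refine ⟨n * v * n⁻¹ * (k * Φ.oX (τ.spR o) (-x) * k⁻¹), mul_mem hv' (Φ.H₀_conj_U1 hkH hX1),
    k, hkH, z, hz, ?_⟩
  rw [hX]
  calc n * (v * (h * n * Φ.oX (τ.spR o) (-x) * Φ.oX (τ.spR o).rev ((a⁻¹ : Kˣ) : K))) * m
      = n * v * n⁻¹ * k * Φ.oX (τ.spR o) (-x) *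
          (Φ.oX (τ.spR o).rev ((a⁻¹ : Kˣ) : K) * m) := by rw [hk]; group
    _ = _ := by rw [e]; group

/-- The set `U¹ N¹ U¹`. -/
def bigSet : Set (GL D.Idx K) :=
  {g | ∃ u ∈ Φ.U1, ∃ m ∈ Φ.M₀, ∃ v ∈ Φ.U1, u * m * v = g}

/-- The twisted group is `U¹ N¹ U¹`. -/
theorem exists_decomp [Finite K] {g : GL D.Idx K} (hg : g ∈ Φ.tG) :
    ∃ u ∈ Φ.U1, ∃ m ∈ Φ.M₀, ∃ v ∈ Φ.U1, u * m * v = g := by
  let S : Subgroup (GL D.Idx K) :=
    { carrier := {g | (∀ c ∈ Φ.bigSet, g * c ∈ Φ.bigSet) ∧ ∀ c ∈ Φ.bigSet, g⁻¹ * c ∈ Φ.bigSet}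
      one_mem' := ⟨fun c hc => by rwa [one_mul], fun c hc => by rwa [inv_one, one_mul]⟩
      mul_mem' := @fun a b ha hb => ⟨fun c hc => by rw [mul_assoc]; exact ha.1 _ (hb.1 c hc),
        fun c hc => by rw [mul_inv_rev, mul_assoc]; exact hb.2 _ (ha.2 c hc)⟩
      inv_mem' := @fun a ha => ⟨ha.2, by rw [inv_inv]; exact ha.1⟩ }
  have mk : ∀ {u m v : GL D.Idx K}, u ∈ Φ.U1 → m ∈ Φ.M₀ → v ∈ Φ.U1 → u * m * v ∈ Φ.bigSet :=
    fun hu hm hv => ⟨_, hu, _, hm, _, hv, rfl⟩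
  have hU : ∀ a ∈ Φ.U1, ∀ c ∈ Φ.bigSet, a * c ∈ Φ.bigSet := by
    rintro a ha _ ⟨u, hu, m, hm, v, hv, rfl⟩
    rw [← mul_assoc, ← mul_assoc]
    exact mk (mul_mem ha hu) hm hv
  have hH : ∀ a ∈ Φ.H₀, ∀ c ∈ Φ.bigSet, a * c ∈ Φ.bigSet := by
    rintro a ha _ ⟨u, hu, m, hm, v, hv, rfl⟩
    rw [show a * (u * m * v) = a * u * a⁻¹ * (a * m) * v by group]
    exact mk (Φ.H₀_conj_U1 ha hu) (mul_mem (Φ.H₀_le_M₀ ha) hm) hv
  have hN : ∀ o, ∀ c ∈ Φ.bigSet, Φ.nO o * c ∈ Φ.bigSet := by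
    rintro o _ ⟨u, hu, m, hm, v, hv, rfl⟩
    rw [← mul_assoc, ← mul_assoc]
    rcases Φ.nO_mul_U1_mul o hu hm with ⟨u', hu', v', hv', e⟩ | ⟨u', hu', k, hk, v', hv', e⟩
    · rw [e, mul_assoc _ v' v]
      exact mk hu' (mul_mem (Φ.nO_mem_M₀ o) hm) (mul_mem hv' hv)
    · rw [e, mul_assoc _ v' v]
      exact mk hu' (mul_mem (Φ.H₀_le_M₀ hk) hm) (mul_mem hv' hv)
  have hnS : ∀ o, Φ.nO o ∈ S := fun o => ⟨hN o, fun c hc => by
    obtain ⟨h, hh, e⟩ := Φ.exists_inv_nO o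
    rw [e, mul_assoc]
    exact hN o _ (hH h hh c hc)⟩
  have hUS : Φ.U1 ≤ S := fun a ha => ⟨hU a ha, hU _ (inv_mem ha)⟩
  have hS : Φ.tG ≤ S := by
    refine (Subgroup.closure_le _).2 ?_
    rintro _ ⟨o, b, x, hx, rfl⟩
    cases b
    · exact hUS ⟨Φ.oX_mem_pos (τ.spR_pos o) x, Φ.oX_mem_fix hx⟩
    · obtain ⟨c, hc⟩ := Φ.conj_oX (Φ.monBy_nO o) (Φ.nO_mem_fix o) (sdR τ true o)
      obtain ⟨hadm, e⟩ := hc x hx
      have hpos : half D ≤ (τ.wR o (sdR τ true o) : ℕ) := by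
        rw [show sdR τ true o = (τ.spR o).rev from rfl, (Φ.monBy_nO o).apply_rev,
          τ.wR_orb (τ.self_mem_orb _), Fin.rev_rev]
        exact τ.spR_pos o
      have h1 : Φ.oX (τ.wR o (sdR τ true o)) ((c : K) * x) ∈ S :=
        hUS ⟨Φ.oX_mem_pos hpos _, Φ.oX_mem_fix hadm⟩
      rw [← e] at h1
      have := mul_mem (mul_mem (inv_mem (hnS o)) h1) (hnS o)
      rwa [show ∀ n z : GL D.Idx K, n⁻¹ * (n * z * n⁻¹) * n = z from fun n z => by group] at this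
  have h1 := (hS hg).1 (1 * 1 * 1) (mk (one_mem _) (one_mem _) (one_mem _))
  simpa [bigSet] using h1

/-- The Borel subgroup of the twisted group. -/
def B1 : Subgroup (GL D.Idx K) := Φ.U1 ⊔ Φ.H₀

theorem mem_B1_iff {g : GL D.Idx K} :
    g ∈ Φ.B1 ↔ ∃ u ∈ Φ.U1, ∃ h ∈ Φ.H₀, u * h = g := by
  have hn : Φ.H₀ ≤ Subgroup.normalizer (Φ.U1 : Set (GL D.Idx K)) := by
    intro h hh
    refine Subgroup.mem_normalizer_iff.2 fun u => ⟨Φ.H₀_conj_U1 hh, fun h' => ?_⟩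
    have := Φ.H₀_conj_U1 (inv_mem hh) h'
    rwa [show h⁻¹ * (h * u * h⁻¹) * h⁻¹⁻¹ = u by group] at this
  rw [B1, ← SetLike.mem_coe, Subgroup.coe_mul_of_right_le_normalizer_left _ _ hn, Set.mem_mul]
  rfl

theorem B1_le_borel : Φ.B1 ≤ D.borelSubgroup K :=
  sup_le (inf_le_left.trans (pos_le_borel D)) (Φ.H₀_le_diag.trans (diag_le_borel D))

theorem B1_le_tG [Finite K] : Φ.B1 ≤ Φ.tG := sup_le Φ.U1_le_tG Φ.H₀_le_tG

variable [Finite K] (hθ : τ.Faithful)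
include hθ

theorem borel_inf_M₀ {g : GL D.Idx K} (hb : g ∈ D.borelSubgroup K) (hm : g ∈ Φ.M₀) :
    g ∈ Φ.H₀ := by
  have h1 : g ∈ D.diagonalSubgroup K :=
    borel_inf_monomial (F := K) τ.good τ.rootGood ▸ (⟨hb, Φ.M₀_le_monomial hm⟩ :
      g ∈ D.borelSubgroup K ⊓ D.monomialSubgroup K)
  exact Φ.mem_H₀_of_monBy_one hθ hm (monBy_diag τ.good h1)

theorem borel_inf_tG : D.borelSubgroup K ⊓ Φ.tG = Φ.B1 := by
  refine le_antisymm ?_ (le_inf Φ.B1_le_borel Φ.B1_le_tG)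
  intro g hg'
  obtain ⟨hb, hg⟩ := Subgroup.mem_inf.1 hg'
  obtain ⟨u, hu, m, hm, v, hv, rfl⟩ := Φ.exists_decomp hg
  have hmB : m ∈ D.borelSubgroup K := by
    have := mul_mem (mul_mem (inv_mem (pos_le_borel D hu.1)) hb) (inv_mem (pos_le_borel D hv.1))
    rwa [show u⁻¹ * (u * m * v) * v⁻¹ = m by group] at this
  exact mul_mem (mul_mem (Subgroup.mem_sup_left hu)
    (Subgroup.mem_sup_right (Φ.borel_inf_M₀ hθ hmB hm))) (Subgroup.mem_sup_left hv)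

omit hθ in
theorem pos_inf_tG : D.posUnipotent K ⊓ Φ.tG = Φ.U1 :=
  le_antisymm (le_inf inf_le_left (inf_le_right.trans Φ.tG_le_fix))
    (le_inf inf_le_left Φ.U1_le_tG)

theorem diag_inf_tG : D.diagonalSubgroup K ⊓ Φ.tG = Φ.H₀ := by
  refine le_antisymm ?_ (le_inf Φ.H₀_le_diag Φ.H₀_le_tG)
  intro g hg'
  obtain ⟨hd, hg⟩ := Subgroup.mem_inf.1 hg'
  have hB : g ∈ Φ.B1 := by
    rw [← Φ.borel_inf_tG hθ]
    exact Subgroup.mem_inf.2 ⟨diag_le_borel D hd, hg⟩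
  obtain ⟨u, hu, h, hh, rfl⟩ := Φ.mem_B1_iff.1 hB
  have h1 : u ∈ D.posUnipotent K ⊓ D.diagonalSubgroup K := ⟨hu.1, by
    have := mul_mem hd (inv_mem (Φ.H₀_le_diag hh))
    rwa [mul_inv_cancel_right] at this⟩
  rw [pos_inf_diag τ.good, Subgroup.mem_bot] at h1
  rw [h1, one_mul]
  exact hh

theorem monomial_inf_tG : D.monomialSubgroup K ⊓ Φ.tG = Φ.M₀ := by
  refine le_antisymm ?_ (le_inf Φ.M₀_le_monomial Φ.M₀_le_tG)
  intro g hg'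
  obtain ⟨hn, hg⟩ := Subgroup.mem_inf.1 hg'
  obtain ⟨u, hu, m, hm, v, hv, rfl⟩ := Φ.exists_decomp hg
  have h1 := mem_cell_self τ.good τ.rootGood (⟨u * m * v, hn⟩ : ↥(D.monomialSubgroup K))
  have h2 := mul_mem_cell τ.good τ.rootGood (pos_le_borel D hu.1)
    (mem_cell_self τ.good τ.rootGood (⟨m, Φ.M₀_le_monomial hm⟩ : ↥(D.monomialSubgroup K)))
    (pos_le_borel D hv.1)
  have e := cell_eq_of_mem τ.good τ.rootGood h1 h2
  have hk : (⟨m, Φ.M₀_le_monomial hm⟩ : ↥(D.monomialSubgroup K))⁻¹ * ⟨u * m * v, hn⟩ ∈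
      (weylHom τ.good τ.rootGood).ker := by
    rw [MonoidHom.mem_ker, map_mul, map_inv, e, inv_mul_cancel]
  rw [ker_weylHom] at hk
  have hk' : m⁻¹ * (u * m * v) ∈ Φ.H₀ := by
    rw [← Φ.diag_inf_tG hθ]
    exact Subgroup.mem_inf.2 ⟨hk, mul_mem (inv_mem (Φ.M₀_le_tG hm)) hg⟩
  have := mul_mem hm (Φ.H₀_le_M₀ hk')
  rwa [mul_inv_cancel_left] at this

end FieldTwist

end CfsgLib.GraphTwist
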