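import Cfsg.Agent.Twisted.TableAut
import Cfsg.Agent.Chevalley.Borel
import Mathlib.Data.List.Perm.Basic

/-!
# Finite data of a graph symmetry of a simply laced Chevalley datum, and their checks

A `Cfg` records a signed symmetry `S` of order `k`, the orbits of the fundamental nodes
(each listed along the symmetry), representatives of the positive orbits ordered by height, and a
word for the longest element. All conditions are Boolean checks evaluated by the kernel.
-/

set_option autoImplicit false

namespace CfsgLib.GraphTwist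

open Cfsg.Lie CfsgLib.Chevalley CfsgLib.Twisted

/-- The combinatorial data of a twist. -/
structure Cfg (D : ChevalleyDatum) where
  /-- the signed symmetry of the tables -/
  S : TableSym
  /-- the table of the fundamental reflections -/
  R : Weyl.RootTable
  /-- the order of the symmetry -/
  k : ℕ
  /-- the number of orbits of fundamental nodes -/
  m : ℕ
  /-- the orbits of fundamental nodes -/
  nodes : List (List ℕ)
  /-- representatives of the positive orbits, by height -/
  reps : List ℕ
  /-- the Coxeter matrix of the folded group -/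
  M : CoxeterMatrix (Fin m)
  /-- a word for the longest element -/
  w0 : List ℕ

namespace Cfg

variable {D : ChevalleyDatum} (T : Cfg D)

/-- The size of the orbit of a root. -/
def osize (r : ℕ) : ℕ := if T.S.σf r = r then 1 else T.k

/-- The orbit of a root, listed along the symmetry. -/
def orbN (r : ℕ) : List ℕ := (List.range (T.osize r)).map fun j => T.S.σf^[j] r

/-- The first node of an orbit of nodes. -/
def head (o : ℕ) : ℕ := (T.nodes.getD o []).getD 0 0

/-- The fundamental root of the first node. -/
def sp (o : ℕ) : ℕ := D.simple (T.head o)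

/-- The product of the reflections of an orbit of nodes, on root indices. -/
def wO (o r : ℕ) : ℕ := (T.nodes.getD o []).foldr (fun i x => Weyl.rstep T.R i x) r

/-- The action of a word in the orbits. -/
def wW (w : List ℕ) (r : ℕ) : ℕ := w.foldr (fun o x => T.wO o x) r

/-- The place of the orbit of a positive root. -/
def orbPos (r : ℕ) : ℕ := T.reps.findIdx fun a => (T.orbN a).contains r

/-- Checks on each root and its orbit. -/
def chkRoot (r : ℕ) : Bool :=
  decide (T.S.σf r < D.nroots) && decide (T.S.σf^[T.k] r = r) &&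
  decide (half D ≤ T.S.σf r ↔ half D ≤ r) &&
  decide (T.S.σf (opp D r) = opp D (T.S.σf r)) &&
  decide (T.S.σf r = r → T.S.sgn r = 1) &&
  decide (((List.range T.k).map fun j => T.S.sgn (T.S.σf^[j] r)).prod = 1) &&
  decide (T.orbN r).Nodup &&
  (T.orbN r).all fun a => (T.orbN r).all fun b => decide (a = b) ||
    (decide (b ≠ opp D a) && (D.commTerms a b).isEmpty)

/-- Checks on each node. -/
def chkNode (i : ℕ) : Bool :=
  decide (T.S.πf i < D.rank) && decide (T.S.σf (D.simple i) = D.simple (T.S.πf i)) &&
  decide (T.S.sgn (D.simple i) = 1) && decide (T.S.πf^[T.k] i = i) &&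
  (List.range T.m).any fun o => (T.nodes.getD o []).contains i

/-- Checks on each orbit of nodes. -/
def chkOrbit (o : ℕ) : Bool :=
  decide (T.head o < D.rank) &&
  decide (T.nodes.getD o [] =
    (List.range (T.osize (T.sp o))).map fun j => T.S.πf^[j] (T.head o)) &&
  (T.nodes.getD o []).all fun i => (T.nodes.getD o []).all fun j => decide (i = j) ||
    (decide (D.cartan i (D.simple j) = 0) &&
      [D.simple i, opp D (D.simple i)].all fun a => [D.simple j, opp D (D.simple j)].all fun b =>
        decide (b ≠ a) && decide (b ≠ opp D a) && (D.commTerms a b).isEmpty)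

/-- Checks on the action of an orbit of reflections. -/
def chkW (o r : ℕ) : Bool :=
  decide (T.wO o r < D.nroots) && decide (T.wO o (T.wO o r) = r) &&
  decide (r ∈ T.orbN (T.sp o) → T.wO o r = opp D r) &&
  decide (half D ≤ r → r ∉ T.orbN (T.sp o) →
    half D ≤ T.wO o r ∧ T.wO o r ∉ T.orbN (T.sp o)) &&
  decide (T.wO o r = opp D r → r ∈ T.orbN (T.sp o) ∨ opp D r ∈ T.orbN (T.sp o))

/-- The commutator formula raises the place of the orbit. -/
def chkStep (r s : ℕ) : Bool :=
  (D.commTerms r s).all fun c => decide (c.1 < D.nroots) && decide (half D ≤ c.1) &&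
    decide (T.orbPos r < T.orbPos c.1) && decide (T.orbPos s < T.orbPos c.1) &&
    (List.range T.m).all fun o => !(T.orbN (T.sp o)).contains c.1

/-- A representative is fundamental or is lowered by some orbit of reflections. -/
def chkDescend (i : ℕ) : Bool :=
  (List.range T.m).any (fun o => (T.orbN (T.sp o)).contains (T.reps.getD i 0)) ||
    (List.range T.m).any fun o => decide (half D ≤ T.wO o (T.reps.getD i 0)) &&
      decide (T.orbPos (T.wO o (T.reps.getD i 0)) < i)

/-- The braid relations. -/
def chkBraid : Bool :=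
  (List.finRange T.m).all fun i => (List.finRange T.m).all fun j =>
    (List.range D.nroots).all fun r =>
      decide ((fun x => T.wO i (T.wO j x))^[T.M i j] r = r)

/-- The word `w0` turns every positive root negative. -/
def chkLong : Bool :=
  T.w0.all (fun o => decide (o < T.m)) &&
  (List.range' (half D) (half D)).all fun r => decide (T.wW T.w0 r < half D)

/-- Consecutive orbits of nodes are joined. -/
def chkJoined : Bool :=
  (List.range (T.m - 1)).all fun o =>
    (List.range D.nroots).any fun r => decide (T.wO o (T.wO (o + 1) r) ≠ T.wO (o + 1) (T.wO o r))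

/-- All checks. -/
structure Valid : Prop where
  ok : T.S.Ok D
  two_le : 2 ≤ T.k
  delta : T.S.delta = 1
  len : T.nodes.length = T.m
  m_pos : 0 < T.m
  root : (List.range D.nroots).all T.chkRoot = true
  node : (List.range D.rank).all T.chkNode = true
  nodup : T.nodes.flatten.Nodup
  orbit : (List.range T.m).all T.chkOrbit = true
  posPerm : (T.reps.flatMap T.orbN).isPerm (List.range' (half D) (half D)) = true
  step : (List.range' (half D) (half D)).all (fun r =>
    (List.range' (half D) (half D)).all (T.chkStep r)) = true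
  descend : (List.range T.reps.length).all T.chkDescend = true
  refl : (List.range T.m).all (fun o => (List.range D.nroots).all (T.chkW o)) = true
  braid : T.chkBraid = true
  long : T.chkLong = true
  joined : T.chkJoined = true

namespace Valid

variable {T} (hT : T.Valid)
include hT

theorem root' {r : ℕ} (hr : r < D.nroots) :
    T.S.σf r < D.nroots ∧ T.S.σf^[T.k] r = r ∧ (half D ≤ T.S.σf r ↔ half D ≤ r) ∧
      T.S.σf (opp D r) = opp D (T.S.σf r) ∧ (T.S.σf r = r → T.S.sgn r = 1) ∧
      ((List.range T.k).map fun j => T.S.sgn (T.S.σf^[j] r)).prod = 1 ∧ (T.orbN r).Nodup ∧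
      ∀ a ∈ T.orbN r, ∀ b ∈ T.orbN r, a ≠ b → b ≠ opp D a ∧ D.commTerms a b = [] := by
  have := List.all_eq_true.1 hT.root r (List.mem_range.2 hr)
  simp only [chkRoot, Bool.and_eq_true, Bool.or_eq_true, decide_eq_true_eq, List.all_eq_true,
    List.isEmpty_iff, and_assoc] at this
  obtain ⟨h1, h2, h3, h4, h5, h6, h7, h8⟩ := this
  exact ⟨h1, h2, h3, h4, h5, h6, h7, fun a ha b hb hne => (h8 a ha b hb).resolve_left hne⟩

theorem node' {i : ℕ} (hi : i < D.rank) :
    T.S.πf i < D.rank ∧ T.S.σf (D.simple i) = D.simple (T.S.πf i) ∧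
      T.S.sgn (D.simple i) = 1 ∧ T.S.πf^[T.k] i = i ∧
      ∃ o < T.m, i ∈ T.nodes.getD o [] := by
  have := List.all_eq_true.1 hT.node i (List.mem_range.2 hi)
  simp only [chkNode, Bool.and_eq_true, decide_eq_true_eq, List.any_eq_true, List.mem_range,
    List.contains_iff_mem, and_assoc] at this
  exact this

theorem orbit' {o : ℕ} (ho : o < T.m) :
    T.head o < D.rank ∧
      T.nodes.getD o [] = ((List.range (T.osize (T.sp o))).map fun j => T.S.πf^[j] (T.head o)) ∧
      ∀ i ∈ T.nodes.getD o [], ∀ j ∈ T.nodes.getD o [], i ≠ j →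
        D.cartan i (D.simple j) = 0 ∧
        ∀ a ∈ [D.simple i, opp D (D.simple i)], ∀ b ∈ [D.simple j, opp D (D.simple j)],
          b ≠ a ∧ b ≠ opp D a ∧ D.commTerms a b = [] := by
  have := List.all_eq_true.1 hT.orbit o (List.mem_range.2 ho)
  simp only [chkOrbit, Bool.and_eq_true, Bool.or_eq_true, decide_eq_true_eq, List.all_eq_true,
    List.isEmpty_iff, and_assoc] at this
  exact ⟨this.1, this.2.1, fun i hi j hj hne => (this.2.2 i hi j hj).resolve_left hne⟩

theorem refl' {o r : ℕ} (ho : o < T.m) (hr : r < D.nroots) :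
    T.wO o r < D.nroots ∧ T.wO o (T.wO o r) = r ∧
      (r ∈ T.orbN (T.sp o) → T.wO o r = opp D r) ∧
      (half D ≤ r → r ∉ T.orbN (T.sp o) →
        half D ≤ T.wO o r ∧ T.wO o r ∉ T.orbN (T.sp o)) ∧
      (T.wO o r = opp D r → r ∈ T.orbN (T.sp o) ∨ opp D r ∈ T.orbN (T.sp o)) := by
  have := List.all_eq_true.1 (List.all_eq_true.1 hT.refl o (List.mem_range.2 ho)) r
    (List.mem_range.2 hr)
  simpa only [chkW, Bool.and_eq_true, decide_eq_true_eq, and_assoc] using this

theorem step' (hD : Good D) {r s : ℕ} (hr : r < D.nroots) (hr' : half D ≤ r)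
    (hs : s < D.nroots) (hs' : half D ≤ s) :
    ∀ c ∈ D.commTerms r s, c.1 < D.nroots ∧ half D ≤ c.1 ∧ T.orbPos r < T.orbPos c.1 ∧
      T.orbPos s < T.orbPos c.1 ∧ ∀ o < T.m, c.1 ∉ T.orbN (T.sp o) := by
  have h2 := hD.two_half
  have := List.all_eq_true.1 (List.all_eq_true.1 hT.step r
    (List.mem_range'_1.2 ⟨hr', by omega⟩)) s (List.mem_range'_1.2 ⟨hs', by omega⟩)
  intro c hc
  have := List.all_eq_true.1 this c hc
  simpa only [Bool.and_eq_true, decide_eq_true_eq, List.all_eq_true, List.mem_range,
    Bool.not_eq_true', List.contains_iff_mem, ← Bool.not_eq_true, and_assoc] using this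

theorem long' (hD : Good D) :
    (∀ o ∈ T.w0, o < T.m) ∧
      ∀ r < D.nroots, half D ≤ r → T.wW T.w0 r < half D := by
  have := hT.long
  simp only [chkLong, Bool.and_eq_true, List.all_eq_true, decide_eq_true_eq,
    List.mem_range'_1] at this
  have h2 := hD.two_half
  exact ⟨this.1, fun r hr hr' => this.2 r ⟨hr', by omega⟩⟩

end Valid

end Cfg

end CfsgLib.GraphTwist
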