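import Cfsg.Agent.GraphTwist.Perfect
import Cfsg.Agent.GraphTwist.Faithful
import Cfsg.Agent.GraphTwist.Field
import Cfsg.Agent.Twisted.GraphSym
import Cfsg.Agent.Chevalley.WeylData
import Cfsg.Agent.Weyl.RootD4
import Cfsg.Agent.Weyl.RootG2
import Cfsg.Prelude.Def_LieTwisted

/-!
# The triality twist of `D₄`
-/

set_option autoImplicit false

namespace CfsgLib.GraphTwist

open Cfsg.Lie CfsgLib.Chevalley

set_option maxHeartbeats 2000000

/-- The data of the twist. -/
def cfgD4 : Cfg chevD4 where
  S := Twisted.graphD4
  R := Weyl.reflTableD4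
  k := 3
  m := 2
  nodes := [[0, 2, 3], [1]]
  reps := [12, 14, 15, 17, 22, 23]
  M := CoxeterMatrix.G₂
  w0 := [0, 1, 0, 1, 0, 1]

theorem cfgD4_valid : cfgD4.Valid where
  ok := Twisted.graphD4_ok
  two_le := by decide +kernel
  delta := by decide +kernel
  len := by decide +kernel
  m_pos := by decide +kernel
  root := by decide +kernel
  node := by decide +kernel
  nodup := by decide +kernel
  orbit := by decide +kernel
  posPerm := by decide +kernel
  step := by decide +kernel
  descend := by decide +kernel
  refl := by decide +kernel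
  braid := by decide +kernel
  long := by decide +kernel
  joined := by decide +kernel

/-- The twist with its frames. -/
def setupD4 : Setup chevD4 where
  C := Weyl.certD4
  W := coxeterD4
  cfg := cfgD4
  good := goodWeyl_of_mem (by simp)
  rootGood := Weyl.rootD4_good
  valid := cfgD4_valid

theorem setupD4_faithful : setupD4.Faithful :=
  setupD4.faithful_of_proj Weyl.rootG2_good.rootPerm Weyl.rootG2_good.rootPerm_injective
    Weyl.reflTableG2 (fun o v => Weyl.rootG2_good.rootPerm_simple_step o v)
    (P := [0, 1, 2, 2, 3, 4, 2, 3, 3, 5, 4, 4, 7, 7, 6, 8, 8, 9, 7, 8, 9, 9, 10, 11])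
    (by decide +kernel)

theorem setupD4_cert : setupD4.cfg.chkCert [(1, 23)] = true := by decide +kernel

end CfsgLib.GraphTwist
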