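import Cfsg.Agent.GraphTwist.DataE6
import Cfsg.Agent.GraphTwist.Words

/-!
# `²E₆(q)` as the twisted group of the symmetry of order two
-/

set_option autoImplicit false

namespace CfsgLib.GraphTwist

open Cfsg.Lie CfsgLib.Chevalley
open scoped MatrixGroups

theorem cfgE6_orbits :
    cfgE6.sdN 0 false = e6p1 ∧ cfgE6.sdN 0 true = e6m1 ∧ cfgE6.sdN 1 false = e6p3 ∧
    cfgE6.sdN 1 true = e6m3 ∧ cfgE6.sdN 2 false = e6p4 ∧ cfgE6.sdN 2 true = e6m4 ∧
    cfgE6.sdN 3 false = e6p2 ∧ cfgE6.sdN 3 true = e6m2 ∧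
    cfgE6.osize e6p1 = 2 ∧ cfgE6.osize e6m1 = 2 ∧ cfgE6.osize e6p3 = 2 ∧ cfgE6.osize e6m3 = 2 ∧
    cfgE6.osize e6p4 = 1 ∧ cfgE6.osize e6m4 = 1 ∧ cfgE6.osize e6p2 = 1 ∧ cfgE6.osize e6m2 = 1 ∧
    cfgE6.S.σf e6p1 = e6p6 ∧ cfgE6.S.σf e6m1 = e6m6 ∧ cfgE6.S.σf e6p3 = e6p5 ∧
    cfgE6.S.σf e6m3 = e6m5 := by
  decide +kernel

variable {K : Type*} [Field K]

theorem wordE6_two {r s : ℕ} (h1 : cfgE6.osize r = 2) (h2 : cfgE6.S.σf r = s) (f : K → K) (t : K) :
    cfgE6.word f r t = [(r, t), (s, f t)] := by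
  simp [Cfg.word, h1, h2, List.range_succ]

theorem wordE6_one {r : ℕ} (h1 : cfgE6.osize r = 1) (f : K → K) (t : K) :
    cfgE6.word f r t = [(r, t)] := by
  simp [Cfg.word, h1, List.range_succ]

theorem twistedE6_eq_tG [Fintype K] {q : ℕ} (hq : IsPrimePow q) (hK : Fintype.card K = q ^ 2) :
    ∃ Φ : FieldTwist setupE6 K, twistedE6 K q = Φ.tG ∧ (∀ x, Φ.f x = x ^ q) ∧
      Nat.card {x : K // Φ.f x = x} = q ∧ Nat.card K = q ^ setupE6.cfg.k ∧ 4 ≤ Nat.card K := by
  obtain ⟨f, hf, hper, hfix⟩ := exists_frobenius hq (k := 2) (by norm_num) hK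
  refine ⟨⟨f, hper⟩, ?_, hf, hfix, (Nat.card_eq_fintype_card).trans hK, ?_⟩
  · symm
    apply FieldTwist.tG_eq_genSubgroup
    obtain ⟨a1, a2, a3, a4, a5, a6, a7, a8, h1, h2, h3, h4, h5, h6, h7, h8, s1, s2, s3, s4⟩ :=
      cfgE6_orbits
    intro w
    show _ ↔ ∃ o < 4, ∃ (b : Bool) (t : K), (cfgE6.osize (cfgE6.sdN o b) = 1 → f t = t) ∧
      cfgE6.word f (cfgE6.sdN o b) t = w
    constructor
    · rintro (⟨t, ht, r, hr, rfl⟩ | ⟨t, rs, hrs, rfl⟩)
      · simp only [List.mem_cons, List.not_mem_nil, or_false] at hr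
        rcases hr with rfl | rfl | rfl | rfl
        · exact ⟨3, by omega, false, t, fun _ => (hf t).trans ht,
            by rw [a7, wordE6_one h7]⟩
        · exact ⟨3, by omega, true, t, fun _ => (hf t).trans ht,
            by rw [a8, wordE6_one h8]⟩
        · exact ⟨2, by omega, false, t, fun _ => (hf t).trans ht,
            by rw [a5, wordE6_one h5]⟩
        · exact ⟨2, by omega, true, t, fun _ => (hf t).trans ht,
            by rw [a6, wordE6_one h6]⟩
      · simp only [List.mem_cons, List.not_mem_nil, or_false] at hrs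
        rcases hrs with rfl | rfl | rfl | rfl
        · refine ⟨0, by omega, false, t, fun h => ?_, ?_⟩
          · rw [a1, h1] at h; omega
          · rw [a1, wordE6_two h1 s1, hf]
        · refine ⟨0, by omega, true, t, fun h => ?_, ?_⟩
          · rw [a2, h2] at h; omega
          · rw [a2, wordE6_two h2 s2, hf]
        · refine ⟨1, by omega, false, t, fun h => ?_, ?_⟩
          · rw [a3, h3] at h; omega
          · rw [a3, wordE6_two h3 s3, hf]
        · refine ⟨1, by omega, true, t, fun h => ?_, ?_⟩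
          · rw [a4, h4] at h; omega
          · rw [a4, wordE6_two h4 s4, hf]
    · rintro ⟨o, ho, b, t, ht, rfl⟩
      interval_cases o <;> cases b
      · rw [a1, wordE6_two h1 s1, hf]
        exact Or.inr ⟨t, (e6p1, e6p6), by simp, rfl⟩
      · rw [a2, wordE6_two h2 s2, hf]
        exact Or.inr ⟨t, (e6m1, e6m6), by simp, rfl⟩
      · rw [a3, wordE6_two h3 s3, hf]
        exact Or.inr ⟨t, (e6p3, e6p5), by simp, rfl⟩
      · rw [a4, wordE6_two h4 s4, hf]
        exact Or.inr ⟨t, (e6m3, e6m5), by simp, rfl⟩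
      · rw [a5] at ht ⊢
        rw [wordE6_one h5]
        exact Or.inl ⟨t, (hf t).symm.trans (ht h5), e6p4, by simp, rfl⟩
      · rw [a6] at ht ⊢
        rw [wordE6_one h6]
        exact Or.inl ⟨t, (hf t).symm.trans (ht h6), e6m4, by simp, rfl⟩
      · rw [a7] at ht ⊢
        rw [wordE6_one h7]
        exact Or.inl ⟨t, (hf t).symm.trans (ht h7), e6p2, by simp, rfl⟩
      · rw [a8] at ht ⊢
        rw [wordE6_one h8]
        exact Or.inl ⟨t, (hf t).symm.trans (ht h8), e6m2, by simp, rfl⟩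
  · rw [Nat.card_eq_fintype_card, hK]
    calc 4 = 2 ^ 2 := by norm_num
      _ ≤ q ^ 2 := Nat.pow_le_pow_left hq.two_le 2

/-- A node of `E₆`. -/
abbrev nodeE6 (i : Fin 6) : Fin chevE6.rank := i

/-- The Cartan matrix, read through the fundamental roots. -/
def cartanE6 : Fin 6 → Fin 6 → ℤ :=
  ![![2, 0, -1, 0, 0, 0], ![0, 2, 0, -1, 0, 0], ![-1, 0, 2, -1, 0, 0], ![0, -1, -1, 2, -1, 0],
    ![0, 0, 0, -1, 2, -1], ![0, 0, 0, 0, -1, 2]]

theorem cartanE6_eq :
    (∀ i k, chevE6.cartan (nodeE6 k) (pRoot setupE6.good (nodeE6 i)) = cartanE6 i k) ∧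
    setupE6.πR (nodeE6 0) = nodeE6 5 ∧ setupE6.πR (nodeE6 1) = nodeE6 1 ∧
    setupE6.πR (nodeE6 2) = nodeE6 4 ∧ setupE6.πR (nodeE6 3) = nodeE6 3 ∧
    setupE6.πR (nodeE6 4) = nodeE6 2 ∧ setupE6.πR (nodeE6 5) = nodeE6 0 := by
  decide +kernel

theorem chiE6 (c : Fin chevE6.rank → Kˣ) (i : Fin 6) :
    ChevSimple.chi c (pRoot setupE6.good (nodeE6 i)) =
      c (nodeE6 0) ^ cartanE6 i 0 * c (nodeE6 1) ^ cartanE6 i 1 * c (nodeE6 2) ^ cartanE6 i 2 *
        c (nodeE6 3) ^ cartanE6 i 3 * c (nodeE6 4) ^ cartanE6 i 4 * c (nodeE6 5) ^ cartanE6 i 5 := by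
  simp only [← cartanE6_eq.1]
  exact Fin.prod_univ_six (fun k : Fin 6 =>
    c (nodeE6 k) ^ chevE6.cartan (nodeE6 k) (pRoot setupE6.good (nodeE6 i)))

/-- The kernel vector of parameter `a`. -/
def kerVec (a : Kˣ) : Fin chevE6.rank → Kˣ := (![a, 1, a ^ 2, 1, a, a ^ 2] : Fin 6 → Kˣ)

theorem kerVec_spec {q : ℕ} (Φ : FieldTwist setupE6 K) (hf : ∀ x, Φ.f x = x ^ q) {a : Kˣ}
    (h3 : a ^ 3 = 1) (hq : a ^ (q + 1) = 1) :
    kerVec a ∈ Φ.fixC ∧ ∀ i, ChevSimple.chi (kerVec a) (pRoot setupE6.good i) = 1 := by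
  obtain ⟨-, p0, p1, p2, p3, p4, p5⟩ := cartanE6_eq
  have hfU : ∀ b : Kˣ, Φ.fU b = b ^ q := fun b =>
    Units.ext (by rw [Φ.coe_fU, hf, Units.val_pow_eq_pow_val])
  have haq : a ^ q = a ^ 2 := by
    apply mul_right_cancel (b := a)
    rw [← pow_succ, hq, ← pow_succ, h3]
  have h4 : a ^ 4 = a := by rw [pow_succ, h3, one_mul]
  have haq2 : (a ^ 2) ^ q = a := by rw [← pow_mul, mul_comm, pow_mul, haq, ← pow_mul, h4]
  refine ⟨Φ.mem_fixC.2 fun i => ?_, fun i => ?_⟩
  · obtain ⟨i, rfl⟩ : ∃ j, nodeE6 j = i := ⟨i, rfl⟩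
    fin_cases i
    · exact (congrArg (kerVec a) p0).trans (haq.symm.trans (hfU a).symm)
    · exact (congrArg (kerVec a) p1).trans ((one_pow q).symm.trans (hfU 1).symm)
    · exact (congrArg (kerVec a) p2).trans (haq2.symm.trans (hfU (a ^ 2)).symm)
    · exact (congrArg (kerVec a) p3).trans ((one_pow q).symm.trans (hfU 1).symm)
    · exact (congrArg (kerVec a) p4).trans (haq.symm.trans (hfU a).symm)
    · exact (congrArg (kerVec a) p5).trans (haq2.symm.trans (hfU (a ^ 2)).symm)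
  · obtain ⟨i, rfl⟩ : ∃ j, nodeE6 j = i := ⟨i, rfl⟩
    rw [chiE6]
    have v : kerVec a (nodeE6 0) = a ∧ kerVec a (nodeE6 1) = 1 ∧ kerVec a (nodeE6 2) = a ^ 2 ∧
        kerVec a (nodeE6 3) = 1 ∧ kerVec a (nodeE6 4) = a ∧ kerVec a (nodeE6 5) = a ^ 2 :=
      ⟨rfl, rfl, rfl, rfl, rfl, rfl⟩
    obtain ⟨v0, v1, v2, v3, v4, v5⟩ := v
    rw [v0, v1, v2, v3, v4, v5]
    have hu : (a : K) ^ 3 = 1 := by rw [← Units.val_pow_eq_pow_val, h3, Units.val_one]
    have hn := a.ne_zero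
    fin_cases i <;>
      · apply Units.ext
        simp [cartanE6, zpow_neg]
        try field_simp
        try linear_combination hu
        try linear_combination -hu

theorem kerE6_card [Fintype K] {q : ℕ} (Φ : FieldTwist setupE6 K) (hf : ∀ x, Φ.f x = x ^ q)
    (hK : Fintype.card K = q ^ 2) :
    Nat.card {c : Fin chevE6.rank → Kˣ //
      c ∈ Φ.fixC ∧ ∀ i, ChevSimple.chi c (pRoot setupE6.good i) = 1} = Nat.gcd 3 (q + 1) := by
  have hfU : ∀ b : Kˣ, Φ.fU b = b ^ q := fun b =>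
    Units.ext (by rw [Φ.coe_fU, hf, Units.val_pow_eq_pow_val])
  let e : (powMonoidHom (Nat.gcd 3 (q + 1)) : Kˣ →* Kˣ).ker ≃ {c : Fin chevE6.rank → Kˣ //
      c ∈ Φ.fixC ∧ ∀ i, ChevSimple.chi c (pRoot setupE6.good i) = 1} :=
    Equiv.ofBijective
      (fun a => ⟨kerVec a.1,
        kerVec_spec Φ hf (pow_gcd_eq_one.1 a.2).1 (pow_gcd_eq_one.1 a.2).2⟩)
      ⟨fun a b h => Subtype.ext (congrFun (congrArg Subtype.val h) (nodeE6 0)), by
        rintro ⟨c, hc, hchi⟩
        obtain ⟨-, p0, p1, p2, p3, p4, p5⟩ := cartanE6_eq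
        have e : ∀ i : Fin 6, _ = _ := fun i =>
          congrArg Units.val ((chiE6 c i).symm.trans (hchi (nodeE6 i)))
        have e0 := e 0
        have e1 := e 1
        have e2 := e 2
        have e3 := e 3
        have e4 := e 4
        have e5 := e 5
        simp only [cartanE6, Matrix.cons_val, Units.val_mul, Units.val_one, zpow_zero, one_mul,
          mul_one, Units.val_zpow_eq_zpow_val, zpow_neg, zpow_one, zpow_ofNat, pow_zero, pow_one,
          Units.val_pow_eq_pow_val, Units.val_inv_eq_inv_val] at e0 e1 e2 e3 e4 e5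
        have g0 := congrArg Units.val (Φ.mem_fixC.1 hc (nodeE6 0))
        rw [p0, hfU, Units.val_pow_eq_pow_val] at g0
        have n0 := (c (nodeE6 0)).ne_zero
        have n1 := (c (nodeE6 1)).ne_zero
        have n2 := (c (nodeE6 2)).ne_zero
        have n3 := (c (nodeE6 3)).ne_zero
        have n4 := (c (nodeE6 4)).ne_zero
        have n5 := (c (nodeE6 5)).ne_zero
        generalize hA : ((c (nodeE6 0) : Kˣ) : K) = a at e0 e1 e2 e3 e4 e5 g0 n0 n1 n2 n3 n4 n5
        generalize hB : ((c (nodeE6 1) : Kˣ) : K) = b at e0 e1 e2 e3 e4 e5 g0 n0 n1 n2 n3 n4 n5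
        generalize hC : ((c (nodeE6 2) : Kˣ) : K) = u at e0 e1 e2 e3 e4 e5 g0 n0 n1 n2 n3 n4 n5
        generalize hD : ((c (nodeE6 3) : Kˣ) : K) = v at e0 e1 e2 e3 e4 e5 g0 n0 n1 n2 n3 n4 n5
        generalize hE : ((c (nodeE6 4) : Kˣ) : K) = x at e0 e1 e2 e3 e4 e5 g0 n0 n1 n2 n3 n4 n5
        generalize hF : ((c (nodeE6 5) : Kˣ) : K) = y at e0 e1 e2 e3 e4 e5 g0 n0 n1 n2 n3 n4 n5
        field_simp at e0 e1 e2 e3 e4 e5
        have hu : u = a ^ 2 := by linear_combination -e0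
        have hv : v = a ^ 3 := by
          apply mul_left_cancel₀ n0
          rw [hu] at e2
          linear_combination -e2
        have hx : x = y ^ 2 := by linear_combination -e5
        have hy3 : y ^ 3 = v := by
          apply mul_left_cancel₀ n5
          rw [hx] at e4
          linear_combination e4
        have hb : b * y ^ 2 = a ^ 4 := by
          apply mul_left_cancel₀ (pow_ne_zero 2 n0)
          rw [hu, hv, hx] at e3
          linear_combination -e3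
        have hb2 : b ^ 2 = a ^ 3 := by linear_combination e1 + hv
        have hy4 : y ^ 4 = a ^ 5 := by
          apply mul_left_cancel₀ (pow_ne_zero 3 n0)
          calc a ^ 3 * y ^ 4 = (b * y ^ 2) ^ 2 := by rw [mul_pow, hb2]; ring
            _ = a ^ 3 * a ^ 5 := by rw [hb]; ring
        have hy : y = a ^ 2 := by
          apply mul_left_cancel₀ (pow_ne_zero 3 n0)
          calc a ^ 3 * y = y ^ 4 := by rw [← hv, ← hy3]; ring
            _ = a ^ 3 * a ^ 2 := by rw [hy4]; ring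
        have ha3 : a ^ 3 = 1 := by
          apply mul_left_cancel₀ (pow_ne_zero 3 n0)
          calc a ^ 3 * a ^ 3 = y ^ 3 := by rw [hy]; ring
            _ = a ^ 3 * 1 := by rw [hy3, hv, mul_one]
        have ha4 : a ^ 4 = a := by rw [pow_succ, ha3, one_mul]
        have hb1 : b = 1 := by
          apply mul_right_cancel₀ (pow_ne_zero 4 n0)
          rw [one_mul]
          calc b * a ^ 4 = b * y ^ 2 := by rw [hy]; ring
            _ = a ^ 4 := hb
        have hxa : x = a := by rw [hx, hy, ← pow_mul, ha4]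
        have hq1 : a ^ (q + 1) = 1 := by rw [pow_succ, ← g0, hy, ← pow_succ, ha3]
        have hk : (Units.mk0 a n0) ^ Nat.gcd 3 (q + 1) = 1 :=
          pow_gcd_eq_one.2 ⟨Units.ext (by simpa using ha3), Units.ext (by simpa using hq1)⟩
        refine ⟨⟨Units.mk0 a n0, hk⟩, Subtype.ext (funext fun i => Units.ext ?_)⟩
        obtain ⟨i, rfl⟩ : ∃ j, nodeE6 j = i := ⟨i, rfl⟩
        fin_cases i
        · exact hA.symm
        · exact (hB.trans hb1).symm
        · exact ((hC.trans hu).trans (Units.val_pow_eq_pow_val (Units.mk0 a n0) 2).symm).symm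
        · exact (hD.trans (hv.trans ha3)).symm
        · exact (hE.trans hxa).symm
        · exact ((hF.trans hy).trans (Units.val_pow_eq_pow_val (Units.mk0 a n0) 2).symm).symm⟩
  rw [← Nat.card_congr e, IsCyclic.card_powMonoidHom_ker, Nat.card_units,
    Nat.card_eq_fintype_card, hK]
  refine Nat.gcd_eq_right (dvd_trans (Nat.gcd_dvd_right 3 (q + 1)) ?_)
  exact ⟨q - 1, by simpa using Nat.sq_sub_sq q 1⟩

/-- The order of the fixed torus of `²E₆`. -/
theorem natCard_H₀_E6 [Fintype K] {q : ℕ} (Φ : FieldTwist setupE6 K) (hf : ∀ x, Φ.f x = x ^ q)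
    (hfix : Nat.card {x : K // Φ.f x = x} = q) (hK : Fintype.card K = q ^ 2) :
    Nat.gcd 3 (q + 1) * Nat.card Φ.H₀ = (q - 1) ^ 4 * (q + 1) ^ 2 := by
  have h := Φ.natCard_H₀ hfix ((Nat.card_eq_fintype_card).trans hK)
  rw [kerE6_card Φ hf hK, mul_comm] at h
  rw [h]
  have ho : ∀ o : Fin 4, setupE6.osize (setupE6.spR o) = (![2, 2, 1, 1] : Fin 4 → ℕ) o := by
    decide +kernel
  refine (Fin.prod_univ_four fun o : Fin 4 => q ^ setupE6.osize (setupE6.spR o) - 1).trans ?_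
  rw [ho, ho, ho, ho]
  show (q ^ 2 - 1) * (q ^ 2 - 1) * (q ^ 1 - 1) * (q ^ 1 - 1) = _
  rw [pow_one, show q ^ 2 - 1 = (q + 1) * (q - 1) by simpa using Nat.sq_sub_sq q 1]
  ring

end CfsgLib.GraphTwist
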