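import Cfsg.Agent.GraphTwist.Unip

/-!
# The twisted group and its monomial subgroup

The twisted group is generated by the orbit root elements of the fundamental orbits and their
negatives. It contains the fixed points in `U`, the fixed torus and the orbit reflections; the
latter two generate a group that maps onto the folded Coxeter group with kernel the fixed torus.
-/

set_option autoImplicit false

namespace CfsgLib.GraphTwist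

open Cfsg.Lie CfsgLib.Chevalley CfsgLib.Twisted
open scoped MatrixGroups

namespace FieldTwist

variable {D : ChevalleyDatum} {τ : Setup D} {K : Type*} [Field K] (Φ : FieldTwist τ K)

/-- The fundamental root (`b = false`) or its negative. -/
def sdR (τ : Setup D) (b : Bool) (o : Fin τ.cfg.m) : Root D :=
  bif b then (τ.spR o).rev else τ.spR o

/-- The twisted group. -/
def tG : Subgroup (GL D.Idx K) :=
  Subgroup.closure
    {g | ∃ (o : Fin τ.cfg.m) (b : Bool) (x : K), Φ.Adm (sdR τ b o) x ∧ Φ.oX (sdR τ b o) x = g}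

theorem iterate_inv (j : ℕ) (x : K) : Φ.f^[j] x⁻¹ = (Φ.f^[j] x)⁻¹ :=
  ((Function.Semiconj.iterate_right (f := fun x : K => x⁻¹) (fun x => (map_inv₀ Φ.f x).symm) j) x).symm

theorem oX_mem_tG (o : Fin τ.cfg.m) {x : K} (h : Φ.Adm (τ.spR o) x) :
    Φ.oX (τ.spR o) x ∈ Φ.tG :=
  Subgroup.subset_closure ⟨o, false, x, h, rfl⟩

theorem oY_mem_tG (o : Fin τ.cfg.m) {x : K} (h : Φ.Adm (τ.spR o) x) :
    Φ.oX (τ.spR o).rev x ∈ Φ.tG :=
  Subgroup.subset_closure ⟨o, true, x, Φ.adm_rev.2 h, rfl⟩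

theorem tG_le_fix : Φ.tG ≤ Φ.fix :=
  (Subgroup.closure_le _).2 fun _ ⟨_, _, _, h, e⟩ => e ▸ Φ.oX_mem_fix h

theorem oX_mem_group (r : Root D) (t : K) : Φ.oX r t ∈ D.group K := by
  refine Subgroup.list_prod_mem _ fun x hx => ?_
  obtain ⟨j, -, rfl⟩ := List.mem_map.1 hx
  obtain ⟨a, -, u, e⟩ := Φ.pow_X_orb r t j
  rw [e]
  exact X_mem_group _ a u

theorem tG_le_group : Φ.tG ≤ D.group K :=
  (Subgroup.closure_le _).2 fun _ ⟨_, _, _, _, e⟩ => e ▸ Φ.oX_mem_group _ _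

theorem oH_one (r : Root D) : Φ.oH r 1 = 1 := by
  simp [oH, hT_one]

theorem nO_eq_prod (o : Fin τ.cfg.m) :
    Φ.oX (τ.spR o) 1 * Φ.oX (τ.spR o).rev (-1) * Φ.oX (τ.spR o) 1 = Φ.nO o := by
  simpa [oH_one] using Φ.oX_oY_oX o 1

theorem nO_mem_tG (o : Fin τ.cfg.m) : Φ.nO o ∈ Φ.tG := by
  rw [← nO_eq_prod]
  exact mul_mem (mul_mem (Φ.oX_mem_tG o (Φ.adm_one _)) (Φ.oY_mem_tG o (Φ.adm_one _).neg))
    (Φ.oX_mem_tG o (Φ.adm_one _))

theorem oH_mem_tG (o : Fin τ.cfg.m) {a : Kˣ} (h : Φ.AdmU (τ.spR o) a) :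
    Φ.oH (τ.spR o) a ∈ Φ.tG := by
  have e := Φ.oX_oY_oX o a
  rw [eq_mul_inv_of_mul_eq e.symm]
  exact mul_mem (mul_mem (mul_mem (Φ.oX_mem_tG o (Φ.admU_iff.1 h))
    (Φ.oY_mem_tG o (Φ.admU_iff.1 (Φ.admU_inv h)).neg)) (Φ.oX_mem_tG o (Φ.admU_iff.1 h)))
    (inv_mem (Φ.nO_mem_tG o))

theorem H₀_le_tG : Φ.H₀ ≤ Φ.tG := Φ.H₀_le fun o _ h => Φ.oH_mem_tG o h

/-- The fixed points in `U`. -/
abbrev U1 : Subgroup (GL D.Idx K) := D.posUnipotent K ⊓ Φ.fix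

variable [Finite K]

theorem U1_le_tG : Φ.U1 ≤ Φ.tG := by
  refine Φ.u1_induction fun i => ?_
  induction hn : (i : ℕ) using Nat.strong_induction_on generalizing i with
  | _ n ih =>
    intro x hx
    have hdesc := List.all_eq_true.1 τ.valid.descend i (List.mem_range.2 i.2)
    simp only [Cfg.chkDescend, Bool.or_eq_true, List.any_eq_true, List.mem_range,
      Bool.and_eq_true, decide_eq_true_eq, List.contains_iff_mem] at hdesc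
    rcases hdesc with ⟨o, ho, hmem⟩ | ⟨o, ho, hpos, hlt⟩
    · have hr : τ.rep i ∈ τ.orb (τ.spR ⟨o, ho⟩) := τ.mem_orbN_iff.1 hmem
      obtain ⟨y, hy, e⟩ := Φ.eq_oX (τ.spR_pos ⟨o, ho⟩)
        (rootGen_mono _ (fun a ha => (τ.orb_perm hr).mem_iff.1 ha) (Φ.oX_mem_rootGen (τ.rep i) x))
        (Φ.oX_mem_fix hx)
      rw [← e]
      exact Φ.oX_mem_tG _ hy
    · have hval : (τ.wR ⟨o, ho⟩ (τ.rep i) : ℕ) = τ.cfg.wO o (τ.cfg.reps.getD i 0) :=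
        τ.wR_val ⟨o, ho⟩ (τ.rep i)
      rw [← hval] at hpos hlt
      obtain ⟨hj, hm⟩ := τ.exists_orbPos hpos
      obtain ⟨c, hc⟩ := Φ.conj_oX (Φ.monBy_nO ⟨o, ho⟩) (Φ.nO_mem_fix _) (τ.rep i)
      obtain ⟨hadm, e⟩ := hc x hx
      obtain ⟨y, hy, e'⟩ := Φ.eq_oX (τ.rep_pos ⟨_, hj⟩)
        (rootGen_mono _ (fun a ha => (τ.orb_perm hm).mem_iff.1 ha)
          (Φ.oX_mem_rootGen (τ.wR ⟨o, ho⟩ (τ.rep i)) ((c : K) * x)))
        (Φ.oX_mem_fix hadm)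
      have := ih _ (hn ▸ hlt) ⟨_, hj⟩ rfl y hy
      rw [e', ← e] at this
      have h2 := mul_mem (mul_mem (inv_mem (Φ.nO_mem_tG ⟨o, ho⟩)) this) (Φ.nO_mem_tG ⟨o, ho⟩)
      rwa [show ∀ n z : GL D.Idx K, n⁻¹ * (n * z * n⁻¹) * n = z from fun n z => by group] at h2

/-! ### The monomial subgroup -/

/-- The monomial subgroup of the twisted group. -/
def M₀ : Subgroup (GL D.Idx K) := Φ.H₀ ⊔ Subgroup.closure (Set.range Φ.nO)

omit [Finite K] in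
theorem H₀_le_M₀ : Φ.H₀ ≤ Φ.M₀ := le_sup_left

omit [Finite K] in
theorem nO_mem_M₀ (o : Fin τ.cfg.m) : Φ.nO o ∈ Φ.M₀ :=
  Subgroup.mem_sup_right (Subgroup.subset_closure ⟨o, rfl⟩)

omit [Finite K] in
theorem M₀_le {L : Subgroup (GL D.Idx K)} (h : Φ.H₀ ≤ L) (hn : ∀ o, Φ.nO o ∈ L) : Φ.M₀ ≤ L :=
  sup_le h ((Subgroup.closure_le _).2 fun _ ⟨o, e⟩ => e ▸ hn o)

omit [Finite K] in
theorem M₀_le_fix : Φ.M₀ ≤ Φ.fix := Φ.M₀_le Φ.H₀_le_fix Φ.nO_mem_fix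

omit [Finite K] in
theorem M₀_le_tG : Φ.M₀ ≤ Φ.tG := Φ.M₀_le Φ.H₀_le_tG Φ.nO_mem_tG

omit [Finite K] in
theorem M₀_le_monomial : Φ.M₀ ≤ D.monomialSubgroup K :=
  Φ.M₀_le (Φ.H₀_le_diag.trans (diag_le_monomial D)) Φ.nO_mem_monomial

omit [Finite K] in
theorem M₀_induction {P : GL D.Idx K → Prop} {g : GL D.Idx K} (hg : g ∈ Φ.M₀)
    (hd : ∀ h ∈ Φ.H₀, P h) (hn : ∀ o, P (Φ.nO o)) (hmul : ∀ a b, P a → P b → P (a * b))
    (hinv : ∀ a, P a → P a⁻¹) : P g :=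
  Φ.M₀_le (L := { carrier := {x | P x}
                  one_mem' := hd 1 (one_mem _)
                  mul_mem' := @fun a b => hmul a b
                  inv_mem' := @fun a => hinv a }) hd hn hg

omit [Finite K] in
theorem exists_θ {g : GL D.Idx K} (hg : g ∈ Φ.M₀) :
    ∃ w : τ.cfg.M.Group, MonBy τ.good g (τ.θ w) :=
  Φ.M₀_induction (P := fun g => ∃ w : τ.cfg.M.Group, MonBy τ.good g (τ.θ w)) hg
    (fun _ hh => ⟨1, (map_one τ.θ).symm ▸ monBy_diag τ.good (Φ.H₀_le_diag hh)⟩)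
    (fun o => ⟨τ.cfg.M.simple o, τ.θ_simple o ▸ Φ.monBy_nO o⟩)
    (fun _ _ ⟨v, ha⟩ ⟨w, hb⟩ => ⟨v * w, (map_mul τ.θ v w).symm ▸ ha.mul hb⟩)
    (fun _ ⟨v, ha⟩ => ⟨v⁻¹, (map_inv τ.θ v).symm ▸ ha.inv⟩)

omit [Finite K] in
theorem M₀_le_normalizer_H₀ :
    Φ.M₀ ≤ Subgroup.normalizer (Φ.H₀ : Set (GL D.Idx K)) := by
  intro g hg
  obtain ⟨w, hw⟩ := Φ.exists_θ hg
  refine Subgroup.mem_normalizer_iff.2 fun h => ⟨fun hh => Φ.conj_H₀ hw (Φ.M₀_le_fix hg) hh,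
    fun hh => ?_⟩
  have := Φ.conj_H₀ hw.inv (inv_mem (Φ.M₀_le_fix hg)) hh
  rwa [show g⁻¹ * (g * h * g⁻¹) * g⁻¹⁻¹ = h by group] at this

omit [Finite K] in
theorem oX_shift (j : ℕ) {r : Root D} {t : K} (h : Φ.Adm r t) :
    Φ.oX ((τ.σR ^ j) r) (Φ.tw j r t) = Φ.oX r t := by
  have hsz : τ.osize ((τ.σR ^ j) r) = τ.osize r := by
    rw [τ.osize_eq, τ.osize_eq]
    have : τ.σR ((τ.σR ^ j) r) = (τ.σR ^ j) r ↔ τ.σR r = r := by
      rw [← Equiv.Perm.mul_apply, ← pow_succ', pow_succ, Equiv.Perm.mul_apply]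
      exact (τ.σR ^ j).injective.eq_iff
    simp only [this]
  conv_rhs => rw [← Φ.pow_apply_fix (Φ.oX_mem_fix h) j]
  rw [oX, oX, hsz, map_list_prod, List.map_map]
  refine congrArg List.prod (List.map_congr_left fun i _ => ?_)
  rw [Function.comp_apply, ← Ψ_pow_X, ← MulAut.mul_apply, ← MulAut.mul_apply, ← pow_add,
    ← pow_add, add_comm]

omit [Finite K] in
theorem tw_side (j : ℕ) (i : Fin D.rank) (t : K) :
    Φ.tw j (pRoot τ.good i) t = Φ.f^[j] t ∧ Φ.tw j (pRoot τ.good i).rev t = Φ.f^[j] t := by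
  induction j with
  | zero => exact ⟨rfl, rfl⟩
  | succ j ih =>
    refine ⟨?_, ?_⟩
    · rw [tw, ih.1, τ.σR_pow_pRoot, τ.sgn_pRoot, Int.cast_one, one_mul,
        Function.iterate_succ_apply']
    · rw [tw, ih.2, τ.σR_pow_rev, sgn_rev, τ.σR_pow_pRoot, τ.sgn_pRoot,
        Int.cast_one, one_mul, Function.iterate_succ_apply']

omit [Finite K] in
theorem conj_nO_mem {g : GL D.Idx K} {π : Equiv.Perm (Root D)} (hg : MonBy τ.good g π)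
    (hf : g ∈ Φ.fix) {o o' : Fin τ.cfg.m} (h : π (τ.spR o) ∈ τ.orb (τ.spR o')) :
    g * Φ.nO o * g⁻¹ * (Φ.nO o')⁻¹ ∈ Φ.H₀ := by
  obtain ⟨c, hc, hc'⟩ := hg (τ.spR o)
  have hsz := Φ.osize_monBy hg hf
  -- the scalar is admissible
  have hcadm : ∀ (r : Root D) (d : Kˣ), (∀ t : K, g * X τ.good.good r t * g⁻¹ =
      X τ.good.good (π r) ((d : K) * t)) → ∀ t, Φ.Adm r t → Φ.Adm (π r) ((d : K) * t) ∧
        g * Φ.oX r t * g⁻¹ = Φ.oX (π r) ((d : K) * t) := by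
    intro r d hd t ht
    obtain ⟨e, he⟩ := Φ.conj_oX hg hf r
    obtain ⟨h1, h2⟩ := he t ht
    have hde : ∀ u : K, g * X τ.good.good r u * g⁻¹ = X τ.good.good (π r) ((d : K) * u) := hd
    refine ⟨fun hfix => ?_, ?_⟩
    · have h0 := (hsz r).1 hfix
      have h3 := congrArg Φ.Ψ (hde t)
      rw [map_mul, map_mul, map_inv, Φ.mem_fix.1 hf, Φ.Ψ_X_fixed h0 (ht h0), hde, Φ.Ψ_X,
        (τ.valid.root' (π r).2).2.2.2.2.1 (by rw [← τ.σR_val, hfix]), hfix, Int.cast_one,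
        one_mul] at h3
      exact (X_injective τ.good.good _ h3).symm
    · rw [oX, oX, show τ.osize (π r) = τ.osize r by
        rw [τ.osize_eq, τ.osize_eq]; simp only [hsz r], ← hde, ← MulAut.conj_apply, map_list_prod,
        List.map_map]
      refine congrArg List.prod (List.map_congr_left fun j _ => ?_)
      rw [Function.comp_apply, MulAut.conj_apply, map_mul, map_mul, map_inv,
        Φ.pow_apply_fix hf]
  obtain ⟨hA, e1⟩ := hcadm _ c hc 1 (Φ.adm_one _)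
  obtain ⟨-, e2⟩ := hcadm (τ.spR o).rev c⁻¹
    (fun t => by rw [hg.apply_rev]; exact hc' t) (-1) ((Φ.adm_one _).neg)
  rw [hg.apply_rev, mul_neg, mul_one] at e2
  rw [mul_one] at hA e1
  obtain ⟨j, hj⟩ := τ.mem_orb_iff.1 h
  set n := j * (τ.cfg.k - 1) with hn
  have hper : Φ.f^[j] (Φ.f^[n] (c : K)) = (c : K) := by
    rw [← Function.iterate_add_apply,
      show j + n = τ.cfg.k * j by
        obtain ⟨k', hk'⟩ : ∃ k', τ.cfg.k = k' + 1 := ⟨τ.cfg.k - 1, by have := τ.k_pos; omega⟩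
        rw [hn, hk', Nat.add_sub_cancel]; ring,
      Function.iterate_mul]
    exact Function.iterate_fixed (Φ.periodic _) j
  let c₀ : Kˣ := Φ.fU^[n] c
  have hc₀ : (c₀ : K) = Φ.f^[n] (c : K) :=
    Function.Semiconj.iterate_right (f := (Units.val : Kˣ → K)) (fun x => rfl) _ c
  have hadm₀ : Φ.AdmU (τ.spR o') c₀ := by
    refine Φ.admU_iff.2 fun hfix => ?_
    have hfix' : τ.σR (π (τ.spR o)) = π (τ.spR o) := by
      rw [← hj, τ.σR_pow_fixed hfix j]; exact hfix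
    rw [hc₀, Function.iterate_fixed (hA hfix'), hA hfix']
  have x1 : Φ.oX (π (τ.spR o)) (c : K) = Φ.oX (τ.spR o') (c₀ : K) := by
    rw [← Φ.oX_shift j (Φ.admU_iff.1 hadm₀), hj, (Φ.tw_side j _ _).1, hc₀, hper]
  have x2 : Φ.oX (π (τ.spR o)).rev (-((c⁻¹ : Kˣ) : K)) =
      Φ.oX (τ.spR o').rev (-((c₀⁻¹ : Kˣ) : K)) := by
    rw [← Φ.oX_shift j (r := (τ.spR o').rev) (Φ.adm_rev.2 (Φ.admU_iff.1 (Φ.admU_inv hadm₀)).neg),
      τ.σR_pow_rev, hj, (Φ.tw_side j _ _).2]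
    congr 1
    rw [iterate_map_neg, Units.val_inv_eq_inv_val, Units.val_inv_eq_inv_val, iterate_inv Φ j, hc₀,
      hper]
  rw [← Φ.nO_eq_prod o, show ∀ x y z : GL D.Idx K,
    g * (x * y * z) * g⁻¹ = (g * x * g⁻¹) * (g * y * g⁻¹) * (g * z * g⁻¹) from
    fun x y z => by group, e1, e2, x1, x2, Φ.oX_oY_oX, mul_inv_cancel_right]
  exact Φ.oH_mem hadm₀

omit [Finite K] in
/-- Modulo the fixed torus, conjugation follows the permutations. -/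
theorem nO_conj_mod {g : GL D.Idx K} {π : Equiv.Perm (Root D)} (hg : MonBy τ.good g π)
    (hf : g ∈ Φ.fix) {o o' : Fin τ.cfg.m} (h : π * τ.wR o * π⁻¹ = τ.wR o') :
    g * Φ.nO o * g⁻¹ * (Φ.nO o')⁻¹ ∈ Φ.H₀ := by
  have hneg : τ.wR o' (π (τ.spR o)) = (π (τ.spR o)).rev := by
    rw [← h]
    simp [τ.wR_orb (τ.self_mem_orb _), hg.apply_rev]
  rcases τ.wR_neg hneg with e | e
  · exact Φ.conj_nO_mem hg hf e
  · have hg' := (Φ.monBy_nO o').inv.mul hg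
    have := Φ.conj_nO_mem (o' := o') hg' (mul_mem (inv_mem (Φ.nO_mem_fix o')) hf)
      (o := o) (by rw [Equiv.Perm.mul_apply, τ.wR_inv, hneg]; exact e)
    have h2 := (Subgroup.mem_normalizer_iff.1 (Φ.M₀_le_normalizer_H₀ (Φ.nO_mem_M₀ o')) _).1 this
    rwa [show ∀ n m g : GL D.Idx K, n * (n⁻¹ * g * m * (n⁻¹ * g)⁻¹ * n⁻¹) * n⁻¹ =
      g * m * g⁻¹ * n⁻¹ from fun n m g => by group] at h2

omit [Finite K] in
/-- The relations of the folded group hold modulo the fixed torus. -/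
theorem exists_hom_mod_H₀ [hn : (Φ.H₀.subgroupOf Φ.M₀).Normal] :
    ∃ ψ : τ.cfg.M.Group →* ↥Φ.M₀ ⧸ Φ.H₀.subgroupOf Φ.M₀,
      ∀ o, ψ (τ.cfg.M.simple o) = QuotientGroup.mk ⟨Φ.nO o, Φ.nO_mem_M₀ o⟩ := by
  let f : Fin τ.cfg.m → ↥Φ.M₀ ⧸ Φ.H₀.subgroupOf Φ.M₀ :=
    fun o => QuotientGroup.mk ⟨Φ.nO o, Φ.nO_mem_M₀ o⟩
  have hsq : ∀ i, f i * f i = 1 := fun i =>
    mk_mul_self_eq (p := (⟨Φ.nO i, Φ.nO_mem_M₀ i⟩ : ↥Φ.M₀)) (Φ.nO_sq_mem i)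
  have hconj : ∀ (x : ↥Φ.M₀) (π : Equiv.Perm (Root D)), MonBy τ.good (x : GL D.Idx K) π → ∀ i l,
      π * τ.wR i * π⁻¹ = τ.wR l →
        (QuotientGroup.mk x : ↥Φ.M₀ ⧸ _) * f i * (QuotientGroup.mk x)⁻¹ = f l := by
    intro x π hx i l hp
    exact conj_mk_eq (p := (⟨Φ.nO i, Φ.nO_mem_M₀ i⟩ : ↥Φ.M₀))
      (q := (⟨Φ.nO l, Φ.nO_mem_M₀ l⟩ : ↥Φ.M₀)) (Φ.nO_conj_mod hx (Φ.M₀_le_fix x.2) hp)
  have hlift : τ.cfg.M.IsLiftable f := by
    intro i j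
    have hrel : (τ.wR i * τ.wR j) ^ τ.cfg.M i j = 1 := τ.liftable_wR i j
    let ni : ↥Φ.M₀ := ⟨Φ.nO i, Φ.nO_mem_M₀ i⟩
    let nj : ↥Φ.M₀ := ⟨Φ.nO j, Φ.nO_mem_M₀ j⟩
    have hP : ∀ c : ℕ, MonBy τ.good (((ni * nj) ^ c : ↥Φ.M₀) : GL D.Idx K)
        ((τ.wR i * τ.wR j) ^ c) := by
      intro c
      induction c with
      | zero => simpa using MonBy.one τ.good
      | succ c ih =>
        simp only [pow_succ, Subgroup.coe_mul]
        exact ih.mul ((Φ.monBy_nO i).mul (Φ.monBy_nO j))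
    rcases Nat.even_or_odd' (τ.cfg.M i j) with ⟨c, hc | hc⟩
    · rcases c with _ | c
      · simp [hc]
      rw [hc, show 2 * (c + 1) = 2 * c + 2 by ring] at hrel ⊢
      rw [pow_even_eq (τ.wR_wR i) (τ.wR_wR j)] at hrel
      rw [pow_even_eq (hsq i) (hsq j)]
      have := hconj ((ni * nj) ^ c * ni) _ ((hP c).mul (Φ.monBy_nO i)) j j
        ((mul_eq_one_iff_eq_inv.1 hrel).trans (τ.wR_inv j))
      simp only [QuotientGroup.mk_mul, QuotientGroup.mk_pow] at this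
      rw [this, hsq]
    · rw [hc] at hrel ⊢
      rw [pow_odd_eq (τ.wR_wR i) (τ.wR_wR j)] at hrel
      rw [pow_odd_eq (hsq i) (hsq j)]
      have := hconj ((ni * nj) ^ c) _ (hP c) i j
        ((mul_eq_one_iff_eq_inv.1 hrel).trans (τ.wR_inv j))
      simp only [QuotientGroup.mk_mul, QuotientGroup.mk_pow] at this
      rw [this, hsq]
  refine ⟨τ.cfg.M.toCoxeterSystem.lift ⟨f, hlift⟩, fun i => ?_⟩
  rw [← CoxeterMatrix.toCoxeterSystem_simple]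
  exact τ.cfg.M.toCoxeterSystem.lift_apply_simple hlift i

variable (hθ : τ.Faithful)

/-- The folded Weyl element of a monomial element. -/
noncomputable def weyl : ↥Φ.M₀ →* τ.cfg.M.Group where
  toFun g := (Φ.exists_θ g.2).choose
  map_one' := hθ (by
    rw [map_one]
    exact (Φ.exists_θ (1 : ↥Φ.M₀).2).choose_spec.unique (MonBy.one τ.good))
  map_mul' a b := hθ (by
    rw [map_mul]
    exact (Φ.exists_θ (a * b).2).choose_spec.unique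
      ((Φ.exists_θ a.2).choose_spec.mul (Φ.exists_θ b.2).choose_spec))

omit [Finite K] in
theorem monBy_weyl (g : ↥Φ.M₀) : MonBy τ.good (g : GL D.Idx K) (τ.θ (Φ.weyl hθ g)) :=
  (Φ.exists_θ g.2).choose_spec

omit [Finite K] in
theorem weyl_eq {g : ↥Φ.M₀} {w : τ.cfg.M.Group} (h : MonBy τ.good (g : GL D.Idx K) (τ.θ w)) :
    Φ.weyl hθ g = w :=
  hθ ((Φ.monBy_weyl hθ g).unique h)

omit [Finite K] in
theorem weyl_nO (o : Fin τ.cfg.m) :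
    Φ.weyl hθ ⟨Φ.nO o, Φ.nO_mem_M₀ o⟩ = τ.cfg.M.simple o :=
  Φ.weyl_eq hθ (τ.θ_simple o ▸ Φ.monBy_nO o)

omit [Finite K] in
theorem weyl_surjective : Function.Surjective (Φ.weyl hθ) := by
  intro w
  induction w using τ.cfg.M.toCoxeterSystem.simple_induction_left with
  | one => exact ⟨1, map_one _⟩
  | mul_simple_left w i ih =>
    obtain ⟨g, rfl⟩ := ih
    exact ⟨⟨Φ.nO i, Φ.nO_mem_M₀ i⟩ * g, by rw [map_mul, weyl_nO]; rfl⟩

omit [Finite K] in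
theorem ker_weyl : (Φ.weyl hθ).ker = Φ.H₀.subgroupOf Φ.M₀ := by
  haveI : (Φ.H₀.subgroupOf Φ.M₀).Normal :=
    (Subgroup.normal_subgroupOf_iff_le_normalizer Φ.H₀_le_M₀).2 Φ.M₀_le_normalizer_H₀
  have hH : ∀ g : ↥Φ.M₀, (g : GL D.Idx K) ∈ Φ.H₀ → Φ.weyl hθ g = 1 := fun g hg =>
    Φ.weyl_eq hθ ((map_one τ.θ).symm ▸ monBy_diag τ.good (Φ.H₀_le_diag hg))
  obtain ⟨ψ, hψ⟩ := Φ.exists_hom_mod_H₀
  refine le_antisymm (fun g hg => ?_) fun g hg => hH g hg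
  have key : ∀ (x : GL D.Idx K) (hx : x ∈ Φ.M₀),
      ψ (Φ.weyl hθ ⟨x, hx⟩) = QuotientGroup.mk ⟨x, hx⟩ := by
    intro x hx
    suffices H : ∃ hx' : x ∈ Φ.M₀, ψ (Φ.weyl hθ ⟨x, hx'⟩) = QuotientGroup.mk ⟨x, hx'⟩ from H.2
    refine Φ.M₀_induction (P := fun x => ∃ hx' : x ∈ Φ.M₀,
      ψ (Φ.weyl hθ ⟨x, hx'⟩) = QuotientGroup.mk ⟨x, hx'⟩) hx ?_ ?_ ?_ ?_
    · intro h hh
      refine ⟨Φ.H₀_le_M₀ hh, ?_⟩
      rw [hH _ hh, map_one]
      exact ((QuotientGroup.eq_one_iff _).2 (show (⟨h, _⟩ : ↥Φ.M₀) ∈ Φ.H₀.subgroupOf Φ.M₀ from hh)).symm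
    · intro o
      exact ⟨Φ.nO_mem_M₀ o, by rw [weyl_nO, hψ]⟩
    · rintro a b ⟨ha, ea⟩ ⟨hb, eb⟩
      refine ⟨mul_mem ha hb, ?_⟩
      rw [show (⟨a * b, mul_mem ha hb⟩ : ↥Φ.M₀) = ⟨a, ha⟩ * ⟨b, hb⟩ from rfl, map_mul, map_mul,
        ea, eb, QuotientGroup.mk_mul]
    · rintro a ⟨ha, ea⟩
      refine ⟨inv_mem ha, ?_⟩
      rw [show (⟨a⁻¹, inv_mem ha⟩ : ↥Φ.M₀) = (⟨a, ha⟩ : ↥Φ.M₀)⁻¹ from rfl, map_inv, map_inv,
        ea, QuotientGroup.mk_inv]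
  have := key g g.2
  rw [show Φ.weyl hθ ⟨(g : GL D.Idx K), g.2⟩ = 1 from hg, map_one] at this
  exact (QuotientGroup.eq_one_iff _).1 this.symm

include hθ in
omit [Finite K] in
theorem mem_H₀_of_monBy_one {g : GL D.Idx K} (hg : g ∈ Φ.M₀) (h : MonBy τ.good g 1) :
    g ∈ Φ.H₀ := by
  have : (⟨g, hg⟩ : ↥Φ.M₀) ∈ (Φ.weyl hθ).ker := Φ.weyl_eq hθ ((map_one τ.θ).symm ▸ h)
  rw [ker_weyl] at this
  exact this

end FieldTwist

end CfsgLib.GraphTwist
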