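import Cfsg.Agent.GraphTwist.Roots
import Mathlib.GroupTheory.NoncommPiCoprod

/-!
# The twisting automorphism and the orbit root elements
-/

set_option autoImplicit false

namespace CfsgLib.GraphTwist

open Cfsg.Lie CfsgLib.Chevalley CfsgLib.Twisted
open scoped MatrixGroups

/-- The product of the products, when the factors of different indices commute. -/
theorem prod_map_mul_of_commute {ι G : Type*} [Group G] (f g : ι → G) (L : List ι) (hL : L.Nodup)
    (h : ∀ i ∈ L, ∀ j ∈ L, i ≠ j → Commute (g i) (f j)) :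
    (L.map fun i => f i * g i).prod = (L.map f).prod * (L.map g).prod := by
  induction L with
  | nil => simp
  | cons a L ih =>
    rw [List.nodup_cons] at hL
    have hc : Commute (g a) (L.map f).prod :=
      Commute.list_prod_right _ _ fun x hx => by
        obtain ⟨j, hj, rfl⟩ := List.mem_map.1 hx
        exact h a List.mem_cons_self j (List.mem_cons_of_mem _ hj) fun e => hL.1 (e ▸ hj)
    simp only [List.map_cons, List.prod_cons,
      ih hL.2 fun i hi j hj => h i (List.mem_cons_of_mem _ hi) j (List.mem_cons_of_mem _ hj)]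
    rw [mul_assoc (f a) (g a), ← mul_assoc (g a), hc.eq, mul_assoc _ (g a), ← mul_assoc (f a)]

/-- A field automorphism whose `k`-th power is trivial. -/
structure FieldTwist {D : ChevalleyDatum} (τ : Setup D) (K : Type*) [Field K] where
  /-- the automorphism -/
  f : K ≃+* K
  periodic : ∀ x : K, f^[τ.cfg.k] x = x

namespace FieldTwist

variable {D : ChevalleyDatum} {τ : Setup D} {K : Type*} [Field K] (Φ : FieldTwist τ K)

/-- `f` on the non-zero elements. -/
def fU (a : Kˣ) : Kˣ := Units.map Φ.f.toRingHom.toMonoidHom a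

theorem coe_fU (a : Kˣ) : ((Φ.fU a : Kˣ) : K) = Φ.f a := rfl

theorem fU_mul (a b : Kˣ) : Φ.fU (a * b) = Φ.fU a * Φ.fU b := map_mul _ a b

/-- The twisting automorphism: field map, then signed graph symmetry. -/
def Ψ : MulAut (GL D.Idx K) :=
  Units.mapEquiv (Φ.f.mapMatrix.toMulEquiv.trans (τ.valid.ok.conj K))

theorem Ψ_X (r : Root D) (t : K) :
    Φ.Ψ (X τ.good.good r t) = X τ.good.good (τ.σR r) ((τ.cfg.S.sgn r : K) * Φ.f t) := by
  apply Units.ext
  show τ.valid.ok.conj K ((xR D K r t).map Φ.f.toRingHom) = _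
  rw [← x_eq_xR τ.good.good, x_map, τ.valid.ok.conj_x K r.2, coe_X]
  exact x_eq_xR τ.good.good K (τ.σR r) _

/-- The parameter after `j` steps. -/
def tw : ℕ → Root D → K → K
  | 0, _, t => t
  | j + 1, r, t => (τ.cfg.S.sgn ((τ.σR ^ j) r) : K) * Φ.f (tw j r t)

theorem Ψ_pow_X (j : ℕ) (r : Root D) (t : K) :
    (Φ.Ψ ^ j) (X τ.good.good r t) = X τ.good.good ((τ.σR ^ j) r) (Φ.tw j r t) := by
  induction j with
  | zero => rfl
  | succ j ih => rw [pow_succ', MulAut.mul_apply, ih, Ψ_X, pow_succ', Equiv.Perm.mul_apply, tw]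

theorem tw_add (j : ℕ) (r : Root D) (s t : K) :
    Φ.tw j r (s + t) = Φ.tw j r s + Φ.tw j r t := by
  induction j with
  | zero => rfl
  | succ j ih => simp only [tw, ih, map_add, mul_add]

theorem tw_eq (j : ℕ) (r : Root D) (t : K) :
    Φ.tw j r t =
      ((((List.range j).map fun i => τ.cfg.S.sgn (τ.cfg.S.σf^[i] r)).prod : ℤ) : K) * Φ.f^[j] t := by
  induction j with
  | zero => simp [tw]
  | succ j ih =>
    rw [tw, ih, map_mul, map_intCast, List.range_succ, List.map_append, List.prod_append,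
      Function.iterate_succ_apply']
    simp only [List.map_cons, List.map_nil, List.prod_cons, List.prod_nil, mul_one, Int.cast_mul,
      τ.σR_pow_val]
    ring

theorem tw_k (r : Root D) (t : K) : Φ.tw τ.cfg.k r t = t := by
  rw [tw_eq, (τ.valid.root' r.2).2.2.2.2.2.1, Int.cast_one, one_mul, Φ.periodic]

theorem Ψ_pow_k_X (r : Root D) (t : K) :
    (Φ.Ψ ^ τ.cfg.k) (X τ.good.good r t) = X τ.good.good r t := by
  rw [Ψ_pow_X, τ.σR_k, tw_k]

/-- The fixed points of the twist. -/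
def fix : Subgroup (GL D.Idx K) := Φ.Ψ.toMonoidHom.eqLocus (MonoidHom.id _)

theorem mem_fix {g : GL D.Idx K} : g ∈ Φ.fix ↔ Φ.Ψ g = g := Iff.rfl

theorem pow_apply_fix {g : GL D.Idx K} (hg : g ∈ Φ.fix) (j : ℕ) : (Φ.Ψ ^ j) g = g := by
  induction j with
  | zero => rfl
  | succ j ih => rw [pow_succ', MulAut.mul_apply, ih, Φ.mem_fix.1 hg]

/-- An admissible parameter. -/
def Adm (r : Root D) (t : K) : Prop := τ.σR r = r → Φ.f t = t

theorem adm_zero (r : Root D) : Φ.Adm r 0 := fun _ => map_zero _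

theorem adm_one (r : Root D) : Φ.Adm r 1 := fun _ => map_one _

theorem Adm.add {r : Root D} {s t : K} (hs : Φ.Adm r s) (ht : Φ.Adm r t) : Φ.Adm r (s + t) :=
  fun h => by rw [map_add, hs h, ht h]

theorem Adm.neg {r : Root D} {t : K} (ht : Φ.Adm r t) : Φ.Adm r (-t) :=
  fun h => by rw [map_neg, ht h]

theorem Ψ_X_fixed {r : Root D} (h : τ.σR r = r) {t : K} (ht : Φ.f t = t) :
    Φ.Ψ (X τ.good.good r t) = X τ.good.good r t := by
  rw [Ψ_X, ht, (τ.valid.root' r.2).2.2.2.2.1 (by rw [← τ.σR_val, h]), h, Int.cast_one, one_mul]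

theorem commute_X_orb {r a b : Root D} (ha : a ∈ τ.orb r) (hb : b ∈ τ.orb r) (s u : K) :
    Commute (X τ.good.good a s) (X τ.good.good b u) := by
  rcases eq_or_ne a b with rfl | hne
  · rw [Commute, SemiconjBy, X_mul, X_mul, add_comm]
  obtain ⟨h1, h2⟩ := τ.orb_pair ha hb hne
  have := X_comm τ.good.toGoodComm a b hne.symm h1 s u
  rw [commRhs, h2] at this
  simpa [wordGL, Commute, SemiconjBy] using this.symm

theorem pow_X_orb (r : Root D) (t : K) (j : ℕ) : ∃ a ∈ τ.orb r, ∃ u,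
    (Φ.Ψ ^ j) (X τ.good.good r t) = X τ.good.good a u :=
  ⟨_, τ.mem_orb_iff.2 ⟨j, rfl⟩, _, Φ.Ψ_pow_X j r t⟩

/-- The root element of an orbit. -/
def oX (r : Root D) (t : K) : GL D.Idx K :=
  ((List.range (τ.osize r)).map fun j => (Φ.Ψ ^ j) (X τ.good.good r t)).prod

theorem oX_mul (r : Root D) (s t : K) : Φ.oX r s * Φ.oX r t = Φ.oX r (s + t) := by
  rw [oX, oX, oX, ← prod_map_mul_of_commute _ _ _ List.nodup_range]
  · congr 1
    exact List.map_congr_left fun j _ => by rw [← map_mul, X_mul]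
  · intro i _ j _ _
    obtain ⟨a, ha, u, e⟩ := Φ.pow_X_orb r t i
    obtain ⟨b, hb, v, e'⟩ := Φ.pow_X_orb r s j
    rw [e, e']
    exact commute_X_orb ha hb _ _

theorem oX_zero (r : Root D) : Φ.oX r 0 = 1 := by
  simp [oX, X_zero]

theorem oX_inv (r : Root D) (t : K) : (Φ.oX r t)⁻¹ = Φ.oX r (-t) :=
  inv_eq_of_mul_eq_one_right (by rw [oX_mul, add_neg_cancel, oX_zero])

theorem prod_Ψ_pow_fixed {g : GL D.Idx K} {n : ℕ} (hn : (Φ.Ψ ^ n) g = g)
    (hc : ∀ j < n, Commute g ((Φ.Ψ ^ j) g)) :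
    Φ.Ψ (((List.range n).map fun j => (Φ.Ψ ^ j) g).prod) =
      ((List.range n).map fun j => (Φ.Ψ ^ j) g).prod := by
  rcases n with _ | n
  · simp
  rw [map_list_prod, List.map_map]
  have e : ((List.range (n + 1)).map (Φ.Ψ ∘ fun j => (Φ.Ψ ^ j) g)) =
      (List.range (n + 1)).map fun j => (Φ.Ψ ^ (j + 1)) g :=
    List.map_congr_left fun j _ => by rw [Function.comp_apply, pow_succ', MulAut.mul_apply]
  rw [e]
  conv_lhs => rw [List.range_succ, List.map_append, List.prod_append, List.map_singleton,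
    List.prod_singleton, hn]
  conv_rhs => rw [List.range_succ_eq_map, List.map_cons, List.prod_cons, List.map_map]
  have e2 : ((List.range n).map ((fun j => (Φ.Ψ ^ j) g) ∘ Nat.succ)) =
      (List.range n).map fun j => (Φ.Ψ ^ (j + 1)) g := rfl
  rw [e2, show (Φ.Ψ ^ 0) g = g from rfl]
  refine (Commute.list_prod_right _ _ fun x hx => ?_).eq.symm
  obtain ⟨j, hj, rfl⟩ := List.mem_map.1 hx
  exact hc (j + 1) (by rw [List.mem_range] at hj; omega)

theorem oX_mem_fix {r : Root D} {t : K} (h : Φ.Adm r t) : Φ.oX r t ∈ Φ.fix := by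
  refine Φ.mem_fix.2 (Φ.prod_Ψ_pow_fixed ?_ fun j _ => ?_)
  · rw [τ.osize_eq]
    split
    · next hf => rw [pow_one]; exact Φ.Ψ_X_fixed hf (h hf)
    · exact Φ.Ψ_pow_k_X r t
  · obtain ⟨b, hb, u, e⟩ := Φ.pow_X_orb r t j
    rw [e]
    exact commute_X_orb (τ.self_mem_orb r) hb _ _

theorem oX_mem_rootGen (r : Root D) (t : K) :
    Φ.oX r t ∈ rootGen τ.good.good K {a | a ∈ τ.orb r} := by
  refine Subgroup.list_prod_mem _ fun x hx => ?_
  obtain ⟨j, -, rfl⟩ := List.mem_map.1 hx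
  obtain ⟨a, ha, u, e⟩ := Φ.pow_X_orb r t j
  rw [e]
  exact X_mem_rootGen _ ha u

theorem oX_mem_pos {r : Root D} (hr : half D ≤ (r : ℕ)) (t : K) :
    Φ.oX r t ∈ D.posUnipotent K := by
  rw [posUnipotent_eq_rootGen τ.good.good]
  refine rootGen_mono _ ?_ (Φ.oX_mem_rootGen r t)
  intro a ha
  obtain ⟨j, rfl⟩ := τ.mem_orb_iff.1 ha
  exact (τ.σR_pow_pos j r).2 hr

theorem oX_mem_neg {r : Root D} (hr : (r : ℕ) < half D) (t : K) :
    Φ.oX r t ∈ D.negUnipotent K := by
  rw [negUnipotent_eq_rootGen τ.good.good]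
  refine rootGen_mono _ ?_ (Φ.oX_mem_rootGen r t)
  intro a ha
  obtain ⟨j, rfl⟩ := τ.mem_orb_iff.1 ha
  show ((τ.σR ^ j) r : ℕ) < half D
  have := τ.σR_pow_pos j r
  omega

/-- The permutation of a fixed monomial element commutes with the symmetry. -/
theorem monBy_comm {g : GL D.Idx K} {π : Equiv.Perm (Root D)} (hg : MonBy τ.good g π)
    (hf : g ∈ Φ.fix) (r : Root D) : π (τ.σR r) = τ.σR (π r) := by
  obtain ⟨c, hc⟩ := hg.conj_X r
  obtain ⟨d, hd⟩ := hg.conj_X (τ.σR r)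
  by_contra hne
  have h1 := congrArg Φ.Ψ (hc 1)
  rw [map_mul, map_mul, map_inv, Φ.mem_fix.1 hf, Φ.Ψ_X, Φ.Ψ_X, hd] at h1
  have hs : ((τ.cfg.S.sgn r : ℤ) : K) ≠ 0 := fun e0 => by
    have := congrArg (Int.cast : ℤ → K) (τ.valid.ok.root r.2).2.2.2.2.1
    rw [Int.cast_mul, e0, mul_zero, Int.cast_one] at this
    exact zero_ne_one this
  exact X_ne τ.good.toGoodUni hne
    (mul_ne_zero d.ne_zero (mul_ne_zero hs (by simp [map_one]))) _ h1

theorem osize_monBy {g : GL D.Idx K} {π : Equiv.Perm (Root D)} (hg : MonBy τ.good g π)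
    (hf : g ∈ Φ.fix) (r : Root D) : τ.σR (π r) = π r ↔ τ.σR r = r := by
  rw [← Φ.monBy_comm hg hf r]
  exact π.injective.eq_iff

/-- A fixed element conjugates orbit elements to orbit elements. -/
theorem conj_oX {g : GL D.Idx K} {π : Equiv.Perm (Root D)} (hg : MonBy τ.good g π)
    (hf : g ∈ Φ.fix) (r : Root D) : ∃ c : Kˣ, ∀ t : K, Φ.Adm r t →
      Φ.Adm (π r) ((c : K) * t) ∧ g * Φ.oX r t * g⁻¹ = Φ.oX (π r) ((c : K) * t) := by
  obtain ⟨c, hc⟩ := hg.conj_X r
  refine ⟨c, fun t ht => ⟨fun h => ?_, ?_⟩⟩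
  · have h0 := (Φ.osize_monBy hg hf r).1 h
    have h1 := congrArg Φ.Ψ (hc t)
    rw [map_mul, map_mul, map_inv, Φ.mem_fix.1 hf, Φ.Ψ_X_fixed h0 (ht h0), hc, Φ.Ψ_X,
      (τ.valid.root' (π r).2).2.2.2.2.1 (by rw [← τ.σR_val, h]), h, Int.cast_one, one_mul] at h1
    exact (X_injective τ.good.good _ h1).symm
  · have hsz : τ.osize (π r) = τ.osize r := by
      rw [τ.osize_eq, τ.osize_eq]
      simp only [Φ.osize_monBy hg hf r]
    rw [oX, oX, hsz, ← hc, ← MulAut.conj_apply, map_list_prod, List.map_map]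
    refine congrArg List.prod (List.map_congr_left fun j _ => ?_)
    rw [Function.comp_apply, MulAut.conj_apply, map_mul, map_mul, map_inv, Φ.pow_apply_fix hf]

end FieldTwist

end CfsgLib.GraphTwist
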