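import Cfsg.Agent.GraphTwist.Cfg
import Cfsg.Agent.Chevalley.BNPair

/-!
# The symmetry and the folded reflections as permutations of the roots
-/

set_option autoImplicit false

namespace CfsgLib.GraphTwist

open Cfsg.Lie CfsgLib.Chevalley CfsgLib.Twisted

/-- A Chevalley datum with a checked twist. -/
structure Setup (D : ChevalleyDatum) where
  /-- the certificate of the Weyl group -/
  C : Weyl.Cert D.rank
  /-- the Coxeter matrix of the Weyl group -/
  W : CoxeterMatrix (Fin D.rank)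
  /-- the data -/
  cfg : Cfg D
  good : GoodWeyl D
  rootGood : Weyl.RootGood C W cfg.R
  valid : cfg.Valid

namespace Setup

variable {D : ChevalleyDatum} (τ : Setup D)

theorem opp_lt {r : ℕ} (hr : r < D.nroots) : opp D r < D.nroots := by
  simp only [opp]; omega

theorem rev_val (r : Root D) : ((r.rev : Root D) : ℕ) = opp D r := by
  rw [Fin.val_rev, opp]
  omega

/-- The symmetry on the roots. -/
def σR : Equiv.Perm (Root D) where
  toFun r := ⟨τ.cfg.S.σf r, (τ.valid.ok.root r.2).1⟩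
  invFun r := ⟨τ.cfg.S.σinv.getD r 0, (τ.valid.ok.root r.2).2.2.1⟩
  left_inv r := Fin.ext (τ.valid.ok.root r.2).2.1
  right_inv r := Fin.ext (τ.valid.ok.root r.2).2.2.2.1

theorem σR_val (r : Root D) : (τ.σR r : ℕ) = τ.cfg.S.σf r := rfl

theorem σR_pow_val (j : ℕ) (r : Root D) : (((τ.σR ^ j) r : Root D) : ℕ) = τ.cfg.S.σf^[j] r := by
  induction j with
  | zero => rfl
  | succ j ih => rw [pow_succ', Equiv.Perm.mul_apply, σR_val, ih, Function.iterate_succ_apply']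

theorem σR_k (r : Root D) : (τ.σR ^ τ.cfg.k) r = r :=
  Fin.ext ((τ.σR_pow_val _ r).trans (τ.valid.root' r.2).2.1)

theorem σR_rev (r : Root D) : τ.σR r.rev = (τ.σR r).rev :=
  Fin.ext (by rw [σR_val, rev_val, rev_val, (τ.valid.root' r.2).2.2.2.1, σR_val])

theorem σR_pow_rev (j : ℕ) (r : Root D) : (τ.σR ^ j) r.rev = ((τ.σR ^ j) r).rev := by
  induction j with
  | zero => rfl
  | succ j ih => rw [pow_succ', Equiv.Perm.mul_apply, ih, σR_rev, Equiv.Perm.mul_apply]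

theorem σR_pos (r : Root D) : half D ≤ (τ.σR r : ℕ) ↔ half D ≤ (r : ℕ) :=
  (τ.valid.root' r.2).2.2.1

theorem σR_pow_pos (j : ℕ) (r : Root D) : half D ≤ ((τ.σR ^ j) r : ℕ) ↔ half D ≤ (r : ℕ) := by
  induction j with
  | zero => exact Iff.rfl
  | succ j ih => rw [pow_succ', Equiv.Perm.mul_apply, σR_pos, ih]

theorem k_pos : 0 < τ.cfg.k := lt_of_lt_of_le Nat.zero_lt_two τ.valid.two_le

theorem σR_pow_mod (j : ℕ) (r : Root D) : (τ.σR ^ (j % τ.cfg.k)) r = (τ.σR ^ j) r := by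
  conv_rhs => rw [← Nat.mod_add_div j τ.cfg.k, pow_add, pow_mul, Equiv.Perm.mul_apply]
  congr 1
  generalize j / τ.cfg.k = n
  induction n with
  | zero => rfl
  | succ n ih => rw [pow_succ', Equiv.Perm.mul_apply, ← ih, σR_k]

/-- The number of roots in the orbit. -/
def osize (r : Root D) : ℕ := τ.cfg.osize r

theorem osize_eq (r : Root D) : τ.osize r = if τ.σR r = r then 1 else τ.cfg.k := by
  simp only [osize, Cfg.osize, Fin.ext_iff, σR_val]

theorem osize_pos (r : Root D) : 0 < τ.osize r := by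
  rw [osize_eq]
  split
  · exact Nat.one_pos
  · exact τ.k_pos

theorem σR_pow_osize (r : Root D) : (τ.σR ^ τ.osize r) r = r := by
  rw [osize_eq]
  split
  · next h => rw [pow_one, h]
  · exact τ.σR_k r

theorem σR_pow_fixed {r : Root D} (h : τ.σR r = r) (j : ℕ) : (τ.σR ^ j) r = r := by
  induction j with
  | zero => rfl
  | succ j ih => rw [pow_succ', Equiv.Perm.mul_apply, ih, h]

/-- The orbit of a root, along the symmetry. -/
def orb (r : Root D) : List (Root D) := (List.range (τ.osize r)).map fun j => (τ.σR ^ j) r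

theorem orb_map_val (r : Root D) : (τ.orb r).map Fin.val = τ.cfg.orbN r := by
  rw [orb, List.map_map]
  exact List.map_congr_left fun j _ => τ.σR_pow_val j r

theorem orb_nodup (r : Root D) : (τ.orb r).Nodup :=
  List.Nodup.of_map (f := Fin.val) (τ.orb_map_val r ▸ (τ.valid.root' r.2).2.2.2.2.2.2.1)

theorem mem_orb_iff {r a : Root D} : a ∈ τ.orb r ↔ ∃ j, (τ.σR ^ j) r = a := by
  constructor
  · intro h
    obtain ⟨j, -, rfl⟩ := List.mem_map.1 h
    exact ⟨j, rfl⟩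
  · rintro ⟨j, rfl⟩
    by_cases hf : τ.σR r = r
    · rw [τ.σR_pow_fixed hf j]
      exact List.mem_map.2 ⟨0, List.mem_range.2 (τ.osize_pos r), rfl⟩
    · refine List.mem_map.2 ⟨j % τ.cfg.k, List.mem_range.2 ?_, τ.σR_pow_mod j r⟩
      rw [osize_eq, if_neg hf]
      exact Nat.mod_lt _ τ.k_pos

theorem mem_orbN_iff {r a : Root D} : (a : ℕ) ∈ τ.cfg.orbN r ↔ a ∈ τ.orb r := by
  rw [← τ.orb_map_val]
  exact ⟨fun h => by obtain ⟨b, hb, e⟩ := List.mem_map.1 h; rwa [← Fin.ext e],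
    fun h => List.mem_map_of_mem h⟩

theorem self_mem_orb (r : Root D) : r ∈ τ.orb r := τ.mem_orb_iff.2 ⟨0, rfl⟩

theorem orb_map_σR (r : Root D) : ((τ.orb r).map τ.σR).Perm (τ.orb r) := by
  refine (List.perm_ext_iff_of_nodup ((τ.orb_nodup r).map τ.σR.injective) (τ.orb_nodup r)).2
    fun a => ⟨fun h => ?_, fun h => ?_⟩
  · obtain ⟨b, hb, rfl⟩ := List.mem_map.1 h
    obtain ⟨j, rfl⟩ := τ.mem_orb_iff.1 hb
    exact τ.mem_orb_iff.2 ⟨j + 1, by rw [pow_succ', Equiv.Perm.mul_apply]⟩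
  · obtain ⟨j, rfl⟩ := τ.mem_orb_iff.1 h
    refine List.mem_map.2 ⟨(τ.σR ^ (j + (τ.cfg.k - 1))) r, τ.mem_orb_iff.2 ⟨_, rfl⟩, ?_⟩
    rw [← Equiv.Perm.mul_apply, ← pow_succ', show j + (τ.cfg.k - 1) + 1 = j + τ.cfg.k by
      have := τ.k_pos; omega, pow_add, Equiv.Perm.mul_apply, σR_k]

theorem orb_disjoint {r a b : Root D} (ha : b ∈ τ.orb a) (hr : b ∈ τ.orb r) : a ∈ τ.orb r := by
  obtain ⟨i, rfl⟩ := τ.mem_orb_iff.1 ha
  obtain ⟨j, hj⟩ := τ.mem_orb_iff.1 hr
  refine τ.mem_orb_iff.2 ⟨j + (τ.cfg.k * i - i), ?_⟩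
  rw [add_comm, pow_add, Equiv.Perm.mul_apply, hj, ← Equiv.Perm.mul_apply, ← pow_add,
    show τ.cfg.k * i - i + i = τ.cfg.k * i by
      have := Nat.le_mul_of_pos_left i τ.k_pos; omega]
  rw [← σR_pow_mod, Nat.mul_mod_right, pow_zero, Equiv.Perm.one_apply]

theorem orb_pair {r a b : Root D} (ha : a ∈ τ.orb r) (hb : b ∈ τ.orb r) (hne : a ≠ b) :
    b ≠ a.rev ∧ D.commTerms a b = [] := by
  have := (τ.valid.root' r.2).2.2.2.2.2.2.2 a (τ.mem_orbN_iff.2 ha) b (τ.mem_orbN_iff.2 hb)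
    (fun e => hne (Fin.ext e))
  exact ⟨fun e => this.1 (by rw [e, rev_val]), this.2⟩

/-! ### The nodes -/

/-- The symmetry on the nodes. -/
def πR : Equiv.Perm (Fin D.rank) where
  toFun i := ⟨τ.cfg.S.πf i, (τ.valid.ok.node i.2).1⟩
  invFun i := ⟨τ.cfg.S.πinv.getD i 0, (τ.valid.ok.node i.2).2.2.1⟩
  left_inv i := Fin.ext (τ.valid.ok.node i.2).2.1
  right_inv i := Fin.ext (τ.valid.ok.node i.2).2.2.2

theorem πR_pow_val (j : ℕ) (i : Fin D.rank) :
    (((τ.πR ^ j) i : Fin D.rank) : ℕ) = τ.cfg.S.πf^[j] i := by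
  induction j with
  | zero => rfl
  | succ j ih =>
    rw [pow_succ', Equiv.Perm.mul_apply, Function.iterate_succ_apply', ← ih]
    rfl

theorem σR_pRoot (i : Fin D.rank) : τ.σR (pRoot τ.good i) = pRoot τ.good (τ.πR i) :=
  Fin.ext (τ.valid.node' i.2).2.1

theorem σR_pow_pRoot (j : ℕ) (i : Fin D.rank) :
    (τ.σR ^ j) (pRoot τ.good i) = pRoot τ.good ((τ.πR ^ j) i) := by
  induction j with
  | zero => rfl
  | succ j ih => rw [pow_succ', Equiv.Perm.mul_apply, ih, σR_pRoot, pow_succ', Equiv.Perm.mul_apply]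

theorem sgn_pRoot (i : Fin D.rank) : τ.cfg.S.sgn (pRoot τ.good i) = 1 := (τ.valid.node' i.2).2.2.1

/-- The first node of an orbit. -/
def head (o : Fin τ.cfg.m) : Fin D.rank := ⟨τ.cfg.head o, (τ.valid.orbit' o.2).1⟩

/-- The fundamental root of an orbit of nodes. -/
abbrev spR (o : Fin τ.cfg.m) : Root D := pRoot τ.good (τ.head o)

theorem spR_val (o : Fin τ.cfg.m) : (τ.spR o : ℕ) = τ.cfg.sp o := rfl

/-- The nodes of an orbit. -/
def nlist (o : Fin τ.cfg.m) : List (Fin D.rank) :=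
  (List.range (τ.osize (τ.spR o))).map fun j => (τ.πR ^ j) (τ.head o)

theorem nlist_map_val (o : Fin τ.cfg.m) :
    (τ.nlist o).map Fin.val = τ.cfg.nodes.getD o [] := by
  rw [(τ.valid.orbit' o.2).2.1, nlist, List.map_map]
  exact List.map_congr_left fun j _ => τ.πR_pow_val j _

theorem nlist_map_pRoot (o : Fin τ.cfg.m) : (τ.nlist o).map (pRoot τ.good) = τ.orb (τ.spR o) := by
  rw [nlist, orb, List.map_map]
  exact List.map_congr_left fun j _ => (τ.σR_pow_pRoot j _).symm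

theorem nlist_nodup (o : Fin τ.cfg.m) : (τ.nlist o).Nodup :=
  List.Nodup.of_map (f := pRoot τ.good) (τ.nlist_map_pRoot o ▸ τ.orb_nodup _)

theorem exists_mem_nlist (i : Fin D.rank) : ∃ o, i ∈ τ.nlist o := by
  obtain ⟨o, ho, hi⟩ := (τ.valid.node' i.2).2.2.2.2
  refine ⟨⟨o, ho⟩, ?_⟩
  rw [← τ.nlist_map_val ⟨o, ho⟩] at hi
  obtain ⟨j, hj, e⟩ := List.mem_map.1 hi
  rwa [← Fin.ext e]

theorem nlist_unique {i : Fin D.rank} {o o' : Fin τ.cfg.m} (h : i ∈ τ.nlist o)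
    (h' : i ∈ τ.nlist o') : o = o' := by
  have hnd := (List.nodup_flatten.1 τ.valid.nodup).2
  rw [List.pairwise_iff_getElem] at hnd
  have hl := τ.valid.len
  have lt : ∀ o : Fin τ.cfg.m, (o : ℕ) < τ.cfg.nodes.length := fun o => by rw [hl]; exact o.2
  have mem : ∀ o : Fin τ.cfg.m, i ∈ τ.nlist o → (i : ℕ) ∈ τ.cfg.nodes[(o : ℕ)]'(lt o) := fun o h => by
    have := List.mem_map_of_mem (f := Fin.val) h
    rwa [τ.nlist_map_val, List.getD_eq_getElem _ _ (lt o)] at this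
  rcases lt_trichotomy (o : ℕ) o' with hlt | heq | hlt
  · exact absurd (mem o' h') (fun h'' => hnd o o' _ _ hlt (mem o h) h'')
  · exact Fin.ext heq
  · exact absurd (mem o h) (fun h'' => hnd o' o _ _ hlt (mem o' h') h'')

theorem nlist_pair {o : Fin τ.cfg.m} {i j : Fin D.rank} (hi : i ∈ τ.nlist o) (hj : j ∈ τ.nlist o)
    (hne : i ≠ j) :
    D.cartan i (pRoot τ.good j) = 0 ∧
    ∀ a ∈ [pRoot τ.good i, (pRoot τ.good i).rev], ∀ b ∈ [pRoot τ.good j, (pRoot τ.good j).rev],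
      b ≠ a ∧ b ≠ a.rev ∧ D.commTerms a b = [] := by
  have h := (τ.valid.orbit' o.2).2.2 i (τ.nlist_map_val o ▸ List.mem_map_of_mem hi) j
    (τ.nlist_map_val o ▸ List.mem_map_of_mem hj) (fun e => hne (Fin.ext e))
  refine ⟨h.1, fun a ha b hb => ?_⟩
  have hv : ∀ {k : Fin D.rank} {c : Root D}, c ∈ [pRoot τ.good k, (pRoot τ.good k).rev] →
      (c : ℕ) ∈ [D.simple k, opp D (D.simple k)] := by
    intro k c hc
    simp only [List.mem_cons, List.not_mem_nil, or_false] at hc ⊢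
    rcases hc with rfl | rfl
    · exact Or.inl rfl
    · exact Or.inr (rev_val _)
  obtain ⟨h1, h2, h3⟩ := h.2 a (hv ha) b (hv hb)
  exact ⟨fun e => h1 (congrArg Fin.val e), fun e => h2 (by rw [e, rev_val]), h3⟩

/-! ### The folded reflections -/

/-- The product of the reflections of an orbit. -/
def wR (o : Fin τ.cfg.m) : Equiv.Perm (Root D) := ((τ.nlist o).map (wPerm τ.good)).prod

theorem wPerm_val_rstep (i : Fin D.rank) (r : Root D) :
    (wPerm τ.good i r : ℕ) = Weyl.rstep τ.cfg.R i r := by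
  rw [τ.good.wPerm_val, ((τ.rootGood.root_facts r.2).2.2.2.2.2.2 i i.2).1]

theorem list_wPerm_val (L : List (Fin D.rank)) (r : Root D) :
    (((L.map (wPerm τ.good)).prod r : Root D) : ℕ) =
      (L.map Fin.val).foldr (fun i x => Weyl.rstep τ.cfg.R i x) r := by
  induction L with
  | nil => rfl
  | cons i L ih =>
    rw [List.map_cons, List.prod_cons, Equiv.Perm.mul_apply, wPerm_val_rstep, ih, List.map_cons,
      List.foldr_cons]

theorem wR_val (o : Fin τ.cfg.m) (r : Root D) : (τ.wR o r : ℕ) = τ.cfg.wO o r := by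
  rw [wR, list_wPerm_val, nlist_map_val, Cfg.wO]

theorem wR_wR (o : Fin τ.cfg.m) : τ.wR o * τ.wR o = 1 :=
  Equiv.ext fun r => Fin.ext (by
    rw [Equiv.Perm.mul_apply, wR_val, wR_val, (τ.valid.refl' o.2 r.2).2.1, Equiv.Perm.one_apply])

theorem wR_inv (o : Fin τ.cfg.m) : (τ.wR o)⁻¹ = τ.wR o :=
  inv_eq_of_mul_eq_one_right (τ.wR_wR o)

theorem wR_orb {o : Fin τ.cfg.m} {r : Root D} (hr : r ∈ τ.orb (τ.spR o)) : τ.wR o r = r.rev :=
  Fin.ext (by
    rw [wR_val, rev_val]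
    exact (τ.valid.refl' o.2 r.2).2.2.1 (τ.mem_orbN_iff.2 hr))

theorem wR_pos {o : Fin τ.cfg.m} {r : Root D} (hr : half D ≤ (r : ℕ)) (hn : r ∉ τ.orb (τ.spR o)) :
    half D ≤ (τ.wR o r : ℕ) ∧ τ.wR o r ∉ τ.orb (τ.spR o) := by
  have := (τ.valid.refl' o.2 r.2).2.2.2.1 hr (fun h => hn (τ.mem_orbN_iff.1 h))
  rw [← τ.wR_val] at this
  exact ⟨this.1, fun h => this.2 (τ.mem_orbN_iff.2 h)⟩

theorem wR_neg {o : Fin τ.cfg.m} {r : Root D} (h : τ.wR o r = r.rev) :
    r ∈ τ.orb (τ.spR o) ∨ r.rev ∈ τ.orb (τ.spR o) := by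
  have := (τ.valid.refl' o.2 r.2).2.2.2.2 (by rw [← τ.wR_val, h, rev_val])
  rw [← rev_val] at this
  exact this.imp τ.mem_orbN_iff.1 τ.mem_orbN_iff.1

theorem spR_pos (o : Fin τ.cfg.m) : half D ≤ (τ.spR o : ℕ) := pRoot_pos τ.good _

theorem orb_spR_pos {o : Fin τ.cfg.m} {r : Root D} (hr : r ∈ τ.orb (τ.spR o)) :
    half D ≤ (r : ℕ) := by
  obtain ⟨j, rfl⟩ := τ.mem_orb_iff.1 hr
  exact (τ.σR_pow_pos j _).2 (τ.spR_pos o)

theorem spR_orb_unique {o o' : Fin τ.cfg.m} (h : τ.spR o ∈ τ.orb (τ.spR o')) : o = o' := by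
  rw [← τ.nlist_map_pRoot] at h
  obtain ⟨i, hi, e⟩ := List.mem_map.1 h
  have : i = τ.head o := pRoot_injective τ.good e
  subst this
  exact τ.nlist_unique (List.mem_map.2 ⟨0, List.mem_range.2 (τ.osize_pos _), rfl⟩) hi

theorem liftable_wR : τ.cfg.M.IsLiftable τ.wR := by
  intro i j
  refine Equiv.ext fun r => Fin.ext ?_
  have hb : (fun x => τ.cfg.wO i (τ.cfg.wO j x))^[τ.cfg.M i j] (r : ℕ) = r := by
    have := τ.valid.braid
    simp only [Cfg.chkBraid, List.all_eq_true, List.mem_finRange, forall_const, List.mem_range,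
      decide_eq_true_eq] at this
    exact this i j r r.2
  rw [Equiv.Perm.coe_pow, Equiv.Perm.one_apply]
  conv_rhs => rw [← hb]
  exact Function.Semiconj.iterate_right (f := fun x : Root D => (x : ℕ))
    (fun x => by simp [Function.comp_def, wR_val]) _ r

/-- The action of the folded group on the roots. -/
def θ : τ.cfg.M.Group →* Equiv.Perm (Root D) :=
  τ.cfg.M.toCoxeterSystem.lift ⟨_, τ.liftable_wR⟩

theorem θ_simple (o : Fin τ.cfg.m) : τ.θ (τ.cfg.M.simple o) = τ.wR o := by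
  rw [θ, ← CoxeterMatrix.toCoxeterSystem_simple]
  exact τ.cfg.M.toCoxeterSystem.lift_apply_simple τ.liftable_wR o

/-- The longest element. -/
def w₀ : τ.cfg.M.Group :=
  (τ.cfg.w0.pmap (fun o h => τ.cfg.M.simple ⟨o, h⟩) fun o h =>
    (τ.valid.long' τ.good.good).1 o h).prod

theorem θ_w₀ {r : Root D} (hr : half D ≤ (r : ℕ)) : (τ.θ τ.w₀ r : ℕ) < half D := by
  have key : ∀ (L : List ℕ) (hL : ∀ o ∈ L, o < τ.cfg.m),
      ((τ.θ ((L.pmap (fun o h => τ.cfg.M.simple ⟨o, h⟩) hL).prod) r : Root D) : ℕ) =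
        τ.cfg.wW L r := by
    intro L hL
    induction L with
    | nil => simp [Cfg.wW]
    | cons o L ih =>
      rw [List.pmap_cons, List.prod_cons, map_mul, θ_simple, Equiv.Perm.mul_apply, wR_val, ih]
      rfl
  rw [w₀, key]
  exact (τ.valid.long' τ.good.good).2 r r.2 hr

/-- The folded action is faithful. -/
def Faithful : Prop := Function.Injective τ.θ

end Setup

end CfsgLib.GraphTwist
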