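import Cfsg.Agent.GraphTwist.Psi

/-!
# The fixed torus and the orbit reflections
-/

set_option autoImplicit false

namespace CfsgLib.GraphTwist

open Cfsg.Lie CfsgLib.Chevalley CfsgLib.Twisted
open scoped MatrixGroups

/-- `h_r(a) = n_r(s a) n_r(-s)`. -/
theorem nElt_pair {D : ChevalleyDatum} (hW : GoodWeyl D) {F : Type*} [Field F] (r : Root D)
    (s a : Fˣ) : nElt hW.good r (s * a) * nElt hW.good r (-s) = hT F r a := by
  have h1 := hElt_eq hW r (s * a)
  have h2 := hElt_eq hW r s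
  rw [show nElt hW.good r (-s) = nElt hW.good r (-1) * (hT F r s)⁻¹ by
    rw [← h2, mul_inv_rev, mul_inv_cancel_left, nElt_neg], ← mul_assoc, h1, hT_inv, hT_mul]
  congr 1
  rw [mul_comm s a, mul_inv_cancel_right]

namespace FieldTwist

variable {D : ChevalleyDatum} {τ : Setup D} {K : Type*} [Field K] (Φ : FieldTwist τ K)

/-- The sign of a root as a unit. -/
def sU (_Φ : FieldTwist τ K) (r : Root D) : Kˣ :=
  Units.map (Int.castRingHom K).toMonoidHom
    ⟨τ.cfg.S.sgn r, τ.cfg.S.sgn r, (τ.valid.ok.root r.2).2.2.2.2.1, (τ.valid.ok.root r.2).2.2.2.2.1⟩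

theorem sgn_rev (r : Root D) : τ.cfg.S.sgn (r.rev : Root D) = τ.cfg.S.sgn r := by
  rw [← τ.good.good.neg_fin r]
  exact (τ.valid.ok.root r.2).2.2.2.2.2.2.2.1

theorem Ψ_nElt (r : Root D) (t : Kˣ) :
    Φ.Ψ (nElt τ.good.good r t) = nElt τ.good.good (τ.σR r) (Φ.sU r * Φ.fU t) := by
  have hinv : (Φ.sU r : Kˣ)⁻¹ = Φ.sU r := by
    apply inv_eq_of_mul_eq_one_right
    apply Units.ext
    show ((τ.cfg.S.sgn r : ℤ) : K) * (τ.cfg.S.sgn r : ℤ) = 1
    rw [← Int.cast_mul, (τ.valid.ok.root r.2).2.2.2.2.1, Int.cast_one]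
  rw [nElt, map_mul, map_mul, Ψ_X, Ψ_X, τ.σR_rev, sgn_rev, nElt, mul_inv, hinv]
  simp [fU, sU, map_neg]

theorem Ψ_hT (r : Root D) (t : Kˣ) : Φ.Ψ (hT K r t) = hT K (τ.σR r) (Φ.fU t) := by
  rw [← hElt_eq τ.good r t, map_mul, Ψ_nElt, Ψ_nElt, ← nElt_pair τ.good (τ.σR r) (Φ.sU r) (Φ.fU t)]
  congr 2
  apply Units.ext
  simp [fU]

theorem fU_one : Φ.fU 1 = 1 := map_one _

theorem sU_pRoot (i : Fin D.rank) : Φ.sU (pRoot τ.good i) = 1 := by
  apply Units.ext
  show ((τ.cfg.S.sgn (pRoot τ.good i) : ℤ) : K) = 1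
  rw [τ.sgn_pRoot, Int.cast_one]

theorem Ψ_nR (i : Fin D.rank) : Φ.Ψ (nR τ.good i) = nR τ.good (τ.πR i) := by
  rw [← nElt_one (F := K) τ.good i, Ψ_nElt, sU_pRoot, fU_one, one_mul, τ.σR_pRoot, nElt_one]

/-- The twist on the parameters of the torus. -/
def T : (Fin D.rank → Kˣ) →* (Fin D.rank → Kˣ) where
  toFun c i := Φ.fU (c (τ.πR.symm i))
  map_one' := funext fun _ => Φ.fU_one
  map_mul' _ _ := funext fun _ => Φ.fU_mul _ _

/-- The torus parameter of `h_r(a)`. -/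
def hC (r : Root D) (a : Kˣ) : Fin D.rank → Kˣ := fun i => a ^ (D.coroot.getD r #[]).getD i 0

theorem torC_hC (r : Root D) (a : Kˣ) : torC D (hC r a) = hT K r a := (hT_eq_torC r a).symm

theorem T_hC (r : Root D) (a : Kˣ) : Φ.T (hC r a) = hC (τ.σR r) (Φ.fU a) := by
  funext i
  show Φ.fU (a ^ _) = Φ.fU a ^ _
  have h := ((τ.valid.ok.root r.2).2.2.2.2.2.2.2.2.1 _ (τ.πR.symm i).2).1
  rw [τ.valid.delta, one_mul] at h
  rw [← h, show τ.cfg.S.πf (τ.πR.symm i : Fin D.rank) = (i : ℕ) from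
    congrArg Fin.val (τ.πR.apply_symm_apply i)]
  exact map_zpow (Units.map Φ.f.toRingHom.toMonoidHom) a _

theorem hC_pRoot (i : Fin D.rank) (a : Kˣ) : hC (pRoot τ.good i) a = Pi.mulSingle i a := by
  funext j
  rw [hC, show ((D.coroot.getD (pRoot τ.good i : Root D) #[]).getD j 0) = if i = j then 1 else 0 by
    rw [show ((pRoot τ.good i : Root D) : ℕ) = D.simple i from rfl,
      τ.good.good.coroot_simple i.2 j.2]
    simp [Fin.ext_iff]]
  rcases eq_or_ne i j with rfl | h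
  · simp
  · simp [h, Pi.mulSingle_eq_of_ne (Ne.symm h)]

theorem Ψ_torC (c : Fin D.rank → Kˣ) : Φ.Ψ (torC D c) = torC D (Φ.T c) := by
  have hc : c = ((List.finRange D.rank).map fun i => Pi.mulSingle i (c i)).prod := by
    rw [← List.ofFn_eq_map, List.prod_ofFn]
    exact (Finset.univ_prod_mulSingle c).symm
  conv_lhs => rw [hc]
  conv_rhs => rw [hc]
  show Φ.Ψ (torHom D K _) = (torHom D K).comp Φ.T _
  rw [map_list_prod, map_list_prod, map_list_prod, List.map_map, List.map_map, List.map_map]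
  refine congrArg List.prod (List.map_congr_left fun i _ => ?_)
  show Φ.Ψ (torC D (Pi.mulSingle i (c i))) = torC D (Φ.T (Pi.mulSingle i (c i)))
  rw [← hC_pRoot (τ := τ), torC_hC, Ψ_hT, T_hC, torC_hC]

/-- The fixed parameters. -/
def fixC : Subgroup (Fin D.rank → Kˣ) := Φ.T.eqLocus (MonoidHom.id _)

theorem mem_fixC {c : Fin D.rank → Kˣ} : c ∈ Φ.fixC ↔ ∀ i, c (τ.πR i) = Φ.fU (c i) := by
  constructor
  · intro h i
    have := congrFun (show Φ.T c = c from h) (τ.πR i)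
    conv_lhs => rw [← this]
    show Φ.fU _ = _
    rw [Equiv.symm_apply_apply]
  · intro h
    funext i
    show Φ.fU _ = c i
    rw [← h, Equiv.apply_symm_apply]

/-- The fixed torus. -/
def H₀ : Subgroup (GL D.Idx K) := Φ.fixC.map (torHom D K)

theorem H₀_le_diag : Φ.H₀ ≤ D.diagonalSubgroup K := by
  rw [diagonalSubgroup_eq_range τ.good]
  exact Subgroup.map_le_range _ _

theorem H₀_le_fix : Φ.H₀ ≤ Φ.fix := by
  rintro _ ⟨c, hc, rfl⟩
  rw [mem_fix]
  show Φ.Ψ (torC D c) = torC D c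
  rw [Ψ_torC, show Φ.T c = c from hc]

/-- An admissible torus parameter. -/
def AdmU (r : Root D) (a : Kˣ) : Prop := τ.σR r = r → Φ.fU a = a

theorem admU_iff {r : Root D} {a : Kˣ} : Φ.AdmU r a ↔ Φ.Adm r (a : K) :=
  ⟨fun h e => congrArg Units.val (h e), fun h e => Units.ext (h e)⟩

theorem admU_inv {r : Root D} {a : Kˣ} (h : Φ.AdmU r a) : Φ.AdmU r a⁻¹ := fun e =>
  (map_inv (Units.map Φ.f.toRingHom.toMonoidHom) a).trans (congrArg _ (h e))

theorem admU_neg_one (r : Root D) : Φ.AdmU r (-1) := fun _ => Units.ext (by simp [fU])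

theorem Ψ_pow_hT (r : Root D) (a : Kˣ) (j : ℕ) :
    (Φ.Ψ ^ j) (hT K r a) = hT K ((τ.σR ^ j) r) (Φ.fU^[j] a) := by
  induction j with
  | zero => rfl
  | succ j ih =>
    rw [pow_succ', MulAut.mul_apply, ih, Ψ_hT, pow_succ', Equiv.Perm.mul_apply,
      Function.iterate_succ_apply']

/-- The torus element of an orbit. -/
def oH (r : Root D) (a : Kˣ) : GL D.Idx K :=
  ((List.range (τ.osize r)).map fun j => (Φ.Ψ ^ j) (hT K r a)).prod

theorem hC_periodic {r : Root D} {a : Kˣ} (h : Φ.AdmU r a) :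
    hC ((τ.σR ^ τ.osize r) r) (Φ.fU^[τ.osize r] a) = hC r a := by
  rw [τ.σR_pow_osize, τ.osize_eq]
  split
  · next hf => rw [Function.iterate_one, h hf]
  · congr 1
    apply Units.ext
    rw [show ((Φ.fU^[τ.cfg.k] a : Kˣ) : K) = Φ.f^[τ.cfg.k] a from
      Function.Semiconj.iterate_right (f := (Units.val : Kˣ → K)) (fun x => rfl) _ a]
    exact Φ.periodic _

theorem oH_mem {r : Root D} {a : Kˣ} (h : Φ.AdmU r a) : Φ.oH r a ∈ Φ.H₀ := by
  set n := τ.osize r with hn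
  set g : ℕ → Fin D.rank → Kˣ := fun j => hC ((τ.σR ^ j) r) (Φ.fU^[j] a) with hg
  refine ⟨∏ j ∈ Finset.range n, g j, ?_, ?_⟩
  · show Φ.T _ = _
    rw [map_prod]
    have e : ∀ j, Φ.T (g j) = g (j + 1) := fun j => by
      simp only [hg, T_hC, pow_succ', Equiv.Perm.mul_apply, Function.iterate_succ_apply']
    simp only [e]
    have h1 := Finset.prod_range_succ' g n
    rw [Finset.prod_range_succ, show g n = g 0 from Φ.hC_periodic h] at h1
    exact (mul_right_cancel h1).symm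
  · rw [oH, ← hn]
    have : ∀ j, (Φ.Ψ ^ j) (hT K r a) = torHom D K (g j) := fun j => by
      rw [Ψ_pow_hT]; exact (torC_hC _ _).symm
    simp only [this]
    clear_value n
    clear hn
    induction n with
    | zero => simp
    | succ n ih =>
      rw [Finset.prod_range_succ, map_mul, ih, List.range_succ, List.map_append, List.prod_append,
        List.map_singleton, List.prod_singleton]

theorem oH_mem_fix {r : Root D} {a : Kˣ} (h : Φ.AdmU r a) : Φ.oH r a ∈ Φ.fix :=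
  Φ.H₀_le_fix (Φ.oH_mem h)

theorem fU_eq_of_head {c : Fin D.rank → Kˣ} (hc : c ∈ Φ.fixC) (i : Fin D.rank) (j : ℕ) :
    c ((τ.πR ^ j) i) = Φ.fU^[j] (c i) := by
  induction j with
  | zero => rfl
  | succ j ih => rw [pow_succ', Equiv.Perm.mul_apply, Φ.mem_fixC.1 hc, ih, Function.iterate_succ_apply']

theorem admU_head {c : Fin D.rank → Kˣ} (hc : c ∈ Φ.fixC) (o : Fin τ.cfg.m) :
    Φ.AdmU (τ.spR o) (c (τ.head o)) := by
  intro hfix
  rw [τ.σR_pRoot] at hfix
  rw [← Φ.mem_fixC.1 hc, pRoot_injective τ.good hfix]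

/-- The fixed torus is generated by the fundamental orbits. -/
theorem H₀_le {L : Subgroup (GL D.Idx K)}
    (h : ∀ (o : Fin τ.cfg.m) (a : Kˣ), Φ.AdmU (τ.spR o) a → Φ.oH (τ.spR o) a ∈ L) : Φ.H₀ ≤ L := by
  rintro _ ⟨c, hc, rfl⟩
  classical
  have hsplit : c = ∏ o, ((List.range (τ.osize (τ.spR o))).map
      fun j => Pi.mulSingle ((τ.πR ^ j) (τ.head o)) (c ((τ.πR ^ j) (τ.head o)))).prod := by
    funext i
    rw [Finset.prod_apply]
    obtain ⟨o₀, ho₀⟩ := τ.exists_mem_nlist i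
    have hval : ∀ o, ((((List.range (τ.osize (τ.spR o))).map
        fun j => Pi.mulSingle ((τ.πR ^ j) (τ.head o)) (c ((τ.πR ^ j) (τ.head o)))).prod :
          Fin D.rank → Kˣ) i) = if i ∈ τ.nlist o then c i else 1 := by
      intro o
      have e : ((List.range (τ.osize (τ.spR o))).map
        fun j => Pi.mulSingle ((τ.πR ^ j) (τ.head o)) (c ((τ.πR ^ j) (τ.head o)))) =
          (τ.nlist o).map fun k => Pi.mulSingle k (c k) := by
        rw [Setup.nlist, List.map_map]; rfl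
      rw [e]
      clear e
      generalize τ.nlist o = L, τ.nlist_nodup o = hL
      induction L with
      | nil => simp
      | cons k L ih =>
        rw [List.nodup_cons] at hL
        rw [List.map_cons, List.prod_cons, Pi.mul_apply, ih hL.2]
        rcases eq_or_ne i k with rfl | hne
        · simp [hL.1]
        · simp [hne]
    rw [Finset.prod_eq_single o₀ (fun o _ ho => by
      rw [hval, if_neg fun h' => ho (τ.nlist_unique h' ho₀)]) (by simp), hval, if_pos ho₀]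
  rw [hsplit]
  refine Finset.prod_induction _ (fun x => torHom D K x ∈ L)
    (fun x y hx hy => by rw [map_mul]; exact mul_mem hx hy) (by rw [map_one]; exact one_mem _)
    fun o _ => ?_
  have := h o _ (Φ.admU_head hc o)
  rw [oH] at this
  rw [map_list_prod, List.map_map]
  refine (congrArg (· ∈ L) (congrArg List.prod (List.map_congr_left fun j _ => ?_))).mpr this
  show torC D (Pi.mulSingle ((τ.πR ^ j) (τ.head o)) (c ((τ.πR ^ j) (τ.head o)))) = _
  rw [Ψ_pow_hT, ← hC_pRoot (τ := τ), torC_hC, τ.σR_pow_pRoot, Φ.fU_eq_of_head hc]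

theorem conj_hT {g : GL D.Idx K} {π : Equiv.Perm (Root D)} (hg : MonBy τ.good g π) (r : Root D)
    (a : Kˣ) : g * hT K r a * g⁻¹ = hT K (π r) a := by
  obtain ⟨c, hc, hc'⟩ := hg r
  have key : ∀ t : Kˣ, g * nElt τ.good.good r t * g⁻¹ = nElt τ.good.good (π r) (c * t) := by
    intro t
    rw [nElt, show ∀ n x y z : GL D.Idx K,
      n * (x * y * z) * n⁻¹ = (n * x * n⁻¹) * (n * y * n⁻¹) * (n * z * n⁻¹) from
      fun n x y z => by group, hc, hc', nElt, mul_inv, mul_neg, Units.val_mul, Units.val_mul]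
  rw [← hElt_eq τ.good r a, show ∀ x y : GL D.Idx K, g * (x * y) * g⁻¹ = g * x * g⁻¹ * (g * y * g⁻¹)
    from fun x y => by group, key, key, mul_neg, mul_one, nElt_pair τ.good]

theorem conj_oH {g : GL D.Idx K} {π : Equiv.Perm (Root D)} (hg : MonBy τ.good g π)
    (hf : g ∈ Φ.fix) (r : Root D) (a : Kˣ) : g * Φ.oH r a * g⁻¹ = Φ.oH (π r) a := by
  have hsz : τ.osize (π r) = τ.osize r := by
    rw [τ.osize_eq, τ.osize_eq]
    simp only [Φ.osize_monBy hg hf r]
  rw [oH, oH, hsz, ← conj_hT (τ := τ) hg r a, ← MulAut.conj_apply g, map_list_prod, List.map_map]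
  refine congrArg List.prod (List.map_congr_left fun j _ => ?_)
  rw [Function.comp_apply, MulAut.conj_apply, map_mul, map_mul, map_inv, Φ.pow_apply_fix hf]

/-- A fixed monomial element normalises the fixed torus. -/
theorem conj_H₀ {g : GL D.Idx K} {π : Equiv.Perm (Root D)} (hg : MonBy τ.good g π)
    (hf : g ∈ Φ.fix) {h : GL D.Idx K} (hh : h ∈ Φ.H₀) : g * h * g⁻¹ ∈ Φ.H₀ := by
  refine (Φ.H₀_le (L := Φ.H₀.comap (MulAut.conj g).toMonoidHom) fun o a ha => ?_) hh
  show g * _ * g⁻¹ ∈ Φ.H₀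
  rw [Φ.conj_oH hg hf]
  exact Φ.oH_mem fun e => ha ((Φ.osize_monBy hg hf _).1 e)

/-! ### The blocks of the fundamental roots -/

/-- The rank one group of a fundamental root. -/
abbrev block (i : Fin D.rank) : Subgroup (GL D.Idx K) :=
  rootGen τ.good.good K {a | a = pRoot τ.good i ∨ a = (pRoot τ.good i).rev}

theorem X_mem_block (i : Fin D.rank) (t : K) :
    X τ.good.good (pRoot τ.good i) t ∈ block (τ := τ) (K := K) i :=
  X_mem_rootGen _ (Or.inl rfl) t

theorem Y_mem_block (i : Fin D.rank) (t : K) :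
    X τ.good.good (pRoot τ.good i).rev t ∈ block (τ := τ) (K := K) i :=
  X_mem_rootGen _ (Or.inr rfl) t

theorem nElt_mem_block (i : Fin D.rank) (a : Kˣ) :
    nElt τ.good.good (pRoot τ.good i) a ∈ block (τ := τ) (K := K) i :=
  mul_mem (mul_mem (X_mem_block i _) (Y_mem_block i _)) (X_mem_block i _)

theorem hT_mem_block (i : Fin D.rank) (a : Kˣ) :
    hT K (pRoot τ.good i) a ∈ block (τ := τ) (K := K) i := by
  rw [← hElt_eq τ.good]
  exact mul_mem (nElt_mem_block i _) (nElt_mem_block i _)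

theorem nR_mem_block (i : Fin D.rank) : (nR τ.good i : GL D.Idx K) ∈ block (τ := τ) (K := K) i := by
  rw [← nElt_one (F := K) τ.good i]
  exact nElt_mem_block i _

theorem pow_mem_block (i : Fin D.rank) (j : ℕ) {g : GL D.Idx K}
    (hg : g ∈ block (τ := τ) (K := K) i) :
    (Φ.Ψ ^ j) g ∈ block (τ := τ) (K := K) ((τ.πR ^ j) i) := by
  refine (rootGen_le τ.good.good (K := (block (τ := τ) (K := K) ((τ.πR ^ j) i)).comap
    (Φ.Ψ ^ j).toMonoidHom) fun a ha t => ?_) hg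
  show (Φ.Ψ ^ j) _ ∈ block (τ := τ) (K := K) ((τ.πR ^ j) i)
  rw [Ψ_pow_X]
  refine X_mem_rootGen _ ?_ _
  rcases ha with rfl | rfl
  · exact Or.inl (τ.σR_pow_pRoot j i)
  · exact Or.inr (by rw [τ.σR_pow_rev, τ.σR_pow_pRoot])

theorem block_commute {o : Fin τ.cfg.m} {i j : Fin D.rank} (hi : i ∈ τ.nlist o)
    (hj : j ∈ τ.nlist o) (hne : i ≠ j) {x y : GL D.Idx K}
    (hx : x ∈ block (τ := τ) (K := K) i) (hy : y ∈ block (τ := τ) (K := K) j) : Commute x y := by
  have h : block (τ := τ) (K := K) i ≤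
      Subgroup.centralizer (block (τ := τ) (K := K) j : Set (GL D.Idx K)) := by
    refine rootGen_le _ fun a ha s => ?_
    have hb : block (τ := τ) (K := K) j ≤ Subgroup.centralizer {X τ.good.good a s} := by
      refine rootGen_le _ fun b hb u => Subgroup.mem_centralizer_singleton_iff.2 ?_
      obtain ⟨h1, h2, h3⟩ := (τ.nlist_pair hi hj hne).2 a
        (by simpa using ha) b (by simpa using hb)
      have := X_comm τ.good.toGoodComm a b h1 h2 s u
      rw [commRhs, h3] at this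
      simpa [wordGL] using this
    exact Subgroup.mem_centralizer_iff.2 fun y hy =>
      Subgroup.mem_centralizer_singleton_iff.1 (hb hy)
  exact (Subgroup.mem_centralizer_iff.1 (h hx) y hy).symm

/-- The product over an orbit of nodes. -/
def orbProd (o : Fin τ.cfg.m) (g : GL D.Idx K) : GL D.Idx K :=
  ((List.range (τ.osize (τ.spR o))).map fun j => (Φ.Ψ ^ j) g).prod

theorem node_mem_nlist {o : Fin τ.cfg.m} {j : ℕ} (hj : j ∈ List.range (τ.osize (τ.spR o))) :
    (τ.πR ^ j) (τ.head o) ∈ τ.nlist o :=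
  List.mem_map.2 ⟨j, hj, rfl⟩

theorem node_inj {o : Fin τ.cfg.m} {i j : ℕ} (hi : i ∈ List.range (τ.osize (τ.spR o)))
    (hj : j ∈ List.range (τ.osize (τ.spR o))) (hne : i ≠ j) :
    (τ.πR ^ i) (τ.head o) ≠ (τ.πR ^ j) (τ.head o) := fun e =>
  hne (List.inj_on_of_nodup_map (τ.nlist_nodup o) hi hj e)

theorem orbProd_mul {o : Fin τ.cfg.m} {g h : GL D.Idx K}
    (hg : g ∈ block (τ := τ) (K := K) (τ.head o)) (hh : h ∈ block (τ := τ) (K := K) (τ.head o)) :
    Φ.orbProd o (g * h) = Φ.orbProd o g * Φ.orbProd o h := by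
  rw [orbProd, orbProd, orbProd, ← prod_map_mul_of_commute _ _ _ List.nodup_range]
  · congr 1
    exact List.map_congr_left fun j _ => map_mul _ _ _
  · intro i hi j hj hne
    exact block_commute (node_mem_nlist hi) (node_mem_nlist hj) (node_inj hi hj hne)
      (Φ.pow_mem_block _ i hh) (Φ.pow_mem_block _ j hg)

/-- The reflection of an orbit. -/
def nO (o : Fin τ.cfg.m) : GL D.Idx K := Φ.orbProd o (nR τ.good (τ.head o))

theorem pow_nR (i : Fin D.rank) (j : ℕ) :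
    (Φ.Ψ ^ j) (nR τ.good i) = nR τ.good ((τ.πR ^ j) i) := by
  induction j with
  | zero => rfl
  | succ j ih => rw [pow_succ', MulAut.mul_apply, ih, Ψ_nR, pow_succ', Equiv.Perm.mul_apply]

theorem nO_eq (o : Fin τ.cfg.m) :
    Φ.nO o = ((τ.nlist o).map fun i => (nR τ.good i : GL D.Idx K)).prod := by
  rw [nO, orbProd, Setup.nlist, List.map_map]
  exact congrArg List.prod (List.map_congr_left fun j _ => Φ.pow_nR _ j)

theorem monBy_nO (o : Fin τ.cfg.m) : MonBy τ.good (Φ.nO o) (τ.wR o) := by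
  rw [nO_eq, Setup.wR]
  induction τ.nlist o with
  | nil => exact MonBy.one τ.good
  | cons i L ih =>
    rw [List.map_cons, List.prod_cons, List.map_cons, List.prod_cons]
    exact (monBy_nR τ.good i).mul ih

theorem nO_mem_monomial (o : Fin τ.cfg.m) : Φ.nO o ∈ D.monomialSubgroup K := by
  rw [nO_eq]
  refine Subgroup.list_prod_mem _ fun x hx => ?_
  obtain ⟨i, -, rfl⟩ := List.mem_map.1 hx
  exact nR_mem_monomial τ.good i

theorem nO_mem_fix (o : Fin τ.cfg.m) : Φ.nO o ∈ Φ.fix := by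
  refine Φ.mem_fix.2 (Φ.prod_Ψ_pow_fixed ?_ fun j hj => ?_)
  · rw [pow_nR]
    congr 1
    exact pRoot_injective τ.good (by rw [← τ.σR_pow_pRoot, τ.σR_pow_osize])
  · rcases Nat.eq_zero_or_pos j with rfl | hj0
    · exact Commute.refl _
    · exact block_commute (node_mem_nlist (List.mem_range.2 (τ.osize_pos _)))
        (node_mem_nlist (List.mem_range.2 hj))
        (node_inj (List.mem_range.2 (τ.osize_pos _)) (List.mem_range.2 hj) (by omega))
        (nR_mem_block _) (Φ.pow_mem_block _ j (nR_mem_block _))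

theorem osize_rev (r : Root D) : τ.osize r.rev = τ.osize r := by
  rw [τ.osize_eq, τ.osize_eq, τ.σR_rev]
  simp only [Fin.rev_inj]

theorem adm_rev {r : Root D} {t : K} : Φ.Adm r.rev t ↔ Φ.Adm r t := by
  simp only [Adm, τ.σR_rev, Fin.rev_inj]

/-- The rank one identity of an orbit. -/
theorem oX_oY_oX (o : Fin τ.cfg.m) (a : Kˣ) :
    Φ.oX (τ.spR o) (a : K) * Φ.oX (τ.spR o).rev (-((a⁻¹ : Kˣ) : K)) * Φ.oX (τ.spR o) (a : K) =
      Φ.oH (τ.spR o) a * Φ.nO o := by
  have e : Φ.oX (τ.spR o).rev (-((a⁻¹ : Kˣ) : K)) =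
      Φ.orbProd o (X τ.good.good (τ.spR o).rev (-((a⁻¹ : Kˣ) : K))) := by
    rw [oX, orbProd, osize_rev]
  rw [show Φ.oX (τ.spR o) (a : K) = Φ.orbProd o (X τ.good.good (τ.spR o) (a : K)) from rfl, e,
    ← Φ.orbProd_mul (X_mem_block _ _) (Y_mem_block _ _),
    ← Φ.orbProd_mul (mul_mem (X_mem_block _ _) (Y_mem_block _ _)) (X_mem_block _ _),
    show Φ.oH (τ.spR o) a = Φ.orbProd o (hT K (τ.spR o) a) from rfl, nO,
    ← Φ.orbProd_mul (hT_mem_block _ _) (nR_mem_block _)]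
  exact congrArg _ (nWord_eq τ.good (τ.head o) a)

theorem nO_sq (o : Fin τ.cfg.m) : Φ.nO o * Φ.nO o = Φ.oH (τ.spR o) (-1) := by
  rw [nO, ← Φ.orbProd_mul (nR_mem_block _) (nR_mem_block _), nR_sq]
  rfl

theorem nO_sq_mem (o : Fin τ.cfg.m) : Φ.nO o * Φ.nO o ∈ Φ.H₀ :=
  Φ.nO_sq o ▸ Φ.oH_mem (Φ.admU_neg_one _)

theorem exists_inv_nO (o : Fin τ.cfg.m) : ∃ h ∈ Φ.H₀, (Φ.nO o)⁻¹ = Φ.nO o * h :=
  ⟨(Φ.nO o * Φ.nO o)⁻¹, inv_mem (Φ.nO_sq_mem o), by group⟩

end FieldTwist

end CfsgLib.GraphTwist
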