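import Cfsg.Agent.GraphTwist.BN
import Mathlib.FieldTheory.Finite.Basic

/-!
# Components and order of the fixed torus
-/

set_option autoImplicit false

namespace CfsgLib.GraphTwist

open Cfsg.Lie CfsgLib.Chevalley CfsgLib.Twisted
open scoped MatrixGroups

namespace FieldTwist

variable {D : ChevalleyDatum} {τ : Setup D} {K : Type*} [Field K] (Φ : FieldTwist τ K)

/-- The parameter supported on one orbit of nodes. -/
def compC (o : Fin τ.cfg.m) (a : Kˣ) : Fin D.rank → Kˣ :=
  ∏ j ∈ Finset.range (τ.osize (τ.spR o)), hC ((τ.σR ^ j) (τ.spR o)) (Φ.fU^[j] a)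

theorem compC_mem {o : Fin τ.cfg.m} {a : Kˣ} (h : Φ.AdmU (τ.spR o) a) :
    Φ.compC o a ∈ Φ.fixC := by
  set g : ℕ → Fin D.rank → Kˣ := fun j => hC ((τ.σR ^ j) (τ.spR o)) (Φ.fU^[j] a) with hg
  show Φ.T (∏ j ∈ Finset.range (τ.osize (τ.spR o)), g j) = _
  rw [map_prod]
  have e : ∀ j, Φ.T (g j) = g (j + 1) := fun j => by
    simp only [hg, T_hC, pow_succ', Equiv.Perm.mul_apply, Function.iterate_succ_apply']
  simp only [e]
  have h1 := Finset.prod_range_succ' g (τ.osize (τ.spR o))
  rw [Finset.prod_range_succ, show g (τ.osize (τ.spR o)) = g 0 from Φ.hC_periodic h] at h1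
  exact (mul_right_cancel h1).symm

theorem compC_apply_of_notMem {o : Fin τ.cfg.m} {i : Fin D.rank} (h : i ∉ τ.nlist o) (a : Kˣ) :
    Φ.compC o a i = 1 := by
  rw [compC, Finset.prod_apply]
  refine Finset.prod_eq_one fun j hj => ?_
  rw [τ.σR_pow_pRoot, hC_pRoot (τ := τ), Pi.mulSingle_eq_of_ne]
  intro e
  exact h (e ▸ node_mem_nlist (List.mem_range.2 (Finset.mem_range.1 hj)))

theorem compC_head (o : Fin τ.cfg.m) (a : Kˣ) : Φ.compC o a (τ.head o) = a := by
  rw [compC, Finset.prod_apply, Finset.prod_eq_single 0]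
  · rw [pow_zero, Equiv.Perm.one_apply, hC_pRoot (τ := τ), Pi.mulSingle_eq_same]
    rfl
  · intro j hj hne
    rw [τ.σR_pow_pRoot, hC_pRoot (τ := τ), Pi.mulSingle_eq_of_ne]
    intro e
    have := node_inj (o := o) (i := 0) (j := j) (List.mem_range.2 (τ.osize_pos _))
      (List.mem_range.2 (Finset.mem_range.1 hj)) (Ne.symm hne)
    rw [pow_zero, Equiv.Perm.one_apply] at this
    exact this e
  · intro h
    exact absurd (Finset.mem_range.2 (τ.osize_pos _)) h

theorem natCard_fixC [Finite K] :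
    Nat.card Φ.fixC = ∏ o : Fin τ.cfg.m, Nat.card {a : Kˣ // Φ.AdmU (τ.spR o) a} := by
  rw [← Nat.card_pi]
  refine Nat.card_eq_of_bijective
    (fun c o => ⟨c.1 (τ.head o), Φ.admU_head c.2 o⟩) ⟨?_, ?_⟩
  · intro c d h
    refine Subtype.ext (funext fun i => ?_)
    obtain ⟨o, ho⟩ := τ.exists_mem_nlist i
    obtain ⟨j, -, rfl⟩ := List.mem_map.1 ho
    rw [Φ.fU_eq_of_head c.2, Φ.fU_eq_of_head d.2]
    exact congrArg _ (congrArg Subtype.val (congrFun h o))
  · intro a
    refine ⟨⟨∏ o, Φ.compC o (a o).1, Subgroup.prod_mem _ fun o _ => Φ.compC_mem (a o).2⟩,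
      funext fun o => Subtype.ext ?_⟩
    show (∏ o', Φ.compC o' (a o').1) (τ.head o) = (a o).1
    rw [Finset.prod_apply, Finset.prod_eq_single o, compC_head]
    · intro o' _ hne
      refine Φ.compC_apply_of_notMem (fun h => hne ?_) _
      exact τ.nlist_unique h (List.mem_map.2 ⟨0, List.mem_range.2 (τ.osize_pos _), rfl⟩)
    · intro h
      exact absurd (Finset.mem_univ o) h

theorem natCard_admU [Finite K] {q : ℕ} (hfix : Nat.card {x : K // Φ.f x = x} = q)
    (hK : Nat.card K = q ^ τ.cfg.k) (r : Root D) :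
    Nat.card {a : Kˣ // Φ.AdmU r a} = q ^ τ.osize r - 1 := by
  classical
  letI := Fintype.ofFinite K
  rw [τ.osize_eq]
  split
  · next h =>
    let e : {a : Kˣ // Φ.AdmU r a} ≃ {x : {x : K // Φ.f x = x} // x ≠ ⟨0, map_zero _⟩} :=
      { toFun := fun a => ⟨⟨(a.1 : K), congrArg Units.val (a.2 h)⟩,
          fun e => a.1.ne_zero (congrArg Subtype.val e)⟩
        invFun := fun x => ⟨Units.mk0 x.1.1 fun e => x.2 (Subtype.ext e),
          fun _ => Units.ext x.1.2⟩
        left_inv := fun a => Subtype.ext (Units.ext rfl)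
        right_inv := fun x => rfl }
    rw [Nat.card_congr e, pow_one, ← hfix, Nat.card_eq_fintype_card, Nat.card_eq_fintype_card,
      Fintype.card_subtype_compl, Fintype.card_subtype_eq]
  · next h =>
    have e : {a : Kˣ // Φ.AdmU r a} ≃ Kˣ :=
      Equiv.subtypeUnivEquiv (p := fun a => Φ.AdmU r a) fun a hh => absurd hh h
    rw [Nat.card_congr e, Nat.card_units, hK]

theorem chi_wPerm (hW : GoodWeyl D) (c : Fin D.rank → Kˣ) (i : Fin D.rank) (s : Root D) :
    ChevSimple.chi c (wPerm hW i s) =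
      ChevSimple.chi c s * ChevSimple.chi c (pRoot hW i) ^ (-(D.cartan i s)) := by
  simp only [ChevSimple.chi]
  rw [← Finset.prod_zpow, ← Finset.prod_mul_distrib]
  refine Finset.prod_congr rfl fun k _ => ?_
  rw [← zpow_mul, ← zpow_add]
  congr 1
  rw [hW.cartan_wPerm]
  ring

theorem torC_eq_one_iff (hW : GoodWeyl D) (c : Fin D.rank → Kˣ) :
    torC D c = 1 ↔ ∀ i : Fin D.rank, ChevSimple.chi c (pRoot hW i) = 1 := by
  constructor
  · intro h i
    have h' : (tor fun s : Root D => ∏ k : Fin D.rank, c k ^ D.cartan k s : GL D.Idx K) =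
        tor fun _ => 1 := by rw [tor_one]; exact h
    exact congrFun (tor_injective h') (pRoot hW i)
  · intro h
    have key : ∀ r : Root D, ChevSimple.chi c r = 1 := fun r =>
      hW.root_induction (P := fun r => ChevSimple.chi c r = 1) h
        (fun i r hr => by rw [chi_wPerm, hr, h i, one_zpow, one_mul]) r
    rw [torC, show (fun s : Root D => ∏ k : Fin D.rank, c k ^ D.cartan k s) = fun _ => 1 from
      funext key, tor_one]

/-- The order of the fixed torus. -/
theorem natCard_H₀ [Finite K] {q : ℕ} (hfix : Nat.card {x : K // Φ.f x = x} = q)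
    (hK : Nat.card K = q ^ τ.cfg.k) :
    Nat.card Φ.H₀ *
        Nat.card {c : Fin D.rank → Kˣ //
          c ∈ Φ.fixC ∧ ∀ i : Fin D.rank, ChevSimple.chi c (pRoot τ.good i) = 1} =
      ∏ o : Fin τ.cfg.m, (q ^ τ.osize (τ.spR o) - 1) := by
  rw [← Finset.prod_congr rfl fun o _ => Φ.natCard_admU hfix hK (τ.spR o), ← natCard_fixC]
  set g : Φ.fixC →* GL D.Idx K := (torHom D K).comp Φ.fixC.subtype with hg
  have hr : g.range = Φ.H₀ := by rw [hg, MonoidHom.range_comp, Subgroup.range_subtype]; rfl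
  have hk : Nat.card g.ker = Nat.card {c : Fin D.rank → Kˣ //
      c ∈ Φ.fixC ∧ ∀ i : Fin D.rank, ChevSimple.chi c (pRoot τ.good i) = 1} :=
    Nat.card_congr
      { toFun := fun c => ⟨c.1.1, c.1.2, (torC_eq_one_iff τ.good _).1 c.2⟩
        invFun := fun c => ⟨⟨c.1, c.2.1⟩, (torC_eq_one_iff τ.good _).2 c.2.2⟩
        left_inv := fun _ => rfl
        right_inv := fun _ => rfl }
  rw [← hk, ← hr, ← Nat.card_congr (QuotientGroup.quotientKerEquivRange g).toEquiv,
    ← Subgroup.card_eq_card_quotient_mul_card_subgroup]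

end FieldTwist

end CfsgLib.GraphTwist
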