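import Cfsg.Agent.GraphTwist.Torus
import Mathlib.Algebra.BigOperators.Group.List.Basic

/-!
# The fixed points in the positive unipotent subgroup

`U` is the product over the orbits of positive roots, in the order of height, of the groups of the
orbits; the coordinates are unique, so the fixed points are products of orbit root elements.
-/

set_option autoImplicit false

namespace CfsgLib.GraphTwist

open Cfsg.Lie CfsgLib.Chevalley CfsgLib.Twisted
open scoped MatrixGroups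

namespace Setup

variable {D : ChevalleyDatum} (τ : Setup D)

/-- The number of positive orbits. -/
def norb : ℕ := τ.cfg.reps.length

theorem mem_pos_of_flat {r : ℕ} (h : r ∈ τ.cfg.reps.flatMap τ.cfg.orbN) :
    half D ≤ r ∧ r < D.nroots := by
  have h2 := τ.good.good.two_half
  have := List.mem_range'_1.1 ((List.isPerm_iff.1 τ.valid.posPerm).mem_iff.1 h)
  omega

theorem rep_lt {i : ℕ} (hi : i < τ.norb) :
    half D ≤ τ.cfg.reps.getD i 0 ∧ τ.cfg.reps.getD i 0 < D.nroots := by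
  refine τ.mem_pos_of_flat (r := τ.cfg.reps.getD i 0)
    (List.mem_flatMap.2 ⟨τ.cfg.reps.getD i 0, ?_, ?_⟩)
  · rw [List.getD_eq_getElem _ _ hi]; exact List.getElem_mem hi
  · refine List.mem_map.2 ⟨0, List.mem_range.2 ?_, rfl⟩
    simp only [Cfg.osize]
    split
    · exact Nat.one_pos
    · exact τ.k_pos

/-- The representative of a positive orbit. -/
def rep (i : Fin τ.norb) : Root D := ⟨τ.cfg.reps.getD i 0, (τ.rep_lt i.2).2⟩

theorem rep_pos (i : Fin τ.norb) : half D ≤ (τ.rep i : ℕ) := (τ.rep_lt i.2).1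

theorem orb_pos {r a : Root D} (hr : half D ≤ (r : ℕ)) (ha : a ∈ τ.orb r) :
    half D ≤ (a : ℕ) := by
  obtain ⟨j, rfl⟩ := τ.mem_orb_iff.1 ha
  exact (τ.σR_pow_pos j r).2 hr

theorem exists_orbPos {r : Root D} (hr : half D ≤ (r : ℕ)) :
    ∃ h : τ.cfg.orbPos r < τ.norb, r ∈ τ.orb (τ.rep ⟨_, h⟩) := by
  have h2 := τ.good.good.two_half
  have hmem : (r : ℕ) ∈ τ.cfg.reps.flatMap τ.cfg.orbN :=
    (List.isPerm_iff.1 τ.valid.posPerm).mem_iff.2 (List.mem_range'_1.2 ⟨hr, by omega⟩)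
  obtain ⟨a, ha, hra⟩ := List.mem_flatMap.1 hmem
  have hlt : τ.cfg.orbPos r < τ.norb :=
    List.findIdx_lt_length.2 ⟨a, ha, List.contains_iff_mem.2 hra⟩
  refine ⟨hlt, ?_⟩
  have := List.findIdx_getElem (w := hlt) (xs := τ.cfg.reps)
    (p := fun a => (τ.cfg.orbN a).contains (r : ℕ))
  rw [List.contains_iff_mem] at this
  refine τ.mem_orbN_iff.1 ?_
  show (r : ℕ) ∈ τ.cfg.orbN (τ.cfg.reps.getD (τ.cfg.orbPos r) 0)
  rw [List.getD_eq_getElem _ _ hlt]
  exact this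

theorem orbPos_eq {r : Root D} {i : Fin τ.norb} (h : r ∈ τ.orb (τ.rep i)) :
    τ.cfg.orbPos r = i := by
  obtain ⟨hlt, hmem⟩ := τ.exists_orbPos (τ.orb_pos (τ.rep_pos i) h)
  have hnd : (τ.cfg.reps.flatMap τ.cfg.orbN).Nodup :=
    (List.isPerm_iff.1 τ.valid.posPerm).nodup_iff.2 List.nodup_range'
  rw [List.flatMap_def] at hnd
  have hp := (List.nodup_flatten.1 hnd).2
  rw [List.pairwise_iff_getElem] at hp
  have mem : ∀ (a : ℕ) (ha : a < τ.norb), r ∈ τ.orb (τ.rep ⟨a, ha⟩) →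
      (r : ℕ) ∈ (τ.cfg.reps.map τ.cfg.orbN)[a]'(by rw [List.length_map]; exact ha) := by
    intro a ha h
    have := τ.mem_orbN_iff.2 h
    change (r : ℕ) ∈ τ.cfg.orbN (τ.cfg.reps.getD a 0) at this
    rw [List.getD_eq_getElem _ _ ha] at this
    rwa [List.getElem_map]
  rcases lt_trichotomy (τ.cfg.orbPos r) i with hl | he | hl
  · exact absurd (mem _ i.2 h) fun h'' => hp _ _ _ _ hl (mem _ hlt hmem) h''
  · exact he
  · exact absurd (mem _ hlt hmem) fun h'' => hp _ _ _ _ hl (mem _ i.2 h) h''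

theorem mem_orb_rep_iff {r : Root D} {i : Fin τ.norb} :
    r ∈ τ.orb (τ.rep i) ↔ half D ≤ (r : ℕ) ∧ τ.cfg.orbPos r = i := by
  refine ⟨fun h => ⟨τ.orb_pos (τ.rep_pos i) h, τ.orbPos_eq h⟩, fun ⟨h, e⟩ => ?_⟩
  obtain ⟨hlt, hm⟩ := τ.exists_orbPos h
  rwa [show (⟨_, hlt⟩ : Fin τ.norb) = i from Fin.ext e] at hm

theorem orbPos_σR {r : Root D} (hr : half D ≤ (r : ℕ)) :
    τ.cfg.orbPos (τ.σR r : Root D) = τ.cfg.orbPos r := by
  obtain ⟨hlt, hm⟩ := τ.exists_orbPos hr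
  obtain ⟨j, e⟩ := τ.mem_orb_iff.1 hm
  exact τ.orbPos_eq (i := ⟨_, hlt⟩)
    (τ.mem_orb_iff.2 ⟨j + 1, by rw [pow_succ', Equiv.Perm.mul_apply, e]⟩)

theorem orbPos_orb {r a : Root D} (hr : half D ≤ (r : ℕ)) (ha : a ∈ τ.orb r) :
    τ.cfg.orbPos a = τ.cfg.orbPos r := by
  obtain ⟨j, rfl⟩ := τ.mem_orb_iff.1 ha
  induction j with
  | zero => rfl
  | succ j ih =>
    rw [pow_succ', Equiv.Perm.mul_apply, τ.orbPos_σR ((τ.σR_pow_pos j r).2 hr),
      ih (τ.mem_orb_iff.2 ⟨j, rfl⟩)]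

theorem orb_perm {r a : Root D} (ha : a ∈ τ.orb r) : (τ.orb a).Perm (τ.orb r) := by
  refine (List.perm_ext_iff_of_nodup (τ.orb_nodup a) (τ.orb_nodup r)).2 fun b => ⟨fun hb => ?_,
    fun hb => ?_⟩
  · obtain ⟨i, rfl⟩ := τ.mem_orb_iff.1 hb
    obtain ⟨j, rfl⟩ := τ.mem_orb_iff.1 ha
    exact τ.mem_orb_iff.2 ⟨i + j, by rw [pow_add, Equiv.Perm.mul_apply]⟩
  · exact τ.orb_disjoint (τ.self_mem_orb b) (by
      obtain ⟨i, rfl⟩ := τ.mem_orb_iff.1 hb
      obtain ⟨j, e⟩ := τ.mem_orb_iff.1 (τ.orb_disjoint ha (τ.self_mem_orb a) : r ∈ τ.orb a)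
      exact τ.mem_orb_iff.2 ⟨i + j, by rw [pow_add, Equiv.Perm.mul_apply, e]⟩)

/-- The positive roots in the orbits from `i` on. -/
def tailSet (i : ℕ) : Set (Root D) := {r | half D ≤ (r : ℕ) ∧ i ≤ τ.cfg.orbPos r}

theorem tailSet_norb : τ.tailSet τ.norb = ∅ :=
  Set.eq_empty_of_forall_notMem fun r hr => by
    obtain ⟨h, -⟩ := τ.exists_orbPos hr.1
    exact absurd hr.2 (by omega)

theorem tailSet_zero : τ.tailSet 0 = posSet D :=
  Set.ext fun _ => ⟨fun h => h.1, fun h => ⟨h, Nat.zero_le _⟩⟩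

/-- The group of a tail. -/
abbrev uT (K : Type*) [Field K] (i : ℕ) : Subgroup (GL D.Idx K) :=
  rootGen τ.good.good K (τ.tailSet i)

variable {K : Type*} [Field K]

theorem uT_zero : τ.uT K 0 = D.posUnipotent K := by
  rw [uT, τ.tailSet_zero, posUnipotent_eq_rootGen τ.good.good]

theorem uT_norb : τ.uT K τ.norb = ⊥ := by
  rw [uT, τ.tailSet_norb, eq_bot_iff]
  exact rootGen_le _ fun r hr => absurd hr (Set.notMem_empty r)

theorem uT_anti {i j : ℕ} (h : i ≤ j) : τ.uT K j ≤ τ.uT K i :=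
  rootGen_mono _ fun _ hr => ⟨hr.1, h.trans hr.2⟩

theorem commRhs_mem_uT {r s : Root D} (hr : half D ≤ (r : ℕ)) (hs : half D ≤ (s : ℕ)) {i : ℕ}
    (hi : i ≤ τ.cfg.orbPos r) (t u : K) :
    commRhs τ.good.good r s t u ∈ τ.uT K (i + 1) := by
  refine Subgroup.list_prod_mem _ fun x hx => ?_
  simp only [List.map_map, List.mem_map, Function.comp_apply] at hx
  obtain ⟨c, hc, rfl⟩ := hx
  obtain ⟨h1, h2, h3, -⟩ := τ.valid.step' τ.good.good r.2 hr s.2 hs c hc
  rw [dif_pos h1]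
  exact X_mem_rootGen _ (S := τ.tailSet (i + 1))
    ⟨h2, show i + 1 ≤ τ.cfg.orbPos c.1 by omega⟩ _

theorem conj_mem_uT {s : Root D} (hs : half D ≤ (s : ℕ)) (v : K) (i : ℕ) {g : GL D.Idx K}
    (hg : g ∈ τ.uT K i) :
    X τ.good.good s v * g * (X τ.good.good s v)⁻¹ ∈ τ.uT K i := by
  suffices H : ∀ n i, τ.norb ≤ i + n → ∀ {g : GL D.Idx K}, g ∈ τ.uT K i →
      X τ.good.good s v * g * (X τ.good.good s v)⁻¹ ∈ τ.uT K i from H τ.norb i (by omega) hg
  intro n
  induction n with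
  | zero =>
    intro i hi g hg
    have := τ.uT_anti (K := K) (show τ.norb ≤ i by omega) hg
    rw [τ.uT_norb, Subgroup.mem_bot] at this
    simp [this]
  | succ n ih =>
    intro i hi g hg
    refine (rootGen_le τ.good.good (K := (τ.uT K i).comap
      (MulAut.conj (X τ.good.good s v)).toMonoidHom) fun r hr t => ?_) hg
    show X τ.good.good s v * X τ.good.good r t * (X τ.good.good s v)⁻¹ ∈ τ.uT K i
    rcases eq_or_ne s r with rfl | hne
    · rw [X_mul, X_inv, X_mul, show v + t + -v = t by ring]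
      exact X_mem_rootGen _ hr t
    have hne' : s ≠ r.rev := by
      intro e
      rw [e, Fin.val_rev] at hs
      have := τ.good.good.two_half
      have := hr.1
      omega
    rw [X_comm τ.good.toGoodComm r s hne hne' t v,
      show ∀ p q W : GL D.Idx K, p * q * W * q⁻¹ = p * (q * W * q⁻¹) from fun p q W => by group]
    exact mul_mem (X_mem_rootGen _ hr t) (τ.uT_anti (Nat.le_succ i)
      (ih (i + 1) (by omega) (τ.commRhs_mem_uT hr.1 hs hr.2 t v)))

theorem pos_le_normalizer_uT (i : ℕ) :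
    D.posUnipotent K ≤ Subgroup.normalizer (τ.uT K i : Set (GL D.Idx K)) := by
  rw [posUnipotent_eq_rootGen τ.good.good]
  refine rootGen_le _ fun s hs v => Subgroup.mem_normalizer_iff.2 fun g => ⟨τ.conj_mem_uT hs v i,
    fun h => ?_⟩
  have := τ.conj_mem_uT hs (-v) i h
  rwa [← X_inv, show ∀ q h : GL D.Idx K, q⁻¹ * (q * h * q⁻¹) * q⁻¹⁻¹ = h from
    fun q h => by group] at this

/-- The product over an orbit. -/
def orbMul (r : Root D) (t : Root D → K) : GL D.Idx K :=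
  ((τ.orb r).map fun a => X τ.good.good a (t a)).prod

theorem orbMul_congr {r : Root D} {t u : Root D → K} (h : ∀ a ∈ τ.orb r, t a = u a) :
    τ.orbMul r t = τ.orbMul r u :=
  congrArg List.prod (List.map_congr_left fun a ha => by rw [h a ha])

theorem orbMul_mul (r : Root D) (t u : Root D → K) :
    τ.orbMul r t * τ.orbMul r u = τ.orbMul r fun a => t a + u a := by
  rw [orbMul, orbMul, orbMul, ← prod_map_mul_of_commute _ _ _ (τ.orb_nodup r)]
  · simp only [X_mul]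
  · exact fun a ha b hb _ => FieldTwist.commute_X_orb ha hb _ _

theorem orbMul_zero (r : Root D) : τ.orbMul r (fun _ => (0 : K)) = 1 := by
  simp [orbMul, X_zero]

theorem orbMul_of_perm {r a : Root D} (ha : a ∈ τ.orb r) (t : Root D → K) :
    τ.orbMul a t = τ.orbMul r t := by
  refine ((τ.orb_perm ha).map _).prod_eq' (List.pairwise_of_forall_mem_list fun x hx y hy => ?_)
  obtain ⟨b, hb, rfl⟩ := List.mem_map.1 hx
  obtain ⟨c, hc, rfl⟩ := List.mem_map.1 hy
  exact FieldTwist.commute_X_orb ((τ.orb_perm ha).mem_iff.1 hb) ((τ.orb_perm ha).mem_iff.1 hc) _ _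

theorem orbMul_mem_rootGen (r : Root D) (t : Root D → K) :
    τ.orbMul r t ∈ rootGen τ.good.good K {a | a ∈ τ.orb r} := by
  refine Subgroup.list_prod_mem _ fun x hx => ?_
  obtain ⟨a, ha, rfl⟩ := List.mem_map.1 hx
  exact X_mem_rootGen _ ha _

theorem exists_orbMul {r : Root D} {g : GL D.Idx K}
    (hg : g ∈ rootGen τ.good.good K {a | a ∈ τ.orb r}) : ∃ t, τ.orbMul r t = g := by
  classical
  induction hg using Subgroup.closure_induction with
  | mem x hx =>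
    obtain ⟨a, ha, t, rfl⟩ := hx
    refine ⟨Pi.single a t, ?_⟩
    have hnd := τ.orb_nodup r
    rw [orbMul]
    clear * - ha hnd
    replace ha : a ∈ τ.orb r := ha
    generalize τ.orb r = L at ha hnd ⊢
    induction L with
    | nil => simp at ha
    | cons b L ih =>
      rw [List.nodup_cons] at hnd
      rw [List.map_cons, List.prod_cons]
      rcases eq_or_ne a b with rfl | hab
      · rw [Pi.single_eq_same, List.prod_eq_one, mul_one]
        intro x hx
        obtain ⟨c, hc, rfl⟩ := List.mem_map.1 hx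
        rw [Pi.single_eq_of_ne (fun e : c = a => hnd.1 (e ▸ hc)), X_zero]
      · rw [Pi.single_eq_of_ne hab.symm, X_zero, one_mul,
          ih ((List.mem_cons.1 ha).resolve_left hab) hnd.2]
  | one => exact ⟨_, τ.orbMul_zero r⟩
  | mul x y _ _ hx hy =>
    obtain ⟨t, rfl⟩ := hx
    obtain ⟨u, rfl⟩ := hy
    exact ⟨_, (τ.orbMul_mul r t u).symm⟩
  | inv x _ hx =>
    obtain ⟨t, rfl⟩ := hx
    refine ⟨fun a => -t a, eq_inv_of_mul_eq_one_left ?_⟩
    rw [orbMul_mul]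
    simp [orbMul_zero]

theorem orb_subset_tail {r : Root D} (hr : half D ≤ (r : ℕ)) {i : ℕ} (hi : i ≤ τ.cfg.orbPos r) :
    {a | a ∈ τ.orb r} ⊆ τ.tailSet i :=
  fun a ha => ⟨τ.orb_pos hr ha, by rw [τ.orbPos_orb hr ha]; exact hi⟩

theorem exists_split_uT {i : Fin τ.norb} {g : GL D.Idx K} (hg : g ∈ τ.uT K i) :
    ∃ a ∈ rootGen τ.good.good K {b | b ∈ τ.orb (τ.rep i)}, ∃ b ∈ τ.uT K (i + 1 : ℕ),
      g = a * b := by
  have hnorm : ∀ {a}, a ∈ rootGen τ.good.good K {b | b ∈ τ.orb (τ.rep i)} →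
      a ∈ Subgroup.normalizer (τ.uT K ((i : ℕ) + 1) : Set (GL D.Idx K)) := fun {a} ha =>
    τ.pos_le_normalizer_uT _ (by
      rw [posUnipotent_eq_rootGen τ.good.good]
      exact rootGen_mono _ (fun b hb => τ.orb_pos (τ.rep_pos i) hb) ha)
  induction hg using Subgroup.closure_induction with
  | mem x hx =>
    obtain ⟨r, hr, t, rfl⟩ := hx
    rcases (Nat.eq_or_lt_of_le hr.2) with e | hlt
    · exact ⟨_, X_mem_rootGen _ (S := {b | b ∈ τ.orb (τ.rep i)})
        (τ.mem_orb_rep_iff.2 ⟨hr.1, e.symm⟩) t, 1, one_mem _, (mul_one _).symm⟩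
    · exact ⟨1, one_mem _, _, X_mem_rootGen _ (S := τ.tailSet (i + 1)) ⟨hr.1, hlt⟩ t,
        (one_mul _).symm⟩
  | one => exact ⟨1, one_mem _, 1, one_mem _, (one_mul 1).symm⟩
  | mul x y _ _ hx hy =>
    obtain ⟨a, ha, b, hb, rfl⟩ := hx
    obtain ⟨a', ha', b', hb', rfl⟩ := hy
    refine ⟨a * a', mul_mem ha ha', a'⁻¹ * b * a' * b', mul_mem ?_ hb', by group⟩
    have := (Subgroup.mem_normalizer_iff.1 (hnorm (inv_mem ha')) b).1 hb
    rwa [inv_inv] at this
  | inv x _ hx =>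
    obtain ⟨a, ha, b, hb, rfl⟩ := hx
    exact ⟨a⁻¹, inv_mem ha, a * b⁻¹ * a⁻¹,
      (Subgroup.mem_normalizer_iff.1 (hnorm ha) _).1 (inv_mem hb), by group⟩

/-- The factor of the `j`-th orbit. -/
def factor (t : Root D → K) (j : ℕ) : GL D.Idx K :=
  if h : j < τ.norb then τ.orbMul (τ.rep ⟨j, h⟩) t else 1

/-- The product of the factors from the `i`-th on. -/
def tailMul (i : ℕ) (t : Root D → K) : GL D.Idx K :=
  ((List.range' i (τ.norb - i)).map (τ.factor t)).prod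

theorem tailMul_norb (t : Root D → K) : τ.tailMul τ.norb t = 1 := by simp [tailMul]

theorem tailMul_succ (i : Fin τ.norb) (t : Root D → K) :
    τ.tailMul i t = τ.orbMul (τ.rep i) t * τ.tailMul (i + 1 : ℕ) t := by
  rw [tailMul, show τ.norb - (i : ℕ) = (τ.norb - ((i : ℕ) + 1)) + 1 by omega, List.range'_succ,
    List.map_cons, List.prod_cons, factor, dif_pos i.2]
  rfl

theorem tailMul_congr {i : ℕ} {t u : Root D → K}
    (h : ∀ r : Root D, half D ≤ (r : ℕ) → i ≤ τ.cfg.orbPos r → t r = u r) :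
    τ.tailMul i t = τ.tailMul i u := by
  refine congrArg List.prod (List.map_congr_left fun j hj => ?_)
  rw [List.mem_range'_1] at hj
  rw [factor, factor]
  split
  · next hlt =>
    refine τ.orbMul_congr fun a ha => ?_
    obtain ⟨h1, h2⟩ := τ.mem_orb_rep_iff.1 ha
    have h3 : τ.cfg.orbPos a = j := h2
    exact h a h1 (by omega)
  · rfl

theorem exists_tailMul (n : ℕ) : ∀ (i : ℕ), i + n = τ.norb → ∀ g ∈ τ.uT K i,
    ∃ t : Root D → K, τ.tailMul i t = g := by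
  induction n with
  | zero =>
    intro i hi g hg
    rw [show i = τ.norb by omega, τ.uT_norb, Subgroup.mem_bot] at hg
    exact ⟨0, by rw [show i = τ.norb by omega, tailMul_norb, hg]⟩
  | succ n ih =>
    intro i hi g hg
    obtain ⟨a, ha, b, hb, rfl⟩ := τ.exists_split_uT (i := ⟨i, by omega⟩) hg
    obtain ⟨t, rfl⟩ := τ.exists_orbMul ha
    obtain ⟨u, rfl⟩ := ih (i + 1) (by omega) b hb
    refine ⟨fun r => if τ.cfg.orbPos r = i then t r else u r, ?_⟩
    rw [show τ.tailMul i _ = _ from τ.tailMul_succ ⟨i, by omega⟩ _]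
    congr 1
    · exact τ.orbMul_congr fun r hr => if_pos (τ.mem_orb_rep_iff.1 hr).2
    · refine τ.tailMul_congr fun r _ hr' => if_neg ?_
      have h3 : i + 1 ≤ τ.cfg.orbPos r := hr'
      omega

theorem factor_mem (t : Root D → K) (j : ℕ) : τ.factor t j ∈ τ.uT K j := by
  rw [factor]
  split
  · next h =>
    exact rootGen_mono _ (τ.orb_subset_tail (τ.rep_pos _)
      (τ.orbPos_eq (i := ⟨j, h⟩) (τ.self_mem_orb _)).ge) (τ.orbMul_mem_rootGen _ t)
  · exact one_mem _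

theorem tailMul_mem (i : ℕ) (t : Root D → K) : τ.tailMul i t ∈ τ.uT K i := by
  refine Subgroup.list_prod_mem _ fun x hx => ?_
  obtain ⟨j, hj, rfl⟩ := List.mem_map.1 hx
  rw [List.mem_range'_1] at hj
  exact τ.uT_anti hj.1 (τ.factor_mem t j)

theorem tailMul_injective [Finite K] {t u : Root D → K} (h : τ.tailMul 0 t = τ.tailMul 0 u)
    {r : Root D} (hr : half D ≤ (r : ℕ)) : t r = u r := by
  classical
  let Pos := {r : Root D // half D ≤ (r : ℕ)}
  let ext' : (Pos → K) → Root D → K := fun v r => if h : half D ≤ (r : ℕ) then v ⟨r, h⟩ else 0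
  let φ : (Pos → K) → ↥(τ.uT K 0) := fun v => ⟨_, τ.tailMul_mem 0 (ext' v)⟩
  have hsurj : Function.Surjective φ := by
    rintro ⟨g, hg⟩
    obtain ⟨t, rfl⟩ := τ.exists_tailMul τ.norb 0 (Nat.zero_add _) g hg
    refine ⟨fun r => t r.1, Subtype.ext (τ.tailMul_congr fun r hr _ => ?_)⟩
    simp [ext', hr]
  have hcard : Nat.card (Pos → K) = Nat.card ↥(τ.uT K 0) := by
    rw [τ.uT_zero, posUnipotent_eq τ.good.good, natCard_uGe τ.good.toGoodUni, Nat.card_fun]
    congr 1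
    have h2 := τ.good.good.two_half
    rw [Nat.card_eq_fintype_card]
    refine Fintype.card_eq_nat_card.trans ?_
    refine (Nat.card_congr (β := Fin (half D))
      { toFun := fun r => ⟨(r.1 : ℕ) - half D, by have := r.1.2; omega⟩
        invFun := fun j => ⟨⟨half D + j, by omega⟩, Nat.le_add_right _ _⟩
        left_inv := fun r => Subtype.ext (Fin.ext (Nat.add_sub_cancel' r.2))
        right_inv := fun j => Fin.ext (Nat.add_sub_cancel_left _ _) }).trans (Nat.card_fin _)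
  have hinj := ((Nat.bijective_iff_surjective_and_card φ).2 ⟨hsurj, hcard⟩).1
  have := hinj (a₁ := fun r => t r.1) (a₂ := fun r => u r.1) (Subtype.ext (by
    refine (τ.tailMul_congr fun r hr _ => ?_).trans (h.trans (τ.tailMul_congr fun r hr _ => ?_)) <;>
      simp [ext', hr]))
  exact congrFun this ⟨r, hr⟩

theorem tailMul_of_support {i : ℕ} {t : Root D → K} (hi : i ≤ τ.norb)
    (h : ∀ r : Root D, half D ≤ (r : ℕ) → τ.cfg.orbPos r < i → t r = 0) :
    τ.tailMul 0 t = τ.tailMul i t := by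
  induction i with
  | zero => rfl
  | succ i ih =>
    rw [ih (by omega) (fun r hr hr' => h r hr (by omega)),
      show τ.tailMul i t = _ from τ.tailMul_succ ⟨i, hi⟩ t, τ.orbMul_congr (u := fun _ => 0),
      orbMul_zero, one_mul]
    intro a ha
    obtain ⟨h1, h2⟩ := τ.mem_orb_rep_iff.1 ha
    exact h a h1 (by rw [h2]; exact Nat.lt_succ_self i)

theorem orbMul_eq_tailMul {r : Root D} (hr : half D ≤ (r : ℕ)) (t : Root D → K) :
    τ.orbMul r t =
      τ.tailMul 0 fun a => if τ.cfg.orbPos a = τ.cfg.orbPos r then t a else 0 := by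
  obtain ⟨hlt, hm⟩ := τ.exists_orbPos hr
  rw [τ.tailMul_of_support hlt.le fun a _ ha => if_neg (Nat.ne_of_lt ha),
    show τ.tailMul (τ.cfg.orbPos r) _ = _ from τ.tailMul_succ ⟨_, hlt⟩ _,
    τ.tailMul_congr (u := fun _ => 0) fun a _ ha => if_neg (Ne.symm (Nat.ne_of_lt ha)),
    τ.orbMul_congr (u := t) fun a ha => if_pos (τ.mem_orb_rep_iff.1 ha).2,
    ← τ.orbMul_of_perm hm]
  rw [τ.orbMul_congr (r := r) (u := t) fun _ _ => rfl]
  symm
  rw [mul_eq_left]
  refine List.prod_eq_one fun x hx => ?_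
  obtain ⟨j, -, rfl⟩ := List.mem_map.1 hx
  rw [factor]
  split
  · exact τ.orbMul_zero _
  · rfl

theorem orbMul_injective [Finite K] {r : Root D} (hr : half D ≤ (r : ℕ)) {t u : Root D → K}
    (h : τ.orbMul r t = τ.orbMul r u) {a : Root D} (ha : a ∈ τ.orb r) : t a = u a := by
  rw [τ.orbMul_eq_tailMul hr, τ.orbMul_eq_tailMul hr] at h
  simpa [τ.orbPos_orb hr ha] using τ.tailMul_injective h (τ.orb_pos hr ha)

/-- The group of an orbit meets the following tail trivially. -/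
theorem orb_inf_tail [Finite K] (i : Fin τ.norb) {g : GL D.Idx K}
    (h1 : g ∈ rootGen τ.good.good K {b | b ∈ τ.orb (τ.rep i)})
    (h2 : g ∈ τ.uT K (i + 1 : ℕ)) : g = 1 := by
  obtain ⟨t, rfl⟩ := τ.exists_orbMul h1
  have hi := i.2
  obtain ⟨u, hu⟩ := τ.exists_tailMul (τ.norb - ((i : ℕ) + 1)) (i + 1 : ℕ) (by omega) _ h2
  set u' : Root D → K := fun a => if (i : ℕ) < τ.cfg.orbPos a then u a else 0
  have hu' : τ.tailMul (i + 1 : ℕ) u = τ.tailMul 0 u' := by
    rw [τ.tailMul_of_support (i := (i : ℕ) + 1) (t := u') (by omega)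
      fun a _ ha => if_neg (show ¬ ((i : ℕ) < τ.cfg.orbPos a) by omega)]
    exact τ.tailMul_congr fun a _ ha => (if_pos (show (i : ℕ) < τ.cfg.orbPos a by omega)).symm
  rw [hu', τ.orbMul_eq_tailMul (τ.rep_pos i), τ.orbPos_eq (τ.self_mem_orb (τ.rep i))] at hu
  rw [τ.orbMul_congr (u := fun _ => 0), orbMul_zero]
  intro a ha
  obtain ⟨h3, h4⟩ := τ.mem_orb_rep_iff.1 ha
  have := τ.tailMul_injective hu h3
  simpa [u', h4] using this.symm

end Setup

namespace FieldTwist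

variable {D : ChevalleyDatum} {τ : Setup D} {K : Type*} [Field K] (Φ : FieldTwist τ K)

theorem Ψ_mem_rootGen {S : Set (Root D)} (hS : ∀ r ∈ S, τ.σR r ∈ S) {g : GL D.Idx K}
    (hg : g ∈ rootGen τ.good.good K S) : Φ.Ψ g ∈ rootGen τ.good.good K S := by
  refine (rootGen_le τ.good.good (K := (rootGen τ.good.good K S).comap Φ.Ψ.toMonoidHom)
    fun r hr t => ?_) hg
  show Φ.Ψ _ ∈ rootGen τ.good.good K S
  rw [Ψ_X]
  exact X_mem_rootGen _ (hS r hr) _

/-- A fixed element of a positive orbit group is an orbit root element. -/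
theorem eq_oX [Finite K] {r : Root D} (hr : half D ≤ (r : ℕ)) {g : GL D.Idx K}
    (hg : g ∈ rootGen τ.good.good K {a | a ∈ τ.orb r}) (hf : g ∈ Φ.fix) :
    ∃ x, Φ.Adm r x ∧ Φ.oX r x = g := by
  obtain ⟨t, rfl⟩ := τ.exists_orbMul hg
  let t' : Root D → K := fun a =>
    (τ.cfg.S.sgn (τ.σR.symm a : Root D) : K) * Φ.f (t (τ.σR.symm a))
  have h1 : Φ.Ψ (τ.orbMul r t) = τ.orbMul r t' := by
    rw [Setup.orbMul, map_list_prod, List.map_map]
    have e : (τ.orb r).map (Φ.Ψ ∘ fun a => X τ.good.good a (t a)) =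
        ((τ.orb r).map τ.σR).map fun a => X τ.good.good a (t' a) := by
      rw [List.map_map]
      refine List.map_congr_left fun a _ => ?_
      simp [t', Function.comp_apply, Ψ_X]
    rw [e]
    refine ((τ.orb_map_σR r).map _).prod_eq' (List.pairwise_of_forall_mem_list fun x hx y hy => ?_)
    obtain ⟨b, hb, rfl⟩ := List.mem_map.1 hx
    obtain ⟨c, hc, rfl⟩ := List.mem_map.1 hy
    exact commute_X_orb ((τ.orb_map_σR r).mem_iff.1 hb) ((τ.orb_map_σR r).mem_iff.1 hc) _ _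
  rw [Φ.mem_fix.1 hf] at h1
  have hstep : ∀ a ∈ τ.orb r, t (τ.σR a) = (τ.cfg.S.sgn a : K) * Φ.f (t a) := by
    intro a ha
    have := τ.orbMul_injective hr h1 (a := τ.σR a)
      ((τ.orb_map_σR r).mem_iff.1 (List.mem_map_of_mem ha))
    simpa [t'] using this
  have htw : ∀ j, t ((τ.σR ^ j) r) = Φ.tw j r (t r) := by
    intro j
    induction j with
    | zero => rfl
    | succ j ih =>
      rw [pow_succ', Equiv.Perm.mul_apply, hstep _ (τ.mem_orb_iff.2 ⟨j, rfl⟩), ih, tw]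
  refine ⟨t r, fun hfix => ?_, ?_⟩
  · have := hstep r (τ.self_mem_orb r)
    rw [hfix, (τ.valid.root' r.2).2.2.2.2.1 (by rw [← τ.σR_val, hfix]), Int.cast_one, one_mul]
      at this
    exact this.symm
  · rw [oX, Setup.orbMul, Setup.orb, List.map_map]
    exact congrArg List.prod (List.map_congr_left fun j _ => by
      rw [Function.comp_apply, Ψ_pow_X, htw])

theorem oX_injective [Finite K] {r : Root D} (hr : half D ≤ (r : ℕ)) {x y : K}
    (h : Φ.oX r x = Φ.oX r y) : x = y := by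
  classical
  have e : ∀ x, Φ.oX r x = τ.orbMul r fun a =>
      Φ.tw ((τ.orb r).idxOf a) r x := by
    intro x
    rw [oX, Setup.orbMul, Setup.orb, List.map_map]
    refine congrArg List.prod (List.map_congr_left fun j hj => ?_)
    rw [Function.comp_apply, Ψ_pow_X]
    congr 2
    have hlen : j < (τ.orb r).length := by simpa [Setup.orb] using List.mem_range.1 hj
    rw [show (τ.σR ^ j) r = (τ.orb r)[j] by simp [Setup.orb]]
    exact ((τ.orb_nodup r).idxOf_getElem j hlen).symm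
  rw [e, e] at h
  have := τ.orbMul_injective hr h (τ.self_mem_orb r)
  have h0 : (τ.orb r).idxOf r = 0 := by
    have hlen : 0 < (τ.orb r).length := by simp [Setup.orb, τ.osize_pos r]
    have h := (τ.orb_nodup r).idxOf_getElem 0 hlen
    rwa [show (τ.orb r)[0] = r by simp [Setup.orb]] at h
  simpa [h0, tw] using this

/-- The fixed points in a tail. -/
def u1 (i : ℕ) : Subgroup (GL D.Idx K) := τ.uT K i ⊓ Φ.fix

theorem exists_split_u1 [Finite K] (i : Fin τ.norb) {g : GL D.Idx K} (hg : g ∈ Φ.u1 i) :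
    ∃ x, Φ.Adm (τ.rep i) x ∧ ∃ b ∈ Φ.u1 (i + 1 : ℕ), g = Φ.oX (τ.rep i) x * b := by
  obtain ⟨a, ha, b, hb, rfl⟩ := τ.exists_split_uT hg.1
  have hσ : ∀ S : Set (Root D), (∀ r ∈ S, τ.σR r ∈ S) → ∀ x ∈ rootGen τ.good.good K S,
      Φ.Ψ x ∈ rootGen τ.good.good K S := fun S hS x hx => Φ.Ψ_mem_rootGen hS hx
  have h1 : Φ.Ψ a ∈ rootGen τ.good.good K {c | c ∈ τ.orb (τ.rep i)} :=
    hσ {c | c ∈ τ.orb (τ.rep i)}
      (fun r hr => (τ.orb_map_σR (τ.rep i)).mem_iff.1 (List.mem_map_of_mem hr)) a ha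
  have h2 : Φ.Ψ b ∈ τ.uT K ((i : ℕ) + 1) :=
    hσ (τ.tailSet ((i : ℕ) + 1)) (fun r hr => ⟨(τ.σR_pos r).2 hr.1, by rw [τ.orbPos_σR hr.1]; exact hr.2⟩) b hb
  have hab : Φ.Ψ (a * b) = a * b := Φ.mem_fix.1 hg.2
  rw [map_mul] at hab
  have he : a⁻¹ * Φ.Ψ a = b * (Φ.Ψ b)⁻¹ := by
    calc a⁻¹ * Φ.Ψ a = a⁻¹ * (Φ.Ψ a * Φ.Ψ b) * (Φ.Ψ b)⁻¹ := by group
      _ = _ := by rw [hab]; group
  have h0 := τ.orb_inf_tail i (mul_mem (inv_mem ha) h1) (he ▸ mul_mem hb (inv_mem h2))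
  have hbb : b = Φ.Ψ b := by rw [h0] at he; exact mul_inv_eq_one.1 he.symm
  obtain ⟨x, hx, rfl⟩ := Φ.eq_oX (τ.rep_pos i) ha (Φ.mem_fix.2 (inv_mul_eq_one.1 h0).symm)
  exact ⟨x, hx, b, ⟨hb, Φ.mem_fix.2 hbb.symm⟩, rfl⟩

theorem u1_induction [Finite K] {L : Subgroup (GL D.Idx K)}
    (h : ∀ (i : Fin τ.norb) (x : K), Φ.Adm (τ.rep i) x → Φ.oX (τ.rep i) x ∈ L) :
    D.posUnipotent K ⊓ Φ.fix ≤ L := by
  rw [← τ.uT_zero]
  suffices H : ∀ n i, i + n = τ.norb → Φ.u1 i ≤ L from H τ.norb 0 (Nat.zero_add _)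
  intro n
  induction n with
  | zero =>
    intro i hi g hg
    have : g = 1 := Subgroup.mem_bot.1 (τ.uT_norb (K := K) ▸ (show i = τ.norb by omega) ▸ hg.1)
    rw [this]; exact one_mem L
  | succ n ih =>
    intro i hi g hg
    obtain ⟨x, hx, b, hb, rfl⟩ := Φ.exists_split_u1 ⟨i, by omega⟩ hg
    exact mul_mem (h _ x hx) (ih (i + 1) (by omega) hb)

theorem natCard_adm [Finite K] {q : ℕ} (hfix : Nat.card {x : K // Φ.f x = x} = q)
    (hK : Nat.card K = q ^ τ.cfg.k) (r : Root D) :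
    Nat.card {x : K // Φ.Adm r x} = q ^ τ.osize r := by
  rw [τ.osize_eq]
  split
  · next h =>
    rw [pow_one, ← hfix]
    exact Nat.card_congr (Equiv.subtypeEquivRight fun x => ⟨fun hx => hx h, fun hx _ => hx⟩)
  · next h =>
    rw [← hK]
    exact Nat.card_congr (Equiv.subtypeUnivEquiv fun x hh => absurd hh h)

/-- The number of fixed points in `U`. -/
theorem natCard_u1 [Finite K] {q : ℕ} (hfix : Nat.card {x : K // Φ.f x = x} = q)
    (hK : Nat.card K = q ^ τ.cfg.k) :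
    Nat.card ↥(D.posUnipotent K ⊓ Φ.fix) = q ^ half D := by
  have key : ∀ n i, i + n = τ.norb →
      Nat.card (Φ.u1 i) = q ^ (((τ.cfg.reps.drop i).map τ.cfg.osize).sum) := by
    intro n
    induction n with
    | zero =>
      intro i hi
      have hi : i = τ.norb := by omega
      subst hi
      have hbot : Φ.u1 τ.norb = ⊥ := by rw [u1, τ.uT_norb, bot_inf_eq]
      rw [hbot, Subgroup.card_bot, Setup.norb, List.drop_length]
      rfl
    | succ n ih =>
      intro i hi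
      have hlt : i < τ.norb := by omega
      have hrec : τ.cfg.reps.drop i = τ.cfg.reps.getD i 0 :: τ.cfg.reps.drop (i + 1) := by
        rw [List.getD_eq_getElem _ _ hlt]
        exact List.drop_eq_getElem_cons hlt
      rw [hrec, List.map_cons, List.sum_cons, pow_add, ← ih (i + 1) (by omega),
        show τ.cfg.osize (τ.cfg.reps.getD i 0) = τ.osize (τ.rep ⟨i, hlt⟩) from rfl,
        ← Φ.natCard_adm hfix hK, ← Nat.card_prod]
      let φ : {x : K // Φ.Adm (τ.rep ⟨i, hlt⟩) x} × Φ.u1 (i + 1) → Φ.u1 i := fun p =>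
        ⟨Φ.oX (τ.rep ⟨i, hlt⟩) p.1 * p.2,
          mul_mem ⟨rootGen_mono _ (τ.orb_subset_tail (τ.rep_pos _)
            (τ.orbPos_eq (i := ⟨i, hlt⟩) (τ.self_mem_orb _)).ge) (Φ.oX_mem_rootGen _ _),
            Φ.oX_mem_fix p.1.2⟩ ⟨τ.uT_anti (Nat.le_succ i) p.2.2.1, p.2.2.2⟩⟩
      refine (Nat.card_eq_of_bijective φ ⟨?_, ?_⟩).symm
      · rintro ⟨⟨x, hx⟩, ⟨b, hb⟩⟩ ⟨⟨y, hy⟩, ⟨c, hc⟩⟩ e
        have e' : Φ.oX (τ.rep ⟨i, hlt⟩) x * b = Φ.oX (τ.rep ⟨i, hlt⟩) y * c := congrArg Subtype.val e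
        have h1 : (Φ.oX (τ.rep ⟨i, hlt⟩) y)⁻¹ * Φ.oX (τ.rep ⟨i, hlt⟩) x = c * b⁻¹ := by
          calc (Φ.oX (τ.rep ⟨i, hlt⟩) y)⁻¹ * Φ.oX (τ.rep ⟨i, hlt⟩) x
              = (Φ.oX (τ.rep ⟨i, hlt⟩) y)⁻¹ * (Φ.oX (τ.rep ⟨i, hlt⟩) x * b) * b⁻¹ := by group
            _ = _ := by rw [e']; group
        have h0 := τ.orb_inf_tail ⟨i, hlt⟩
          (mul_mem (inv_mem (Φ.oX_mem_rootGen _ y)) (Φ.oX_mem_rootGen _ x))
          (h1 ▸ mul_mem hc.1 (inv_mem hb.1))
        obtain rfl : x = y := (Φ.oX_injective (τ.rep_pos _) (inv_mul_eq_one.1 h0)).symm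
        obtain rfl : b = c := mul_left_cancel e'
        rfl
      · rintro ⟨g, hg⟩
        obtain ⟨x, hx, b, hb, rfl⟩ := Φ.exists_split_u1 ⟨i, hlt⟩ hg
        exact ⟨⟨⟨x, hx⟩, ⟨b, hb⟩⟩, rfl⟩
  have h0 := key τ.norb 0 (Nat.zero_add _)
  rw [u1, τ.uT_zero] at h0
  rw [h0, List.drop_zero]
  congr 1
  have := (List.isPerm_iff.1 τ.valid.posPerm).length_eq
  rw [List.length_flatMap, List.length_range'] at this
  rw [← this]
  simp [Cfg.orbN, Function.comp_def]

end FieldTwist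

end CfsgLib.GraphTwist
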